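import Groth.Agent.L24.GenQuot.QSRestrict
import Groth.Agent.L24.Quot.QuasiSection
import Groth.Agent.L24.Quot.Restrict
import Groth.Agent.L24.CoarseQuot.Lft

/-!
# The quotient over a saturated open with a quasi-section
-/

set_option autoImplicit false
set_option linter.style.haveILetI false
set_option backward.isDefEq.respectTransparency.types false
universe u

open CategoryTheory CategoryTheory.Limits AlgebraicGeometry

namespace Groth.L24.GenQuot

/-- A morphism is scheme-theoretically dominant when every closed subscheme it factors through is everything. -/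
theorem isSchemeTheoreticallyDominant_of_split {X Y : Scheme.{u}} (f : X ⟶ Y) (h : Y ⟶ f.image)
    (hh : h ≫ f.imageι = 𝟙 Y) : IsSchemeTheoreticallyDominant f := by
  haveI : IsIso f.imageι := by
    refine ⟨h, ?_, hh⟩
    rw [← cancel_mono f.imageι, Category.assoc, hh, Category.comp_id, Category.id_comp]
  rw [isSchemeTheoreticallyDominant_iff]
  have := Scheme.IdealSheafData.ker_subschemeι f.ker
  rw [← this]
  exact Scheme.Hom.ker_eq_bot_of_isIso _

variable {S : Scheme.{u}} [AlgebraicGeometry.IsNoetherian S] (G : Grpd.GroupoidScheme S)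
  [Flat G.s] [LocallyOfFiniteType G.s] [QuasiCompact G.s] [LocallyOfFiniteType G.pU] [QuasiCompact G.pU]

/-- The quotient over a saturated open with a quasi-section. -/
theorem exists_quotient_of_hasQS (W : G.U.Opens) (hqs : HasQS G W) (hW : G.t ⁻¹ᵁ W = G.s ⁻¹ᵁ W) :
    ∃ (V : Scheme.{u}) (p : (W : Scheme.{u}) ⟶ V)
        (w : G.t.resLE W (G.s ⁻¹ᵁ W) hW.ge ≫ p = (G.s ∣_ W) ≫ p) (q : V ⟶ S),
        Nonempty (IsColimit (Cofork.ofπ p w)) ∧ p ≫ q = W.ι ≫ G.pU ∧
        Surjective p ∧ IsOpenMap p.base ∧ LocallyOfFinitePresentation p ∧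
        LocallyOfFinitePresentation q ∧ QuasiCompact q ∧ QuasiSeparated q ∧
        Function.Surjective (pullback.lift (G.t.resLE W (G.s ⁻¹ᵁ W) hW.ge) (G.s ∣_ W) w).base ∧
        (Mono G.j → IsPullback (G.t.resLE W (G.s ⁻¹ᵁ W) hW.ge) (G.s ∣_ W) p p ∧ Flat p) := by
  haveI := isNoetherian_U G
  haveI : IsIso G.i := ⟨G.i, L02.CMMor.i_i G, L02.CMMor.i_i G⟩
  haveI : LocallyOfFinitePresentation G.s :=
    LocallyOfFinitePresentation.iff_locallyOfFiniteType.mpr inferInstance
  haveI : Flat G.t := by rw [← G.i_s]; infer_instance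
  haveI : LocallyOfFinitePresentation G.t := by rw [← G.i_s]; infer_instance
  let H := Groth.Agent.L24.Quot.restrict G W hW.symm
  obtain ⟨U', u', hu'i, hu'u, hσ', hσs, h2⟩ := exists_restrict_qs G W hW hqs
  change U' ⟶ (W : Scheme.{u}) at u'
  haveI := hσs
  haveI : IsImmersion (u' : U' ⟶ (W : Scheme.{u})) := hu'i
  haveI := hu'u
  obtain ⟨_, _, _⟩ := hσ'
  have hmono' : Mono u' := inferInstance
  obtain ⟨V, p, w, ⟨hcol⟩, hint, hps, hpo, -, hpsurj, hmono⟩ :=
    @Groth.Agent.L24.Quot.exists_quotient_of_quasiSection' _ H _ u' hmono' ⟨‹_›, ‹_›, ‹_›⟩ hσs h2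
  change (W : Scheme.{u}) ⟶ V at p
  obtain ⟨q, hq⟩ := Cofork.IsColimit.desc' hcol H.pU (H.t_over.trans H.s_over.symm)
  change V ⟶ S at q
  change p ≫ q = W.ι ≫ G.pU at hq
  haveI : LocallyOfFiniteType ((u' ≫ p) ≫ q) := by
    rw [Category.assoc, hq]; infer_instance
  haveI : LocallyOfFiniteType (u' ≫ p) := locallyOfFiniteType_of_comp (u' ≫ p) q
  haveI : IsFinite (u' ≫ p) := (IsFinite.iff_isIntegralHom_and_locallyOfFiniteType _).2 ⟨hint, inferInstance⟩
  -- the section meets every closed subscheme of the quotient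
  haveI : IsSchemeTheoreticallyDominant (u' ≫ p) := by
    let f := u' ≫ p
    let τ := pullback.snd H.t u'
    have hp : Groth.Agent.L24.Quot.secσ H u' ≫ p = τ ≫ f := by
      show (pullback.fst H.t u' ≫ H.s) ≫ p = pullback.snd H.t u' ≫ u' ≫ p
      rw [Category.assoc, ← w, pullback.condition_assoc]
      rfl
    obtain ⟨g, hg⟩ : ∃ g, Groth.Agent.L24.Quot.secσ H u' ≫ g = τ ≫ f.toImage :=
      ⟨EffectiveEpi.desc _ (τ ≫ f.toImage) fun g₁ g₂ hgg => by
        rw [← cancel_mono f.imageι]
        simp only [Category.assoc, Scheme.Hom.toImage_imageι, ← hp]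
        rw [reassoc_of% hgg], EffectiveEpi.fac _ _ _⟩
    have hg' : g ≫ f.imageι = p := by
      rw [← cancel_epi (Groth.Agent.L24.Quot.secσ H u'), ← Category.assoc, hg, Category.assoc,
        Scheme.Hom.toImage_imageι, hp]
    obtain ⟨h, hh⟩ := Cofork.IsColimit.desc' hcol g (by
      rw [← cancel_mono f.imageι, Category.assoc, Category.assoc, hg', w])
    change p ≫ h = g at hh
    refine isSchemeTheoreticallyDominant_of_split f h (Cofork.IsColimit.hom_ext hcol ?_)
    show p ≫ h ≫ f.imageι = p ≫ 𝟙 V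
    rw [reassoc_of% hh, Category.comp_id]
    exact hg'
  haveI : LocallyOfFiniteType q := Groth.L24.CoarseQuot.lft_of_finite_comp (u' ≫ p) q
  haveI : IsLocallyNoetherian V := LocallyOfFiniteType.isLocallyNoetherian q
  haveI : LocallyOfFiniteType (p ≫ q) := by rw [hq]; infer_instance
  haveI : LocallyOfFiniteType p := locallyOfFiniteType_of_comp p q
  haveI : CompactSpace (W : Scheme.{u}) :=
    isCompact_iff_compactSpace.1 (TopologicalSpace.NoetherianSpace.isCompact (W : Set G.U))
  haveI := hps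
  have hr : Set.range (fun x : (W : Scheme.{u}) => p x) = Set.univ := hps.surj.range_eq
  haveI : CompactSpace V := ⟨hr ▸ isCompact_range p.continuous⟩
  haveI : AlgebraicGeometry.IsNoetherian V := {}
  have htH : Flat H.t := Groth.Agent.L24.Quot.restrict_t_prop G W hW.symm @Flat ‹_›
  have htO : IsOpenMap H.t.base := by
    haveI : Flat H.t := htH
    haveI : LocallyOfFinitePresentation H.t :=
      Groth.Agent.L24.Quot.restrict_t_prop G W hW.symm @LocallyOfFinitePresentation ‹_›
    exact H.t.isOpenMap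
  refine ⟨V, p, w, q, ⟨hcol⟩, hq, hps, hpo htO, LocallyOfFinitePresentation.iff_locallyOfFiniteType.mpr ‹_›,
    LocallyOfFinitePresentation.iff_locallyOfFiniteType.mpr ‹_›, inferInstance, inferInstance, hpsurj, fun hj => ?_⟩
  haveI := Groth.Agent.L24.Quot.mono_restrict_j G W hW.symm
  exact ⟨(hmono this).1, (hmono this).2 htH⟩

end Groth.L24.GenQuot
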