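import Groth.Agent.L02.Grpd.SliceFinal
import Groth.Agent.L19.GenericFinite
import Groth.Prelude.Def_AlgGrp

/-!
# The groupoid of an action, and quasi-finiteness of `j` from the stabilizer
-/

set_option autoImplicit false
set_option linter.style.haveILetI false
set_option backward.isDefEq.respectTransparency.types false
universe u

open CategoryTheory MonoidalCategory CartesianMonoidalCategory MonObj GrpObj AlgebraicGeometry CategoryTheory.Limits

namespace Groth.L24.GenQuot

/-- The map to `U ×_S U` is locally quasi-finite when the stabilizer is. -/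
theorem lqf_j {S : Scheme.{u}} (G : Grpd.GroupoidScheme S) [LocallyOfFiniteType G.s]
    [LocallyQuasiFinite G.stabilizerToU] : LocallyQuasiFinite G.j := by
  haveI : LocallyOfFiniteType (G.j ≫ pullback.snd G.pU G.pU) := by
    rw [show G.j ≫ pullback.snd G.pU G.pU = G.s from pullback.lift_snd _ _ _]; infer_instance
  haveI : LocallyOfFiniteType G.j := locallyOfFiniteType_of_comp G.j (pullback.snd G.pU G.pU)
  let α : pullback G.stabilizerToU G.t ⟶ pullback G.s G.t :=
    pullback.lift (pullback.fst _ _ ≫ pullback.fst G.j G.diag) (pullback.snd _ _) (by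
      rw [Category.assoc, ← pullback.condition]
      exact congrArg (pullback.fst G.stabilizerToU G.t ≫ ·) (L02.Grpd.stabι_s G))
  have hj₁ : G.j ≫ pullback.fst G.pU G.pU = G.t := pullback.lift_fst _ _ _
  have hj₂ : G.j ≫ pullback.snd G.pU G.pU = G.s := pullback.lift_snd _ _ _
  have hα₁ : α ≫ pullback.fst G.s G.t = pullback.fst _ _ ≫ pullback.fst G.j G.diag := pullback.lift_fst _ _ _
  have hα₂ : α ≫ pullback.snd G.s G.t = pullback.snd _ _ := pullback.lift_snd _ _ _
  let β : pullback G.stabilizerToU G.t ⟶ pullback G.j G.j := pullback.lift (α ≫ G.c) (pullback.snd _ _) (by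
    have hcs := L02.Grpd.mul_s G (pullback.fst G.s G.t) (pullback.snd G.s G.t) pullback.condition
    have hct := L02.Grpd.mul_t G (pullback.fst G.s G.t) (pullback.snd G.s G.t) pullback.condition
    rw [L02.Grpd.c_eq] at hcs hct
    apply pullback.hom_ext
    · rw [Category.assoc, Category.assoc, Category.assoc, hj₁, hct, reassoc_of% hα₁]
      exact (congrArg (pullback.fst G.stabilizerToU G.t ≫ ·) (L02.Grpd.stabι_t G)).trans pullback.condition
    · rw [Category.assoc, Category.assoc, Category.assoc, hj₂, hcs, reassoc_of% hα₂])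
  haveI := L02.Grpd.isIso_torsor G α hα₁ hα₂ β (pullback.lift_fst _ _ _) (pullback.lift_snd _ _ _)
  haveI : LocallyQuasiFinite (pullback.snd G.j G.j) := by
    rw [show pullback.snd G.j G.j = CategoryTheory.inv β ≫ pullback.snd G.stabilizerToU G.t by
      rw [IsIso.eq_inv_comp]; exact pullback.lift_snd _ _ _]
    infer_instance
  refine Groth.L19.GenericFinite.locallyQuasiFinite_of_forall _ fun r => ?_
  obtain ⟨x, hx, -⟩ := Scheme.Pullback.exists_preimage_pullback (f := G.j) (g := G.j) r r rfl
  rw [← hx, L02.Grpd.quasiFinite_baseChange]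
  exact (pullback.snd G.j G.j).quasiFiniteAt x

variable {S : Scheme.{u}} {G X : Over S} [GrpObj G] (a : AlgGrp.Action G X)

/-- The composable pairs over the base. -/
noncomputable abbrev actPairs : Over S :=
  Over.mk (pullback.snd (snd G X).left a.act.left ≫ (G ⊗ X).hom)

/-- The first arrow of a composable pair. -/
noncomputable def pr₁ : actPairs a ⟶ G ⊗ X :=
  Over.homMk (pullback.fst (snd G X).left a.act.left : pullback (snd G X).left a.act.left ⟶ (G ⊗ X).left) (by
    show pullback.fst (snd G X).left a.act.left ≫ (G ⊗ X).hom =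
      pullback.snd (snd G X).left a.act.left ≫ (G ⊗ X).hom
    rw [← Over.w (snd G X), pullback.condition_assoc, Over.w a.act, Over.w (snd G X)])

/-- The second arrow of a composable pair. -/
noncomputable def pr₂ : actPairs a ⟶ G ⊗ X :=
  Over.homMk (pullback.snd (snd G X).left a.act.left : pullback (snd G X).left a.act.left ⟶ (G ⊗ X).left) rfl

theorem pr_cond : pr₁ a ≫ snd G X = pr₂ a ≫ a.act := Over.OverMorphism.ext pullback.condition

/-- Composition in the action groupoid on points. -/
noncomputable def comb {T : Over S} (A B : T ⟶ G ⊗ X) : T ⟶ G ⊗ X :=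
  lift ((A ≫ fst G X) * (B ≫ fst G X)) (B ≫ snd G X)

theorem comb_snd {T : Over S} (A B : T ⟶ G ⊗ X) : comb A B ≫ snd G X = B ≫ snd G X := lift_snd _ _

theorem lift_mul_act {T : Over S} (g h : T ⟶ G) (y : T ⟶ X) :
    lift (g * h) y ≫ a.act = lift g (lift h y ≫ a.act) ≫ a.act := by
  have h1 : lift (g * h) y = lift (lift g h) y ≫ (μ[G] ▷ X) := by
    apply CartesianMonoidalCategory.hom_ext <;> simp [Hom.mul_def]
  have h2 : lift (lift g h) y ≫ (α_ G G X).hom ≫ (G ◁ a.act) = lift g (lift h y ≫ a.act) := by
    apply CartesianMonoidalCategory.hom_ext <;> simp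
  rw [h1, Category.assoc, a.mul_act, ← h2]
  simp only [Category.assoc]

theorem lift_one_act {T : Over S} (y : T ⟶ X) : lift (1 : T ⟶ G) y ≫ a.act = y := by
  have h1 : lift (1 : T ⟶ G) y = lift (toUnit T) y ≫ (η[G] ▷ X) := by
    apply CartesianMonoidalCategory.hom_ext <;> simp [Hom.one_def]
  rw [h1, Category.assoc, a.one_act]
  simp

theorem lift_eta (T : Over S) (A : T ⟶ G ⊗ X) : lift (A ≫ fst G X) (A ≫ snd G X) = A := by
  apply CartesianMonoidalCategory.hom_ext <;> simp

theorem comb_act {T : Over S} (A B : T ⟶ G ⊗ X) (h : A ≫ snd G X = B ≫ a.act) :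
    comb A B ≫ a.act = A ≫ a.act := by
  rw [comb, lift_mul_act, lift_eta, ← h, lift_eta]

/-- The identity arrows. -/
noncomputable def unitArr : X ⟶ G ⊗ X := lift 1 (𝟙 X)

/-- The inverse arrows. -/
noncomputable def invArr : G ⊗ X ⟶ G ⊗ X := lift (fst G X)⁻¹ a.act

theorem invArr_act : invArr a ≫ a.act = snd G X := by
  have h : lift (fst G X) (snd G X) ≫ a.act = a.act := by
    rw [show lift (fst G X) (snd G X) = 𝟙 (G ⊗ X) by apply CartesianMonoidalCategory.hom_ext <;> simp,
      Category.id_comp]
  rw [invArr]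
  conv_lhs => arg 1; arg 2; rw [← h]
  rw [← lift_mul_act, inv_mul_cancel, lift_one_act]

theorem exists_comb {T : Scheme.{u}} (α β : T ⟶ (G ⊗ X).left)
    (h : α ≫ (snd G X).left = β ≫ a.act.left) :
    ∃ (TT : Over S) (e : TT.left = T) (A B : TT ⟶ G ⊗ X),
      A.left = eqToHom e ≫ α ∧ B.left = eqToHom e ≫ β ∧ A ≫ snd G X = B ≫ a.act := by
  refine ⟨Over.mk (β ≫ (G ⊗ X).hom), rfl, Over.homMk α ?_, Over.homMk β rfl, ?_, ?_, ?_⟩
  · show α ≫ (G ⊗ X).hom = β ≫ (G ⊗ X).hom
    rw [← Over.w (snd G X), reassoc_of% h, Over.w a.act, Over.w (snd G X)]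
  · simp
  · simp
  · exact Over.OverMorphism.ext h

theorem lift_comp {T : Over S} (A B : T ⟶ G ⊗ X) (h : A.left ≫ (snd G X).left = B.left ≫ a.act.left) :
    pullback.lift A.left B.left h ≫ (comb (pr₁ a) (pr₂ a)).left = (comb A B).left := by
  let L : T ⟶ actPairs a := Over.homMk (pullback.lift A.left B.left h) (by
    show pullback.lift A.left B.left h ≫ pullback.snd _ _ ≫ (G ⊗ X).hom = T.hom
    rw [pullback.lift_snd_assoc, Over.w B])
  have hA : L ≫ pr₁ a = A := Over.OverMorphism.ext (pullback.lift_fst _ _ _)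
  have hB : L ≫ pr₂ a = B := Over.OverMorphism.ext (pullback.lift_snd _ _ _)
  have : L ≫ comb (pr₁ a) (pr₂ a) = comb A B := by
    rw [comb, comp_lift, MonObj.comp_mul, ← Category.assoc, ← Category.assoc, ← Category.assoc L (pr₂ a) (snd G X), hA, hB]
    rfl
  exact congrArg CommaMorphism.left this

/-- The groupoid of an action. -/
noncomputable def actGrpd : Grpd.GroupoidScheme S where
  U := X.left
  R := (G ⊗ X).left
  pU := X.hom
  pR := (G ⊗ X).hom
  s := (snd G X).left
  t := a.act.left
  e := (unitArr (G := G) (X := X)).left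
  i := (invArr a).left
  c := (comb (pr₁ a) (pr₂ a)).left
  s_over := Over.w _
  t_over := Over.w _
  comp_s α β h := by
    obtain ⟨TT, e, A, B, hA, hB, hAB⟩ := exists_comb a α β h
    subst e
    simp only [eqToHom_refl, Category.id_comp] at hA hB
    subst hA hB
    rw [lift_comp]
    exact congrArg CommaMorphism.left (comb_snd A B)
  comp_t α β h := by
    obtain ⟨TT, e, A, B, hA, hB, hAB⟩ := exists_comb a α β h
    subst e
    simp only [eqToHom_refl, Category.id_comp] at hA hB
    subst hA hB
    rw [lift_comp]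
    exact congrArg CommaMorphism.left (comb_act a A B hAB)
  assoc {T} α β γ h₁ h₂ := by
    obtain ⟨TT, e, B, C, hB, hC, hBC⟩ := exists_comb a β γ h₂
    subst e
    simp only [eqToHom_refl, Category.id_comp] at hB hC
    subst hB hC
    obtain ⟨A, rfl⟩ : ∃ A : TT ⟶ G ⊗ X, A.left = α := by
      refine ⟨Over.homMk α ?_, rfl⟩
      rw [← Over.w (snd G X), reassoc_of% h₁, Over.w a.act, Over.w B]
    simp only [lift_comp]
    refine congrArg CommaMorphism.left ?_
    simp only [comb, lift_fst, lift_snd, _root_.mul_assoc]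
  e_s := congrArg CommaMorphism.left (lift_snd (1 : X ⟶ G) (𝟙 X))
  e_t := congrArg CommaMorphism.left (lift_one_act a (𝟙 X))
  comp_e {T} α := by
    obtain ⟨TT, e, A, -, hA, -, -⟩ := exists_comb a α (α ≫ (snd G X).left ≫ (unitArr (G := G)).left) (by
      rw [Category.assoc, Category.assoc, show (unitArr (G := G) (X := X)).left ≫ a.act.left = 𝟙 X.left from
        congrArg CommaMorphism.left (lift_one_act a (𝟙 X)), Category.comp_id])
    subst e
    simp only [eqToHom_refl, Category.id_comp] at hA
    subst hA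
    refine (lift_comp a A (A ≫ snd G X ≫ unitArr) _).trans (congrArg CommaMorphism.left ?_)
    simp [comb, unitArr, MonObj.comp_one, lift_eta]
  e_comp {T} α := by
    obtain ⟨TT, e, -, A, -, hA, -⟩ := exists_comb a (α ≫ a.act.left ≫ (unitArr (G := G)).left) α (by
      rw [Category.assoc, Category.assoc, show (unitArr (G := G) (X := X)).left ≫ (snd G X).left = 𝟙 X.left from
        congrArg CommaMorphism.left (lift_snd (1 : X ⟶ G) (𝟙 X)), Category.comp_id])
    subst e
    simp only [eqToHom_refl, Category.id_comp] at hA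
    subst hA
    refine (lift_comp a (A ≫ a.act ≫ unitArr) A _).trans (congrArg CommaMorphism.left ?_)
    simp [comb, unitArr, MonObj.comp_one, lift_eta]
  i_s := congrArg CommaMorphism.left (lift_snd _ _ : invArr a ≫ snd G X = a.act)
  i_t := congrArg CommaMorphism.left (invArr_act a)
  comp_i {T} α := by
    obtain ⟨TT, e, A, -, hA, -, -⟩ := exists_comb a α (α ≫ (invArr a).left) (by
      rw [Category.assoc, show (invArr a).left ≫ a.act.left = (snd G X).left from
        congrArg CommaMorphism.left (invArr_act a)])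
    subst e
    simp only [eqToHom_refl, Category.id_comp] at hA
    subst hA
    refine (lift_comp a A (A ≫ invArr a) _).trans (congrArg CommaMorphism.left ?_ : _ = (A ≫ a.act ≫ unitArr).left)
    simp [comb, unitArr, invArr, MonObj.comp_one, GrpObj.comp_inv]
  i_comp {T} α := by
    obtain ⟨TT, e, -, A, -, hA, -⟩ := exists_comb a (α ≫ (invArr a).left) α (by
      rw [Category.assoc, show (invArr a).left ≫ (snd G X).left = a.act.left from
        congrArg CommaMorphism.left (lift_snd _ _ : invArr a ≫ snd G X = a.act)])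
    subst e
    simp only [eqToHom_refl, Category.id_comp] at hA
    subst hA
    refine (lift_comp a (A ≫ invArr a) A _).trans (congrArg CommaMorphism.left ?_ : _ = (A ≫ snd G X ≫ unitArr).left)
    simp [comb, unitArr, invArr, MonObj.comp_one, GrpObj.comp_inv]

end Groth.L24.GenQuot
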