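import Mathlib.AlgebraicGeometry.Morphisms.FiniteType
import Mathlib.AlgebraicGeometry.Morphisms.Finite
import Mathlib.AlgebraicGeometry.Morphisms.SchemeTheoreticallyDominant
import Mathlib.RingTheory.Adjoin.Tower
import Mathlib.AlgebraicGeometry.Noetherian

/-!
# Artin-Tate for a finite scheme-theoretically dominant map
-/

set_option autoImplicit false
universe u

open CategoryTheory CategoryTheory.Limits AlgebraicGeometry

namespace Groth.L24.GenQuot

theorem dominant_of_split {X Y : Scheme.{u}} (f : X ⟶ Y) (h : Y ⟶ f.image)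
    (hh : h ≫ f.imageι = 𝟙 Y) : IsSchemeTheoreticallyDominant f := by
  haveI : IsIso f.imageι := by
    refine ⟨h, ?_, hh⟩
    rw [← cancel_mono f.imageι, Category.assoc, hh, Category.comp_id, Category.id_comp]
  rw [isSchemeTheoreticallyDominant_iff]
  have := Scheme.IdealSheafData.ker_subschemeι f.ker
  rw [← this]
  exact Scheme.Hom.ker_eq_bot_of_isIso _

/-- Artin-Tate. -/
theorem lft_of_finite_dominant {X Y S : Scheme.{u}} (p : X ⟶ Y) [IsFinite p] [IsSchemeTheoreticallyDominant p]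
    (g : Y ⟶ S) [IsLocallyNoetherian S] [LocallyOfFiniteType (p ≫ g)] : LocallyOfFiniteType g := by
  refine ⟨fun {U} hU {V} hV e => ?_⟩
  have : IsNoetherianRing Γ(S, U) := IsLocallyNoetherian.component_noetherian ⟨U, hU⟩
  have hX : IsAffineOpen (p ⁻¹ᵁ V) := hV.preimage p
  have h1 : ((p ≫ g).appLE U (p ⁻¹ᵁ V) (p.preimage_mono e)).hom.FiniteType := (p ≫ g).finiteType_appLE hU hX _
  have h2 : (p.app V).hom.Finite := p.finite_app V hV
  have h3 : Function.Injective (p.app V).hom := p.app_injective V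
  have heq : (p ≫ g).appLE U (p ⁻¹ᵁ V) (p.preimage_mono e) = g.appLE U V e ≫ p.app V := by
    rw [p.app_eq_appLE, Scheme.Hom.appLE_comp_appLE]
  rw [heq] at h1
  letI := (g.appLE U V e).hom.toAlgebra
  letI := (p.app V).hom.toAlgebra
  letI : Algebra Γ(S, U) Γ(X, p ⁻¹ᵁ V) := ((p.app V).hom.comp (g.appLE U V e).hom).toAlgebra
  haveI : IsScalarTower Γ(S, U) Γ(Y, V) Γ(X, p ⁻¹ᵁ V) := IsScalarTower.of_algebraMap_eq fun _ => rfl
  haveI : Algebra.FiniteType Γ(S, U) Γ(X, p ⁻¹ᵁ V) := h1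
  haveI : Module.Finite Γ(Y, V) Γ(X, p ⁻¹ᵁ V) := h2
  exact (⟨fg_of_fg_of_fg Γ(S, U) Γ(Y, V) Γ(X, p ⁻¹ᵁ V) Algebra.FiniteType.out Module.Finite.fg_top h3⟩ :
    Algebra.FiniteType Γ(S, U) Γ(Y, V))

end Groth.L24.GenQuot
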