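import Groth.Agent.L07.FibreRegularLocal
import Mathlib.RingTheory.Ideal.AssociatedPrime.Finiteness
import Mathlib.RingTheory.Flat.Localization
import Mathlib.RingTheory.Jacobson.Ring
import Mathlib.RingTheory.Localization.Integral
import Mathlib.RingTheory.Algebraic.Integral

/-!
# Cutting a closed fibre by functions pulled back along a second map
-/

set_option autoImplicit false
universe u

set_option linter.style.haveILetI false

open IsLocalRing

namespace Groth.L24.GenQuot

/-- Over a point closed in its fibre over the base, closed points of the fibre go to closed points. -/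
theorem comap_eq_of_le {R A B C : Type u} [CommRing R] [CommRing A] [CommRing B] [CommRing C]
    [Algebra R A] [Algebra R B] [Algebra R C] [Algebra A B] [IsScalarTower R A B]
    [Algebra.FiniteType R A] [Algebra.FiniteType A B] (p : Ideal A) [p.IsMaximal] (ψ : C →ₐ[R] B)
    {n q : Ideal B} [n.IsMaximal] [q.IsPrime] (hn : p.map (algebraMap A B) ≤ n)
    (hq : p.map (algebraMap A B) ≤ q) (h : n.comap ψ.toRingHom ≤ q.comap ψ.toRingHom) :
    n.comap ψ.toRingHom = q.comap ψ.toRingHom := by
  refine le_antisymm h fun c hc => ?_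
  by_contra hcn
  have hpn : n.comap (algebraMap A B) = p :=
    (Ideal.IsMaximal.eq_of_le ‹p.IsMaximal› (Ideal.comap_ne_top _ (Ideal.IsMaximal.ne_top ‹_›))
      (Ideal.map_le_iff_le_comap.mp hn)).symm
  have hpq : q.comap (algebraMap A B) = p :=
    (Ideal.IsMaximal.eq_of_le ‹p.IsMaximal› (Ideal.comap_ne_top _ (Ideal.IsPrime.ne_top ‹_›))
      (Ideal.map_le_iff_le_comap.mp hq)).symm
  let τ := p.comap (algebraMap R A)
  have hτn : n.comap (algebraMap R B) = τ := by
    rw [IsScalarTower.algebraMap_eq R A B, ← Ideal.comap_comap, hpn]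
  have hτq : q.comap (algebraMap R B) = τ := by
    rw [IsScalarTower.algebraMap_eq R A B, ← Ideal.comap_comap, hpq]
  letI := Ideal.Quotient.field n
  letI : Algebra (R ⧸ τ) (B ⧸ n) := (Ideal.quotientMap n (algebraMap R B) hτn.ge).toAlgebra
  haveI : IsScalarTower R (R ⧸ τ) (B ⧸ n) := IsScalarTower.of_algebraMap_eq fun r => rfl
  haveI : FaithfulSMul (R ⧸ τ) (B ⧸ n) := (faithfulSMul_iff_algebraMap_injective _ _).2
    (Ideal.quotientMap_injective' hτn.le)
  haveI : Algebra.FiniteType R B := Algebra.FiniteType.trans (S := A) inferInstance inferInstance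
  haveI : Algebra.FiniteType R (B ⧸ n) :=
    Algebra.FiniteType.of_surjective (Ideal.Quotient.mkₐ R n) Ideal.Quotient.mk_surjective
  let K := FractionRing (R ⧸ τ)
  letI : Algebra K (B ⧸ n) := FractionRing.liftAlgebra (R ⧸ τ) (B ⧸ n)
  haveI : Algebra.FiniteType (R ⧸ τ) (B ⧸ n) := Algebra.FiniteType.of_restrictScalars_finiteType R _ _
  haveI : Algebra.FiniteType K (B ⧸ n) := Algebra.FiniteType.of_restrictScalars_finiteType (R ⧸ τ) _ _
  haveI : Module.Finite K (B ⧸ n) := finite_of_finite_type_of_isJacobsonRing K (B ⧸ n)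
  haveI : Algebra.IsAlgebraic (R ⧸ τ) (B ⧸ n) :=
    (IsFractionRing.comap_isAlgebraic_iff (A := R ⧸ τ) (K := K)).mpr inferInstance
  let ψbar : C →ₐ[R] B ⧸ n := (Ideal.Quotient.mkₐ R n).comp ψ
  let x := RingHom.ker ψbar.toRingHom
  haveI : x.IsPrime := RingHom.ker_isPrime _
  letI : Algebra (R ⧸ τ) (C ⧸ x) := (Ideal.quotientMap x (algebraMap R C) (fun r hr => by
    rw [Ideal.mem_comap, RingHom.mem_ker]
    show ψbar (algebraMap R C r) = 0
    rw [AlgHom.commutes, IsScalarTower.algebraMap_apply R (R ⧸ τ) (B ⧸ n),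
      Ideal.Quotient.algebraMap_eq, Ideal.Quotient.eq_zero_iff_mem.2 hr, map_zero])).toAlgebra
  let f : C ⧸ x →ₐ[R ⧸ τ] B ⧸ n :=
    { toRingHom := RingHom.kerLift ψbar.toRingHom
      commutes' := fun r => by
        obtain ⟨r, rfl⟩ := Ideal.Quotient.mk_surjective r
        exact ψbar.commutes r }
  have hne : Ideal.Quotient.mk x c ≠ 0 := fun h0 => hcn (by
    rw [Ideal.Quotient.eq_zero_iff_mem, RingHom.mem_ker] at h0
    show ψ c ∈ n
    exact Ideal.Quotient.eq_zero_iff_mem.1 h0)
  obtain ⟨s, hs, d, hd⟩ := ((isAlgebraic_algHom_iff f (RingHom.kerLift_injective _)).mp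
    (Algebra.IsAlgebraic.isAlgebraic (R := R ⧸ τ) (f (Ideal.Quotient.mk x c)))).exists_nonzero_dvd
      (mem_nonZeroDivisors_of_ne_zero hne)
  obtain ⟨r, rfl⟩ := Ideal.Quotient.mk_surjective s
  obtain ⟨d, rfl⟩ := Ideal.Quotient.mk_surjective d
  refine hs (Ideal.Quotient.eq_zero_iff_mem.2 (hτq.le ?_))
  have h1 : algebraMap R C r - c * d ∈ x := Ideal.Quotient.eq.1 (hd.trans (map_mul _ _ _).symm)
  have h2 : algebraMap R C r - c * d ∈ q.comap ψ.toRingHom :=
    h (show ψ (algebraMap R C r - c * d) ∈ n from Ideal.Quotient.eq_zero_iff_mem.1 h1)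
  have h3 : algebraMap R C r ∈ q.comap ψ.toRingHom := by
    simpa using add_mem h2 ((q.comap ψ.toRingHom).mul_mem_right d hc)
  rw [Ideal.mem_comap] at h3
  rw [Ideal.mem_comap, ← ψ.commutes r]
  exact h3

section

variable {A B C : Type u} [CommRing A] [CommRing B] [CommRing C] [IsNoetherianRing A] [IsNoetherianRing B]
  [Algebra A B]

/-- One cutting step at a prime. -/
theorem flat_step (p : Ideal A) [p.IsPrime] (J : Ideal B) (h : B)
    (hreg : ∀ b, h * b ∈ p.map (algebraMap A B) ⊔ J →
      ∃ a ∉ p, algebraMap A B a * b ∈ p.map (algebraMap A B) ⊔ J)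
    (q : Ideal B) [q.IsPrime] (hpq : q.comap (algebraMap A B) = p)
    (hflat : Module.Flat A (Localization.AtPrime q ⧸ J.map (algebraMap B (Localization.AtPrime q)))) :
    Module.Flat A (Localization.AtPrime q ⧸
      (J ⊔ Ideal.span {h}).map (algebraMap B (Localization.AtPrime q))) := by
  haveI : q.LiesOver p := ⟨hpq.symm⟩
  let Ap := Localization.AtPrime p
  let Bq := Localization.AtPrime q
  letI : Algebra Ap Bq := Localization.AtPrime.algebraOfLiesOver p q
  haveI : IsScalarTower A Ap Bq := inferInstance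
  haveI : IsLocalHom (algebraMap Ap Bq) := Localization.isLocalHom_localRingHom _ _ _ _
  haveI : IsNoetherianRing Ap := IsLocalization.isNoetherianRing p.primeCompl _ inferInstance
  haveI : IsNoetherianRing Bq := IsLocalization.isNoetherianRing q.primeCompl _ inferInstance
  let Jq := J.map (algebraMap B Bq)
  haveI : Module.Flat Ap (Bq ⧸ Jq) :=
    (Module.flat_iff_of_isLocalization Ap p.primeCompl (Bq ⧸ Jq)).mpr hflat
  let h' := algebraMap B Bq h
  have hm : (maximalIdeal Ap).map (algebraMap Ap Bq) = (p.map (algebraMap A B)).map (algebraMap B Bq) := by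
    rw [← IsLocalization.AtPrime.map_eq_maximalIdeal p Ap, Ideal.map_map, Ideal.map_map,
      ← IsScalarTower.algebraMap_eq, ← IsScalarTower.algebraMap_eq]
  have hK : (p.map (algebraMap A B) ⊔ J).map (algebraMap B Bq) = (maximalIdeal Ap).map (algebraMap Ap Bq) ⊔ Jq := by
    rw [Ideal.map_sup, hm]
  -- quotients of quotients
  have key : ∀ I : Ideal Bq, (I • (⊤ : Submodule Bq (Bq ⧸ Jq))).comap (Submodule.mkQ Jq) = I ⊔ Jq := by
    intro I
    rw [show (⊤ : Submodule Bq (Bq ⧸ Jq)) = Submodule.map (Submodule.mkQ Jq) ⊤ by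
      rw [Submodule.map_top, Submodule.range_mkQ], ← Submodule.map_smul'', Submodule.comap_map_mkQ,
      smul_eq_mul, Ideal.mul_top, sup_comm]
  have hreg' : RingTheory.Sequence.IsWeaklyRegular
      ((Bq ⧸ Jq) ⧸ ((maximalIdeal Ap).map (algebraMap Ap Bq) • (⊤ : Submodule Bq (Bq ⧸ Jq)))) [h'] := by
    rw [RingTheory.Sequence.isWeaklyRegular_singleton_iff, isSMulRegular_iff_right_eq_zero_of_smul]
    intro x hx
    obtain ⟨x, rfl⟩ := Submodule.mkQ_surjective _ x
    obtain ⟨y, rfl⟩ := Submodule.mkQ_surjective _ x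
    rw [← map_smul, Submodule.mkQ_apply, Submodule.Quotient.mk_eq_zero, ← map_smul, ← Submodule.mem_comap,
      key, ← hK, smul_eq_mul, IsLocalization.mem_map_algebraMap_iff q.primeCompl] at hx
    rw [Submodule.mkQ_apply, Submodule.Quotient.mk_eq_zero, ← Submodule.mem_comap, key, ← hK,
      IsLocalization.mem_map_algebraMap_iff q.primeCompl]
    obtain ⟨⟨⟨k, hk⟩, s⟩, hks⟩ := hx
    obtain ⟨b, t, rfl⟩ := IsLocalization.exists_mk'_eq q.primeCompl y
    have e : algebraMap B Bq (h * b * s.1) = algebraMap B Bq (k * t.1) := by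
      have := congrArg (· * algebraMap B Bq t.1) hks
      simp only at this
      rw [map_mul, map_mul, map_mul, ← this, mul_right_comm _ (algebraMap B Bq s.1) (algebraMap B Bq t.1),
        mul_assoc h' _ (algebraMap B Bq t.1), IsLocalization.mk'_spec]
    obtain ⟨w, hw⟩ := (IsLocalization.eq_iff_exists q.primeCompl Bq).1 e
    obtain ⟨a, ha, hmem⟩ := hreg (w.1 * (b * s.1)) (by
      rw [show h * (w.1 * (b * s.1)) = w.1 * (h * b * s.1) by ring, hw]
      exact Ideal.mul_mem_left _ _ (Ideal.mul_mem_right _ _ hk))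
    have ha' : algebraMap A B a ∈ q.primeCompl := fun hq' => ha (hpq.le hq')
    refine ⟨⟨⟨algebraMap A B a * (w.1 * (b * s.1)), hmem⟩,
      ⟨algebraMap A B a * (w.1 * s.1), (⟨_, ha'⟩ * (w * s) : q.primeCompl).2⟩ * t⟩, ?_⟩
    show IsLocalization.mk' Bq b t * algebraMap B Bq (algebraMap A B a * (w.1 * s.1) * t.1) =
      algebraMap B Bq (algebraMap A B a * (w.1 * (b * s.1)))
    rw [show algebraMap A B a * (w.1 * s.1) * t.1 = t.1 * (algebraMap A B a * (w.1 * s.1)) by ring, map_mul,
      ← mul_assoc, IsLocalization.mk'_spec, ← map_mul]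
    congr 1; ring
  have hflat' : Module.Flat Ap ((Bq ⧸ Jq) ⧸ (Ideal.ofList ([h'].take 1) • (⊤ : Submodule Bq (Bq ⧸ Jq)))) :=
    (Groth.L07.FibreRegularLocal.isWeaklyRegular_and_flat [h'] (Bq ⧸ Jq) hreg').2 1 le_rfl
  let φ : Bq →ₗ[Bq] (Bq ⧸ Jq) ⧸ (Ideal.ofList ([h'].take 1) • (⊤ : Submodule Bq (Bq ⧸ Jq))) :=
    (Submodule.mkQ _).comp (Submodule.mkQ Jq)
  have hker : LinearMap.ker φ = (J ⊔ Ideal.span {h}).map (algebraMap B Bq) := by
    rw [LinearMap.ker_comp, Submodule.ker_mkQ, key, Ideal.map_sup, Ideal.map_span, Set.image_singleton,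
      List.take_one, List.head?_cons, Option.toList_some, Ideal.ofList_singleton, sup_comm]
  let e := (Submodule.quotEquivOfEq _ _ hker.symm).trans
    (φ.quotKerEquivOfSurjective ((Submodule.mkQ_surjective _).comp (Submodule.mkQ_surjective _)))
  haveI := (Module.flat_iff_of_isLocalization Ap p.primeCompl _).mp hflat'
  exact Module.Flat.of_linearEquiv (e.restrictScalars A)

variable [Algebra.FiniteType A B] [Module.Flat A B]

/-- Cutting until the fibre has finitely many points. -/
theorem exists_cut (p : Ideal A) [p.IsMaximal] (ψ : C →+* B) (hp : p.map (algebraMap A B) ≠ ⊤)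
    (hmax : ∀ n q : Ideal B, n.IsMaximal → q.IsPrime → p.map (algebraMap A B) ≤ n →
      p.map (algebraMap A B) ≤ q → n.comap ψ ≤ q.comap ψ → n.comap ψ = q.comap ψ)
    (hfin : ∀ x : Ideal C, {q : Ideal B | q.IsPrime ∧ p.map (algebraMap A B) ≤ q ∧ q.comap ψ = x}.Finite) :
    ∃ (J : Ideal C) (q : Ideal B) (_ : q.IsMaximal), p.map (algebraMap A B) ⊔ J.map ψ ≤ q ∧
      Module.Flat A (Localization.AtPrime q ⧸ (J.map ψ).map (algebraMap B (Localization.AtPrime q))) ∧
      {q' : Ideal B | q'.IsPrime ∧ p.map (algebraMap A B) ⊔ J.map ψ ≤ q'}.Finite := by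
  suffices H : ∀ (K : Ideal B) (J : Ideal C), K = p.map (algebraMap A B) ⊔ J.map ψ → K ≠ ⊤ →
      (∀ (q : Ideal B) [q.IsPrime], K ≤ q →
        Module.Flat A (Localization.AtPrime q ⧸ (J.map ψ).map (algebraMap B (Localization.AtPrime q)))) →
      ∃ (J : Ideal C) (q : Ideal B) (_ : q.IsMaximal), p.map (algebraMap A B) ⊔ J.map ψ ≤ q ∧
        Module.Flat A (Localization.AtPrime q ⧸ (J.map ψ).map (algebraMap B (Localization.AtPrime q))) ∧
        {q' : Ideal B | q'.IsPrime ∧ p.map (algebraMap A B) ⊔ J.map ψ ≤ q'}.Finite by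
    refine H _ ⊥ (by rw [Ideal.map_bot, sup_bot_eq]) hp fun q _ _ => ?_
    haveI : Module.Flat B (Localization.AtPrime q) := IsLocalization.flat _ q.primeCompl
    haveI : Module.Flat A (Localization.AtPrime q) := Module.Flat.trans A B _
    exact Module.Flat.of_linearEquiv
      ((Submodule.quotEquivOfEqBot _ (by rw [Ideal.map_bot, Ideal.map_bot])).restrictScalars A)
  intro K
  induction K using WellFoundedGT.induction with
  | _ K ih =>
    intro J hK hne hflat
    classical
    let assFin := associatedPrimes.finite B (B ⧸ K)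
    let assF := assFin.toFinset
    have hass : ∀ P ∈ assF, P.IsPrime ∧ K ≤ P := fun P hP => by
      have hP' : IsAssociatedPrime P (B ⧸ K) := assFin.mem_toFinset.1 hP
      refine ⟨hP'.isPrime, le_trans ?_ hP'.annihilator_le⟩
      exact fun k hk => Submodule.mem_annihilator.2 fun m _ => by
        obtain ⟨m, rfl⟩ := Submodule.Quotient.mk_surjective _ m
        rw [← Submodule.Quotient.mk_smul, Submodule.Quotient.mk_eq_zero]
        exact K.mul_mem_right m hk
    by_cases hb : ∀ n : Ideal B, n.IsMaximal → K ≤ n → ∃ P ∈ assF, n.comap ψ = P.comap ψ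
    · -- finitely many contractions
      obtain ⟨q, hq, hKq⟩ := Ideal.exists_le_maximal K hne
      refine ⟨J, q, hq, hK ▸ hKq, hflat q hKq, ?_⟩
      rw [← hK]
      refine ((assF.finite_toSet.biUnion fun P _ => hfin (P.comap ψ))).subset fun q' ⟨hq', hKq'⟩ => ?_
      have hKpq : p.map (algebraMap A B) ≤ q' := le_trans (hK ▸ le_sup_left) hKq'
      -- the quotient is a Jacobson ring
      letI := Ideal.Quotient.field p
      haveI : IsJacobsonRing (B ⧸ p.map (algebraMap A B)) := by
        haveI : Algebra.FiniteType A (B ⧸ p.map (algebraMap A B)) :=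
          Algebra.FiniteType.of_surjective (Ideal.Quotient.mkₐ A _) Ideal.Quotient.mk_surjective
        haveI : Algebra.FiniteType (A ⧸ p) (B ⧸ p.map (algebraMap A B)) :=
          Algebra.FiniteType.of_restrictScalars_finiteType A _ _
        exact isJacobsonRing_of_finiteType (A := A ⧸ p)
      have hj : q'.jacobson = q' := by
        let π := Ideal.Quotient.mk (p.map (algebraMap A B))
        have hπ : Function.Surjective π := Ideal.Quotient.mk_surjective
        have hk : RingHom.ker π ≤ q' := by rw [Ideal.mk_ker]; exact hKpq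
        haveI : (q'.map π).IsPrime := Ideal.map_isPrime_of_surjective hπ hk
        have h1 : (q'.map π).jacobson = q'.map π :=
          (isJacobsonRing_iff_prime_eq.1 inferInstance) _ inferInstance
        have h2 := Ideal.comap_jacobson_of_surjective hπ (K := q'.map π)
        rw [h1, Ideal.comap_map_of_surjective' π hπ, sup_eq_left.2 hk] at h2
        exact h2.symm
      let T := assF.filter fun P => q'.comap ψ ≤ P.comap ψ
      have hle : T.inf (fun P => P.comap ψ) ≤ q'.comap ψ := by
        intro c hc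
        rw [Ideal.mem_comap, ← hj, Ideal.jacobson, Ideal.mem_sInf]
        rintro n ⟨hn1, hn2⟩
        obtain ⟨P, hP, hPe⟩ := hb n hn2 (hKq'.trans hn1)
        have hPT : P ∈ T := Finset.mem_filter.2 ⟨hP, hPe ▸ Ideal.comap_mono hn1⟩
        show c ∈ n.comap ψ
        rw [hPe]
        exact (Finset.inf_le (f := fun P => P.comap ψ) hPT : _ ≤ P.comap ψ) hc
      obtain ⟨P, hP, hPle⟩ := (Ideal.IsPrime.inf_le' (Ideal.IsPrime.comap ψ)).1 hle
      obtain ⟨hP1, hP2⟩ := Finset.mem_filter.1 hP
      exact Set.mem_iUnion₂.2 ⟨P, hP1, hq', hKpq, le_antisymm hP2 hPle⟩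
    · -- cut
      push Not at hb
      obtain ⟨n, hn, hKn, hnP⟩ := hb
      haveI := hn
      have hpK : p.map (algebraMap A B) ≤ K := hK ▸ le_sup_left
      obtain ⟨h, hh, hhP⟩ : ∃ h ∈ n.comap ψ, ∀ P ∈ assF, h ∉ P.comap ψ := by
        by_contra hc
        push Not at hc
        have hsub : ((n.comap ψ : Ideal C) : Set C) ⊆ ⋃ P ∈ (↑assF : Set (Ideal B)), (P.comap ψ : Set C) :=
          fun x hx => by
            obtain ⟨P, hP, hxP⟩ := hc x hx
            exact Set.mem_iUnion₂.2 ⟨P, hP, hxP⟩
        obtain ⟨P, hP, hle⟩ := (Ideal.subset_union_prime (f := fun P : Ideal B => P.comap ψ) ⊥ ⊥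
          (fun P hP _ _ => haveI := (hass P hP).1; Ideal.IsPrime.comap ψ)).1 hsub
        exact hnP P hP (hmax n P hn (hass P hP).1 (hpK.trans hKn) (hpK.trans (hass P hP).2) hle)
      have hreg : ∀ b, ψ h * b ∈ K → b ∈ K := by
        intro b hb
        by_contra hbK
        have hz : ψ h ∈ ⋃ P ∈ associatedPrimes B (B ⧸ K), (P : Set B) := by
          rw [biUnion_associatedPrimes_eq_zero_divisors]
          exact ⟨Submodule.Quotient.mk b, fun h0 => hbK ((Submodule.Quotient.mk_eq_zero _).1 h0),
            by rw [← Submodule.Quotient.mk_smul, Submodule.Quotient.mk_eq_zero]; exact hb⟩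
        obtain ⟨P, hP, hhP'⟩ := Set.mem_iUnion₂.1 hz
        exact hhP P (assFin.mem_toFinset.2 hP) hhP'
      have hhK : ψ h ∉ K := fun hk => hne (K.eq_top_iff_one.2 (hreg 1 (by rwa [mul_one])))
      have hlt : K < K ⊔ Ideal.span {ψ h} :=
        lt_of_le_of_ne le_sup_left fun e => hhK (e.ge (Ideal.mem_sup_right (Ideal.mem_span_singleton_self _)))
      have hJ' : (J ⊔ Ideal.span {h}).map ψ = J.map ψ ⊔ Ideal.span {ψ h} := by
        rw [Ideal.map_sup, Ideal.map_span, Set.image_singleton]
      refine ih _ hlt (J ⊔ Ideal.span {h}) (by rw [hJ', ← sup_assoc, ← hK]) ?_ ?_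
      · exact ne_top_of_le_ne_top hn.ne_top (sup_le hKn ((Ideal.span_singleton_le_iff_mem _).2 hh))
      · intro q _ hq
        rw [hJ']
        refine flat_step p (J.map ψ) (ψ h) (fun b hb => ⟨1, p.one_notMem, ?_⟩) q ?_
          (hflat q (le_sup_left.trans hq))
        · rw [map_one, one_mul, ← hK]
          exact hreg b (hK ▸ hb)
        · exact (Ideal.IsMaximal.eq_of_le ‹p.IsMaximal› (Ideal.comap_ne_top _ (Ideal.IsPrime.ne_top ‹_›))
            (Ideal.map_le_iff_le_comap.mp (hpK.trans (le_sup_left.trans hq)))).symm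

omit [IsNoetherianRing A] [Algebra.FiniteType A B] [Module.Flat A B] in
/-- An element outside the associated primes over `p` is regular near `p`. -/
theorem exists_notMem_mul_mem (p : Ideal A) [p.IsPrime] (K : Ideal B) (hK : p.map (algebraMap A B) ≤ K) (h : B)
    (hass : ∀ P : Ideal B, IsAssociatedPrime P (B ⧸ K) → P.comap (algebraMap A B) = p → h ∉ P)
    {b : B} (hb : h * b ∈ K) : ∃ a ∉ p, algebraMap A B a * b ∈ K := by
  by_contra hc
  push Not at hc
  let ann : B → Ideal B := fun r => K.colon {r}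
  let Fm : Set (Ideal B) := {I | ∃ r, h * r ∈ K ∧ (∀ a ∉ p, algebraMap A B a * r ∉ K) ∧ I = ann r}
  obtain ⟨P, ⟨r, hr, hrp, rfl⟩, hmax⟩ :=
    WellFounded.has_min (wellFounded_gt (α := Ideal B)) Fm ⟨ann b, b, hb, hc, rfl⟩
  have hann : ∀ {r x : B}, x ∈ ann r ↔ x * r ∈ K := fun {r x} => by
    simp [ann, Submodule.mem_colon_singleton]
  have hr1 : (1 : B) ∉ ann r := fun h1 => hrp 1 p.one_notMem (by simpa [hann] using h1)
  have hPp : (ann r).comap (algebraMap A B) = p := by
    refine le_antisymm (fun a ha => by_contra fun hap => hrp a hap (hann.1 ha)) fun a ha => ?_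
    exact hann.2 (K.mul_mem_right r (hK (Ideal.mem_map_of_mem _ ha)))
  have hprime : (ann r).IsPrime := by
    refine ⟨fun e => hr1 (e ▸ trivial), fun {x y} hxy => ?_⟩
    by_contra hne
    push Not at hne
    obtain ⟨hx, hy⟩ := hne
    by_cases hyr : ∀ a ∉ p, algebraMap A B a * (y * r) ∉ K
    · have hle : ann r ≤ ann (y * r) := fun z hz => hann.2 (by
        rw [show z * (y * r) = y * (z * r) by ring]; exact K.mul_mem_left y (hann.1 hz))
      have := hmax (ann (y * r)) ⟨y * r, by rw [show h * (y * r) = y * (h * r) by ring]; exact K.mul_mem_left y hr,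
        hyr, rfl⟩
      have e : ann r = ann (y * r) := by_contra fun e => this (lt_of_le_of_ne hle e)
      exact hx (e.symm ▸ hann.2 (by rw [← mul_assoc]; exact hann.1 hxy))
    · push Not at hyr
      obtain ⟨a, ha, hay⟩ := hyr
      have hle : ann r ≤ ann (algebraMap A B a * r) := fun z hz => hann.2 (by
        rw [show z * (algebraMap A B a * r) = algebraMap A B a * (z * r) by ring]
        exact K.mul_mem_left _ (hann.1 hz))
      have := hmax (ann (algebraMap A B a * r)) ⟨algebraMap A B a * r,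
        by rw [show h * (algebraMap A B a * r) = algebraMap A B a * (h * r) by ring]; exact K.mul_mem_left _ hr,
        fun a' ha' => by
          rw [← mul_assoc, ← map_mul]
          exact hrp _ (fun hm => (‹p.IsPrime›.mem_or_mem hm).elim ha' ha), rfl⟩
      have e : ann r = ann (algebraMap A B a * r) := by_contra fun e => this (lt_of_le_of_ne hle e)
      exact hy (e.symm ▸ hann.2 (by rw [show y * (algebraMap A B a * r) = algebraMap A B a * (y * r) by ring]; exact hay))
  have hassoc : IsAssociatedPrime (ann r) (B ⧸ K) := by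
    refine (isAssociatedPrime_iff (R := B) (M := B ⧸ K)).2 ⟨hprime, Submodule.Quotient.mk r, ?_⟩
    ext x
    rw [hann, Submodule.mem_colon_singleton, Submodule.mem_bot, ← Submodule.Quotient.mk_smul,
      Submodule.Quotient.mk_eq_zero, smul_eq_mul]
  exact hass _ hassoc hPp (hann.2 hr)

end

end Groth.L24.GenQuot
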