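import Groth.Agent.L16.SchSupport
import Groth.Agent.L16.ProperFinite
import Groth.Agent.L18.AmpleAvoid

/-!
# The ideal sheaf of the zeros of a section of an invertible module
-/

set_option autoImplicit false
set_option linter.style.haveILetI false
set_option backward.isDefEq.respectTransparency false
universe u

open CategoryTheory CategoryTheory.Limits AlgebraicGeometry TopologicalSpace Opposite

noncomputable section

namespace Groth.L24.GenQuot

open Groth.L18.Frame (rs ro rs_rs rs_self rs_smul ro_ro IsFrame)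
open Groth.L18.GenLoc (secOf genLocus_inf_eq)

variable {X : Scheme.{u}} {L : X.Modules}

/-- Functions carrying the module into the multiples of a section. -/
def zeroIdl (σ : Γ(L, ⊤)) (U : X.Opens) : Ideal Γ(X, U) where
  carrier := {a | ∀ m : Γ(L, U), ∃ b : Γ(X, U), a • m = b • rs L le_top σ}
  add_mem' {a a'} ha ha' m := by
    obtain ⟨b, hb⟩ := ha m; obtain ⟨b', hb'⟩ := ha' m
    exact ⟨b + b', by rw [add_smul, add_smul, hb, hb']⟩
  zero_mem' m := ⟨0, by simp⟩
  smul_mem' c {a} ha m := by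
    obtain ⟨b, hb⟩ := ha m
    exact ⟨c * b, by rw [smul_eq_mul, mul_smul, hb, mul_smul]⟩

variable (hL : Coh.IsCoh L) (σ : Γ(L, ⊤))

include hL in
theorem map_zeroIdl (U : X.affineOpens) (f : Γ(X, U.1)) :
    (zeroIdl σ U.1).map (X.presheaf.map (homOfLE <| X.basicOpen_le f).op).hom = zeroIdl σ (X.basicOpen f) := by
  classical
  haveI : Coh.IsQCoh L := hL.1
  haveI := Groth.L16.SchSupport.finite_sections L hL U
  letI : Algebra Γ(X, U.1) Γ(X, X.basicOpen f) := (X.presheaf.map (homOfLE <| X.basicOpen_le f).op).hom.toAlgebra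
  haveI := U.2.isLocalization_basicOpen f
  have hu : ∀ n : ℕ, IsUnit (ro (X.basicOpen_le f) (f ^ n)) := fun n =>
    IsLocalization.map_units (M := Submonoid.powers f) Γ(X, X.basicOpen f) ⟨f ^ n, n, rfl⟩
  apply le_antisymm
  · rw [Ideal.map_le_iff_le_comap]
    intro a ha m
    obtain ⟨n, t, ht⟩ := Groth.L16.QCohSect.exists_pow_smul_eq_res U.2 L f m
    obtain ⟨b, hb⟩ := ha t
    refine ⟨(hu n).unit⁻¹.1 * ro (X.basicOpen_le f) b, ?_⟩
    have h1 := congrArg (rs L (X.basicOpen_le f)) hb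
    rw [rs_smul, rs_smul, rs_rs, show rs L (X.basicOpen_le f) t = ro (X.basicOpen_le f) (f ^ n) • m from ht] at h1
    rw [mul_smul, ← h1, smul_smul, smul_smul]
    congr 1
    show ro (X.basicOpen_le f) a = _
    rw [mul_right_comm, IsUnit.val_inv_mul, one_mul]
  · intro b hb
    obtain ⟨⟨a, ⟨_, n, rfl⟩⟩, hab⟩ := IsLocalization.surj (Submonoid.powers f) b
    obtain ⟨s, hs⟩ := Module.Finite.fg_top (R := Γ(X, U.1)) (M := Γ(L, U.1))
    have hN : ∀ m : Γ(L, U.1), ∃ N : ℕ, ∃ d : Γ(X, U.1), (f ^ N * a) • m = d • rs L le_top σ := fun m => by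
      obtain ⟨c, hc⟩ := hb (rs L (X.basicOpen_le f) m)
      obtain ⟨⟨d, ⟨_, k, rfl⟩⟩, hd⟩ := IsLocalization.surj (Submonoid.powers f)
        (c * ro (X.basicOpen_le f) (f ^ n))
      change c * ro (X.basicOpen_le f) (f ^ n) * ro (X.basicOpen_le f) (f ^ k) = ro (X.basicOpen_le f) d at hd
      change b * ro (X.basicOpen_le f) (f ^ n) = ro (X.basicOpen_le f) a at hab
      obtain ⟨N, hN⟩ := Groth.L16.QCohSect.exists_pow_smul_eq_zero U.2 L f ((f ^ k * a) • m - d • rs L le_top σ) (by
        show rs L (X.basicOpen_le f) _ = 0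
        rw [show rs L (X.basicOpen_le f) ((f ^ k * a) • m - d • rs L le_top σ) =
          rs L (X.basicOpen_le f) ((f ^ k * a) • m) - rs L (X.basicOpen_le f) (d • rs L le_top σ) from map_sub _ _ _,
          rs_smul, rs_smul, rs_rs, Groth.L18.Frame.ro_mul, ← hab, sub_eq_zero, ← hd,
          mul_comm b, ← mul_assoc, mul_smul, hc, smul_smul]
        congr 1
        ring)
      refine ⟨N + k, f ^ N * d, ?_⟩
      rw [smul_sub, sub_eq_zero, smul_smul, smul_smul, ← mul_assoc, ← pow_add] at hN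
      exact hN
    choose N d hN using hN
    let K := s.sup N
    have hK : f ^ K * a ∈ zeroIdl σ U.1 := by
      intro m
      have hm : m ∈ Submodule.span Γ(X, U.1) (s : Set Γ(L, U.1)) := hs.symm ▸ Submodule.mem_top
      induction hm using Submodule.span_induction with
      | mem x hx =>
        obtain ⟨j, hj⟩ := Nat.exists_eq_add_of_le (Finset.le_sup (f := N) hx)
        refine ⟨f ^ j * d x, ?_⟩
        rw [show K = j + N x by rw [Nat.add_comm]; exact hj, pow_add, mul_assoc, mul_smul, hN, smul_smul]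
      | zero => exact ⟨0, by simp⟩
      | add x y _ _ hx hy =>
        obtain ⟨b₁, h₁⟩ := hx; obtain ⟨b₂, h₂⟩ := hy
        exact ⟨b₁ + b₂, by rw [smul_add, h₁, h₂, add_smul]⟩
      | smul c x _ hx =>
        obtain ⟨b₁, h₁⟩ := hx
        exact ⟨c * b₁, by rw [smul_comm, h₁, smul_smul]⟩
    refine (IsLocalization.mem_map_algebraMap_iff (Submonoid.powers f) Γ(X, X.basicOpen f)).2
      ⟨⟨⟨_, hK⟩, ⟨f ^ (K + n), K + n, rfl⟩⟩, ?_⟩
    show b * algebraMap _ _ (f ^ (K + n)) = algebraMap _ _ (f ^ K * a)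
    rw [pow_add, map_mul, map_mul, mul_left_comm]
    exact congrArg _ hab

/-- The ideal sheaf of zeros of a section. -/
def zeroSheaf : X.IdealSheafData where
  ideal U := zeroIdl σ U.1
  map_ideal_basicOpen := map_zeroIdl hL σ

/-- On an affine open with a frame it is generated by the coefficient. -/
theorem zeroSheaf_ideal_frame (U : X.affineOpens) {e : Γ(L, U.1)} (he : IsFrame L U.1 e) {c : Γ(X, U.1)}
    (hc : c • e = rs L le_top σ) : (zeroSheaf hL σ).ideal U = Ideal.span {c} := by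
  ext a
  rw [Ideal.mem_span_singleton']
  constructor
  · intro ha
    obtain ⟨b, hb⟩ := ha e
    refine ⟨b, he.inj le_rfl ?_⟩
    rw [rs_self, mul_smul, hc]
    exact hb.symm
  · rintro ⟨b, rfl⟩ m
    obtain ⟨d, hd⟩ := he.exists_coeff le_rfl m
    rw [rs_self] at hd
    exact ⟨b * d, by rw [← hd, ← hc, smul_smul, smul_smul]; congr 1; ring⟩

/-- Frames of tensor powers. -/
theorem exists_frame_tensorPow_of {W : X.Opens} {e : Γ(L, W)} (he : IsFrame L W e) :
    ∀ k, ∃ e' : Γ(CohB1.tensorPow L k, W), IsFrame (CohB1.tensorPow L k) W e'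
  | 0 => by
    refine ⟨(1 : Γ(X, W)), fun V h => ?_⟩
    show Function.Bijective fun a : Γ(X, V) => a * X.presheaf.map (homOfLE h).op (1 : Γ(X, W))
    simp only [map_one, mul_one]
    exact Function.bijective_id
  | k + 1 => by
    obtain ⟨e', he'⟩ := exists_frame_tensorPow_of he k
    exact ⟨_, Groth.L18.GenLoc.isFrame_tens he' he⟩

end Groth.L24.GenQuot
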