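import Groth.Agent.L24.GenQuot.Slice
import Groth.Agent.L24.GenQuot.ZeroSheaf
import Groth.Agent.L18.AmpleOps
import Groth.Prelude.Def_RelProj
import Mathlib.Topology.JacobsonSpace
import Mathlib.Data.DFinsupp.WellFounded

/-!
# Cutting a fibre by hypersurfaces of a quasi-projective scheme
-/

set_option autoImplicit false
set_option linter.style.haveILetI false
set_option backward.isDefEq.respectTransparency false
set_option backward.isDefEq.respectTransparency.types false
universe u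

open CategoryTheory CategoryTheory.Limits AlgebraicGeometry

namespace Groth.L24.GenQuot

open Groth.L18.Frame (rs IsFrame)
open Groth.L18.GenLoc (secOf genLocus_inf_eq)

variable {X Y Z : Scheme.{u}} {u : Y ⟶ X} {v : Y ⟶ Z} {Z' : Z.Opens} {L : X.Modules}

/-- A chart of `u` and `v` on which the module has a frame. -/
structure Piece (u : Y ⟶ X) (v : Y ⟶ Z) (Z' : Z.Opens) (L : X.Modules) where
  /-- the open of the target of `u` -/
  X' : X.affineOpens
  /-- the open of the source -/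
  Y' : Y.affineOpens
  hu : Y'.1 ≤ u ⁻¹ᵁ X'.1
  hv : Y'.1 ≤ v ⁻¹ᵁ Z'
  frame : ∃ e : Γ(L, X'.1), IsFrame L X'.1 e

namespace Piece

variable (P : Piece u v Z' L) (p : Ideal Γ(Z, Z')) (I : X.IdealSheafData)

/-- The map from the base chart. -/
def φ : Γ(Z, Z') →+* Γ(Y, P.Y'.1) := (v.appLE Z' P.Y'.1 P.hv).hom

/-- The map from the target chart. -/
def ψ : Γ(X, P.X'.1) →+* Γ(Y, P.Y'.1) := (u.appLE P.X'.1 P.Y'.1 P.hu).hom

/-- The equations of the closed subscheme. -/
def J : Ideal Γ(Y, P.Y'.1) := (I.ideal P.X').map P.ψ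

/-- The equations of the closed subscheme in the fibre. -/
def K : Ideal Γ(Y, P.Y'.1) := p.map P.φ ⊔ P.J I

/-- Flatness at the points of the fibre. -/
def FlatOn : Prop :=
  letI := P.φ.toAlgebra
  ∀ (q : Ideal Γ(Y, P.Y'.1)) [q.IsPrime], q.comap P.φ = p → P.J I ≤ q →
    Module.Flat Γ(Z, Z') (Localization.AtPrime q ⧸ (P.J I).map (algebraMap Γ(Y, P.Y'.1) (Localization.AtPrime q)))

theorem u_fromSpec (y : PrimeSpectrum Γ(Y, P.Y'.1)) :
    u (P.Y'.2.fromSpec y) = P.X'.2.fromSpec ⟨y.asIdeal.comap P.ψ, inferInstance⟩ := by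
  rw [← Scheme.Hom.comp_apply, ← IsAffineOpen.SpecMap_appLE_fromSpec u P.X'.2 P.Y'.2 P.hu]; rfl

theorem v_fromSpec (hZ : IsAffineOpen Z') (y : PrimeSpectrum Γ(Y, P.Y'.1)) :
    v (P.Y'.2.fromSpec y) = hZ.fromSpec ⟨y.asIdeal.comap P.φ, inferInstance⟩ := by
  rw [← Scheme.Hom.comp_apply, ← IsAffineOpen.SpecMap_appLE_fromSpec v hZ P.Y'.2 P.hv]; rfl

theorem over_iff (hZ : IsAffineOpen Z') (pz : PrimeSpectrum Γ(Z, Z')) (y : PrimeSpectrum Γ(Y, P.Y'.1)) :
    y.asIdeal.comap P.φ = pz.asIdeal ↔ v (P.Y'.2.fromSpec y) = hZ.fromSpec pz := by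
  rw [P.v_fromSpec hZ, hZ.fromSpec.isOpenEmbedding.injective.eq_iff]
  exact ⟨fun h => PrimeSpectrum.ext h, fun h => congrArg PrimeSpectrum.asIdeal h⟩

end Piece

theorem mem_fromSpec_iff {U : X.Opens} (hU : IsAffineOpen U) (x : PrimeSpectrum Γ(X, U)) (f : Γ(X, U)) :
    hU.fromSpec x ∈ X.basicOpen f ↔ f ∉ x.asIdeal := by
  rw [← Scheme.Hom.mem_preimage, hU.fromSpec_preimage_basicOpen]
  rfl

theorem mem_support_fromSpec_iff (I : X.IdealSheafData) (U : X.affineOpens) (x : PrimeSpectrum Γ(X, U.1)) :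
    U.2.fromSpec x ∈ I.support ↔ I.ideal U ≤ x.asIdeal := by
  have hx : U.2.fromSpec x ∈ U.1 := by
    have : U.2.fromSpec x ∈ Set.range U.2.fromSpec := ⟨x, rfl⟩
    rwa [U.2.range_fromSpec] at this
  rw [I.mem_support_iff_of_mem (U := U) hx, Scheme.mem_zeroLocus_iff]
  exact ⟨fun h f hf => not_not.1 fun hn => h f hf ((mem_fromSpec_iff U.2 x f).2 hn),
    fun h f hf hn => (mem_fromSpec_iff U.2 x f).1 hn (h hf)⟩

theorem Piece.mem_support_iff (P : Piece u v Z' L) (I : X.IdealSheafData) (y : PrimeSpectrum Γ(Y, P.Y'.1)) :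
    u (P.Y'.2.fromSpec y) ∈ I.support ↔ P.J I ≤ y.asIdeal := by
  rw [P.u_fromSpec, mem_support_fromSpec_iff, Piece.J, Ideal.map_le_iff_le_comap]

/-- A point closed in its fibre is sent to a point closed in its fibre. -/
theorem eq_of_specializes_image {T : Scheme.{u}} (pX : X ⟶ T) (pY : Y ⟶ T) (pZ : Z ⟶ T)
    [LocallyOfFiniteType pX] [LocallyOfFiniteType pZ] [LocallyOfFiniteType v]
    (hu : u ≫ pX = pY) (hv : v ≫ pZ = pY) (z : Z) (hzc : ∀ z' : Z, z ⤳ z' → pZ z' = pZ z → z' = z)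
    (n : v.fiber z) (hn : IsClosed ({n} : Set (v.fiber z))) (x' : X) (hx : u (v.fiberι z n) ⤳ x')
    (hx' : pX x' = pZ z) : x' = u (v.fiberι z n) := by
  let Zτ := pZ.fiber (pZ z)
  haveI : JacobsonSpace Zτ := LocallyOfFiniteType.jacobsonSpace (pullback.snd pZ (T.fromSpecResidueField (pZ z)))
  have hzcl : IsClosed ({pZ.asFiber z} : Set Zτ) := by
    refine isClosed_of_closure_subset fun w hw => ?_
    apply (pZ.fiberι (pZ z)).isEmbedding.injective
    rw [pZ.fiberι_asFiber]
    refine hzc _ ?_ ?_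
    · have := (specializes_iff_mem_closure.2 hw).map (pZ.fiberι (pZ z)).continuous
      rwa [pZ.fiberι_asFiber] at this
    · have : pZ.fiberι (pZ z) w ∈ Set.range (pZ.fiberι (pZ z)) := ⟨w, rfl⟩
      rwa [pZ.range_fiberι] at this
  let k : Spec (Z.residueField z) ⟶ Zτ :=
    pullback.lift (Z.fromSpecResidueField z) (Spec.map (pZ.residueFieldMap z))
      (Scheme.Hom.SpecMap_residueFieldMap_fromSpecResidueField pZ z).symm
  haveI : IsImmersion k := by
    have hk : k ≫ pZ.fiberι (pZ z) = Z.fromSpecResidueField z := pullback.lift_fst _ _ _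
    haveI : IsPreimmersion (k ≫ pZ.fiberι (pZ z)) := hk ▸ inferInstance
    haveI : IsPreimmersion k := IsPreimmersion.of_comp k (pZ.fiberι (pZ z))
    refine { toIsPreimmersion := inferInstance, isLocallyClosed_range := ?_ }
    have : Set.range k = {pZ.asFiber z} := by
      refine Set.Subsingleton.eq_singleton_of_mem ?_ ⟨IsLocalRing.closedPoint _, ?_⟩
      · rintro _ ⟨a, rfl⟩ _ ⟨b, rfl⟩
        exact congrArg k (Subsingleton.elim (α := PrimeSpectrum (Z.residueField z)) a b)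
      · apply (pZ.fiberι (pZ z)).isEmbedding.injective
        rw [pZ.fiberι_asFiber, ← Scheme.Hom.comp_apply, hk, Scheme.fromSpecResidueField_apply]
    rw [this]
    exact hzcl.isLocallyClosed
  let Xτ := pX.fiber (pZ z)
  haveI : JacobsonSpace Xτ := LocallyOfFiniteType.jacobsonSpace (pullback.snd pX (T.fromSpecResidueField (pZ z)))
  let g : v.fiber z ⟶ Xτ := pullback.lift (v.fiberι z ≫ u)
    (v.fiberToSpecResidueField z ≫ Spec.map (pZ.residueFieldMap z)) (by
      rw [Category.assoc, hu, ← hv, Category.assoc, Scheme.Hom.SpecMap_residueFieldMap_fromSpecResidueField]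
      exact pullback.condition_assoc pZ)
  haveI : LocallyOfFiniteType g := by
    haveI : LocallyOfFiniteType (v.fiberToSpecResidueField z) :=
      MorphismProperty.pullback_snd v (Z.fromSpecResidueField z) inferInstance
    haveI : LocallyOfFiniteType (g ≫ pX.fiberToSpecResidueField (pZ z)) := by
      rw [show g ≫ pX.fiberToSpecResidueField (pZ z) =
        v.fiberToSpecResidueField z ≫ k ≫ pullback.snd pZ (T.fromSpecResidueField (pZ z)) by
        rw [show k ≫ pullback.snd _ _ = _ from pullback.lift_snd _ _ _]; exact pullback.lift_snd _ _ _]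
      infer_instance
    exact locallyOfFiniteType_of_comp g (pX.fiberToSpecResidueField (pZ z))
  have hgn : IsClosed ({g n} : Set Xτ) :=
    g.closePoints_subset_preimage_closedPoints (mem_closedPoints_iff.2 hn)
  have hgι : pX.fiberι (pZ z) (g n) = u (v.fiberι z n) := by
    rw [← Scheme.Hom.comp_apply, show g ≫ pX.fiberι (pZ z) = _ from pullback.lift_fst _ _ _, Scheme.Hom.comp_apply]
  obtain ⟨a, ha⟩ := (pX.range_fiberι (pZ z)).ge (show x' ∈ pX ⁻¹' {pZ z} from hx')
  have hga : g n ⤳ a := by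
    rw [← (pX.fiberι (pZ z)).isEmbedding.isInducing.specializes_iff, hgι, ha]
    exact hx
  rw [← ha, ← hgι]
  exact congrArg _ (hga.mem_closed hgn rfl)

/-- Cutting a fibre by zeros of sections of powers of an ample module. -/
theorem exists_cutProj {T : Scheme.{u}} [IsAffine T] [AlgebraicGeometry.IsNoetherian T]
    (pX : X ⟶ T) (pY : Y ⟶ T) (pZ : Z ⟶ T)
    [LocallyOfFiniteType pY] [QuasiCompact pY] [LocallyOfFiniteType pZ] [QuasiCompact pZ]
    (hX : RelProj.IsQuasiProjective pX)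
    (u : Y ⟶ X) (v : Y ⟶ Z) (hu : u ≫ pX = pY) (hv : v ≫ pZ = pY)
    (z : Z) (hz : z ∈ Set.range v) (hzc : ∀ z' : Z, z ⤳ z' → pZ z' = pZ z → z' = z)
    (hflat : ∀ y : Y, v y = z → (v.stalkMap y).hom.Flat) :
    ∃ (F : Scheme.{u}) (i : F ⟶ X), IsClosedImmersion i ∧
      (u '' ((u ⁻¹' Set.range i) ∩ v ⁻¹' {z})).Finite ∧
      (u '' ((u ⁻¹' Set.range i) ∩ v ⁻¹' {z})).Nonempty ∧
      ∀ y' : ↥(pullback i u), v (pullback.snd i u y') = z →
        ((pullback.snd i u ≫ v).stalkMap y').hom.Flat := by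
  classical
  obtain ⟨_, _, L, hL'⟩ := hX
  have hL : CohB1.IsAmple L := Groth.L18.Ample.isAmple_of_isRelAmple hL'
  haveI : IsLocallyNoetherian X := LocallyOfFiniteType.isLocallyNoetherian pX
  haveI : CompactSpace X := QuasiCompact.compactSpace_of_compactSpace pX
  haveI : AlgebraicGeometry.IsNoetherian X := {}
  haveI : IsLocallyNoetherian Y := LocallyOfFiniteType.isLocallyNoetherian pY
  haveI : CompactSpace Y := QuasiCompact.compactSpace_of_compactSpace pY
  haveI : AlgebraicGeometry.IsNoetherian Y := {}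
  haveI : IsLocallyNoetherian Z := LocallyOfFiniteType.isLocallyNoetherian pZ
  haveI : LocallyOfFiniteType v := by
    haveI : LocallyOfFiniteType (v ≫ pZ) := hv ▸ inferInstance
    exact locallyOfFiniteType_of_comp v pZ
  obtain ⟨_, ⟨Z', hZ, rfl⟩, hzZ, -⟩ := Z.isBasis_affineOpens.exists_subset_of_mem_open (Set.mem_univ z) isOpen_univ
  change Z.Opens at Z'
  replace hZ : IsAffineOpen Z' := hZ
  obtain ⟨pz, hpz⟩ : z ∈ Set.range hZ.fromSpec := by rw [hZ.range_fromSpec]; exact hzZ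
  let p := pz.asIdeal
  haveI : IsNoetherianRing Γ(Z, Z') := IsLocallyNoetherian.component_noetherian ⟨Z', hZ⟩
  -- finitely many pieces
  obtain ⟨ι, _, P, hP⟩ : ∃ (ι : Type u) (_ : Finite ι) (P : ι → Piece u v Z' L),
      ∀ y, v y = z → ∃ j, y ∈ (P j).Y'.1 := by
    have hex : ∀ y : {y : Y // v y = z}, ∃ P : Piece u v Z' L, y.1 ∈ P.Y'.1 := by
      rintro ⟨y, hy⟩
      obtain ⟨W, e, hW, hyW, he⟩ := Groth.L18.GenLoc.exists_affine_frame hL.1 (u y)
      obtain ⟨_, ⟨V, hV, rfl⟩, hyV, hVle⟩ := Y.isBasis_affineOpens.exists_subset_of_mem_open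
        (show y ∈ u ⁻¹ᵁ W ⊓ v ⁻¹ᵁ Z' from ⟨hyW, show v y ∈ Z' from hy.symm ▸ hzZ⟩) (u ⁻¹ᵁ W ⊓ v ⁻¹ᵁ Z').2
      exact ⟨⟨⟨W, hW⟩, ⟨V, hV⟩, fun a ha => (hVle ha).1, fun a ha => (hVle ha).2, ⟨e, he⟩⟩, hyV⟩
    choose P hP using hex
    obtain ⟨t, ht⟩ := (TopologicalSpace.NoetherianSpace.isCompact (v ⁻¹' {z})).elim_finite_subcover
      (fun y : {y : Y // v y = z} => ((P y).Y'.1 : Set Y)) (fun y => (P y).Y'.1.2)
      (fun y hy => Set.mem_iUnion.2 ⟨⟨y, hy⟩, hP ⟨y, hy⟩⟩)
    refine ⟨t, inferInstance, fun y => P y.1, fun y hy => ?_⟩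
    obtain ⟨j, hj, hyj⟩ := Set.mem_iUnion₂.1 (ht hy)
    exact ⟨⟨j, hj⟩, hyj⟩
  haveI : ∀ j, IsNoetherianRing Γ(Y, (P j).Y'.1) := fun j => IsLocallyNoetherian.component_noetherian (P j).Y'
  have hYz : ∀ (j : ι) (y : PrimeSpectrum Γ(Y, (P j).Y'.1)),
      y.asIdeal.comap (P j).φ = p ↔ v ((P j).Y'.2.fromSpec y) = z := fun j y => by
    rw [(P j).over_iff hZ pz y, hpz]
  have hpt : ∀ y, v y = z → ∃ (j : ι) (q : PrimeSpectrum Γ(Y, (P j).Y'.1)),
      (P j).Y'.2.fromSpec q = y ∧ q.asIdeal.comap (P j).φ = p := fun y hy => by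
    obtain ⟨j, hj⟩ := hP y hy
    obtain ⟨q, rfl⟩ : y ∈ Set.range (P j).Y'.2.fromSpec := by rw [(P j).Y'.2.range_fromSpec]; exact hj
    exact ⟨j, q, rfl, (hYz j q).2 hy⟩
  have hτ : ∀ y, v y = z → pX (u y) = pZ z := fun y hy => by
    rw [← Scheme.Hom.comp_apply, hu, ← hv, Scheme.Hom.comp_apply, hy]
  -- the invariant
  let M : X.IdealSheafData → ∀ j, Ideal Γ(Y, (P j).Y'.1) := fun I j => (P j).K p I
  suffices H : ∀ (m : ∀ j, Ideal Γ(Y, (P j).Y'.1)) (I : X.IdealSheafData), M I = m →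
      (∃ y, v y = z ∧ u y ∈ I.support) → (∀ j, (P j).FlatOn p I) →
      ∃ I' : X.IdealSheafData, (u '' ((u ⁻¹' (I'.support : Set X)) ∩ v ⁻¹' {z})).Finite ∧
        (∃ y, v y = z ∧ u y ∈ I'.support) ∧ ∀ j, (P j).FlatOn p I' by
    obtain ⟨y₀, hy₀⟩ := hz
    obtain ⟨I, hfin, ⟨y, hy, hyI⟩, hfl⟩ := H _ ⊥ rfl ⟨y₀, hy₀, by simp; trivial⟩ (fun j q _ hq _ => by
      letI := (P j).φ.toAlgebra
      obtain ⟨y, hy, hyz⟩ : ∃ y, (P j).Y'.2.fromSpec ⟨q, inferInstance⟩ = y ∧ v y = z :=
        ⟨_, rfl, (hYz j ⟨q, inferInstance⟩).1 hq⟩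
      have hmem : y ∈ (P j).Y'.1 := by
        have : y ∈ Set.range (P j).Y'.2.fromSpec := ⟨_, hy⟩
        rwa [(P j).Y'.2.range_fromSpec] at this
      have h := (Groth.L20.flat_stalkMap_iff v hZ (P j).Y'.2 (P j).hv hmem).1 (hflat y hyz)
      have e : (P j).Y'.2.primeIdealOf ⟨y, hmem⟩ = ⟨q, inferInstance⟩ := by
        apply (P j).Y'.2.fromSpec.isOpenEmbedding.injective
        rw [IsAffineOpen.fromSpec_primeIdealOf, hy]
      rw [show ((P j).Y'.2.primeIdealOf ⟨y, hmem⟩).asIdeal.primeCompl = q.primeCompl by simp only [e]] at h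
      haveI : Module.Flat Γ(Z, Z') (Localization.AtPrime q) := h
      exact Module.Flat.of_linearEquiv ((Submodule.quotEquivOfEqBot _ (by
        rw [Piece.J, Scheme.IdealSheafData.ideal_bot, Pi.bot_apply, Ideal.map_bot, Ideal.map_bot])).restrictScalars _))
    refine ⟨I.subscheme, I.subschemeι, inferInstance, ?_, ?_, fun y' hy' => ?_⟩
    · rwa [Scheme.IdealSheafData.range_subschemeι]
    · rw [Scheme.IdealSheafData.range_subschemeι]
      exact ⟨u y, y, ⟨hyI, hy⟩, rfl⟩
    · obtain ⟨j, q, hq, hqp⟩ := hpt _ hy'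
      letI := (P j).φ.toAlgebra
      let C := Γ(X, (P j).X'.1)
      let B := Γ(Y, (P j).Y'.1)
      let J := I.ideal (P j).X'
      let JB := (P j).J I
      let π : Γ(Y, (P j).Y'.1) ⟶ CommRingCat.of (B ⧸ JB) := CommRingCat.ofHom (Ideal.Quotient.mk JB)
      let πA : Γ(X, (P j).X'.1) ⟶ CommRingCat.of (C ⧸ J) := CommRingCat.ofHom (Ideal.Quotient.mk J)
      let ψq : CommRingCat.of (C ⧸ J) ⟶ CommRingCat.of (B ⧸ JB) :=
        CommRingCat.ofHom (Ideal.quotientMap JB (P j).ψ Ideal.le_comap_map)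
      have hpush : IsPushout (u.appLE (P j).X'.1 (P j).Y'.1 (P j).hu) πA π ψq := by
        refine IsPushout.of_isColimit' ⟨rfl⟩ (PushoutCocone.IsColimit.mk _
          (fun s => CommRingCat.ofHom (Ideal.Quotient.lift JB s.inl.hom fun b hb => ?_)) ?_ ?_ ?_)
        · refine (Ideal.map_le_iff_le_comap.2 (fun c hc => ?_) : JB ≤ RingHom.ker s.inl.hom) hb
          rw [Ideal.mem_comap, RingHom.mem_ker]
          refine (congrArg (fun m => m c) s.condition).trans ?_
          show s.inr.hom (Ideal.Quotient.mk J c) = 0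
          rw [Ideal.Quotient.eq_zero_iff_mem.2 hc, map_zero]
        · intro s; ext b; rfl
        · intro s; ext b
          exact congrArg (fun m => m b) s.condition
        · intro s m hm _
          ext b
          exact congrArg (fun m => m b) hm
      have hsq := isPullback_SpecMap_of_isPushout _ πA π ψq hpush
      let c₂ : pullback (Spec.map πA) (Spec.map (u.appLE (P j).X'.1 (P j).Y'.1 (P j).hu)) ⟶
          pullback I.subschemeι u :=
        pullback.map _ _ _ _ (I.subschemeCover.f (P j).X') (P j).Y'.2.fromSpec (P j).X'.2.fromSpec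
          (by rw [Scheme.IdealSheafData.subschemeCover_map_subschemeι, Scheme.IdealSheafData.glueDataObjι,
            Category.assoc, IsAffineOpen.isoSpec_inv_ι])
          (IsAffineOpen.SpecMap_appLE_fromSpec u (P j).X'.2 (P j).Y'.2 (P j).hu)
      haveI : IsOpenImmersion (I.subschemeCover.f (P j).X') := I.subschemeCover.map_prop _
      haveI : IsOpenImmersion c₂ := inferInstanceAs (IsOpenImmersion (pullback.map _ _ _ _ _ _ _ _ _))
      let c := hsq.flip.isoPullback.hom ≫ c₂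
      have hc : c ≫ pullback.snd I.subschemeι u = Spec.map π ≫ (P j).Y'.2.fromSpec := by
        simp only [c, c₂, pullback.map, Category.assoc, pullback.lift_snd]
        exact IsPullback.isoPullback_hom_snd_assoc _ _
      obtain ⟨q', rfl⟩ : y' ∈ Set.range c := by
        obtain ⟨w, hw⟩ : y' ∈ Set.range c₂ := by
          rw [Scheme.Pullback.range_map]
          refine ⟨?_, ⟨q, hq⟩⟩
          show pullback.fst I.subschemeι u y' ∈ Set.range (I.subschemeCover.f (P j).X')
          rw [← Scheme.Hom.coe_opensRange, Scheme.IdealSheafData.opensRange_subschemeCover_map]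
          show I.subschemeι (pullback.fst I.subschemeι u y') ∈ (P j).X'.1
          rw [← Scheme.Hom.comp_apply, pullback.condition, Scheme.Hom.comp_apply]
          refine (P j).hu ?_
          have : pullback.snd I.subschemeι u y' ∈ Set.range (P j).Y'.2.fromSpec := ⟨q, hq⟩
          rwa [(P j).Y'.2.range_fromSpec] at this
        obtain ⟨w', rfl⟩ := hsq.flip.isoPullback.hom.surjective w
        exact ⟨w', hw⟩
      have hqq : Spec.map π q' = q := by
        apply (P j).Y'.2.fromSpec.isOpenEmbedding.injective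
        rw [← Scheme.Hom.comp_apply, ← hc, hq]; rfl
      have hqI : JB ≤ q.asIdeal := by
        rw [← hqq]
        intro b hb
        show Ideal.Quotient.mk JB b ∈ q'.asIdeal
        rw [Ideal.Quotient.eq_zero_iff_mem.2 hb]
        exact zero_mem _
      let φ := v.appLE Z' (P j).Y'.1 (P j).hv
      have hcomp : c ≫ pullback.snd I.subschemeι u ≫ v = Spec.map (φ ≫ π) ≫ hZ.fromSpec := by
        rw [reassoc_of% hc, Spec.map_comp, Category.assoc, IsAffineOpen.SpecMap_appLE_fromSpec v hZ (P j).Y'.2]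
      refine Groth.L19.flat_stalkMap_of_comp c _ q'
        (RingHom.Flat.of_bijective (ConcreteCategory.bijective_of_isIso (c.stalkMap q'))) ?_
      rw [hcomp, Scheme.Hom.stalkMap_comp]
      refine RingHom.Flat.comp (RingHom.Flat.of_bijective (ConcreteCategory.bijective_of_isIso (hZ.fromSpec.stalkMap _))) ?_
      have hR := (RingHom.toMorphismProperty_respectsIso_iff (P := fun f => RingHom.Flat f)).mp
        RingHom.Flat.respectsIso
      exact ((RingHom.toMorphismProperty fun f => RingHom.Flat f).arrow_mk_iso_iff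
        (Scheme.arrowStalkMapSpecIso (φ ≫ π) q')).2
        (flat_localRingHom_quotient (A := Γ(Z, Z')) JB q.asIdeal q'.asIdeal
          (congrArg PrimeSpectrum.asIdeal hqq) (hfl j q.asIdeal hqp hqI))
  intro m
  haveI : WellFoundedGT (∀ j, Ideal Γ(Y, (P j).Y'.1)) :=
    ⟨(inferInstance : WellFoundedLT (∀ j, (Ideal Γ(Y, (P j).Y'.1))ᵒᵈ)).wf⟩
  induction m using WellFoundedGT.induction with
  | _ m ih =>
    intro I hm ⟨y₀, hy₀, hy₀I⟩ hfl
    -- the images of the associated points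
    let E : Set X := ⋃ j, (fun q : PrimeSpectrum Γ(Y, (P j).Y'.1) => u ((P j).Y'.2.fromSpec q)) ''
      {q | IsAssociatedPrime q.asIdeal (Γ(Y, (P j).Y'.1) ⧸ (P j).K p I) ∧ q.asIdeal.comap (P j).φ = p}
    have hE : E.Finite := Set.finite_iUnion fun j => Set.Finite.image _ <| Set.Finite.subset
      ((associatedPrimes.finite Γ(Y, (P j).Y'.1) (Γ(Y, (P j).Y'.1) ⧸ (P j).K p I)).preimage
        (fun a _ b _ h => PrimeSpectrum.ext h)) (fun q hq => hq.1)
    have hEτ : ∀ x ∈ E, pX x = pZ z := fun x hx => by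
      obtain ⟨j, q, ⟨-, hq⟩, rfl⟩ := Set.mem_iUnion.1 hx
      exact hτ _ ((hYz j q).1 hq)
    haveI : JacobsonSpace (v.fiber z) :=
      LocallyOfFiniteType.jacobsonSpace (pullback.snd v (Z.fromSpecResidueField z))
    let Wc : Set (v.fiber z) := (fun w => u (v.fiberι z w)) ⁻¹' (I.support : Set X)
    have hWc : IsClosed Wc := I.support.isClosed.preimage (u.continuous.comp (v.fiberι z).continuous)
    by_cases hb : ∀ n ∈ Wc, IsClosed ({n} : Set (v.fiber z)) → u (v.fiberι z n) ∈ E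
    · refine ⟨I, hE.subset ?_, ⟨y₀, hy₀, hy₀I⟩, hfl⟩
      rintro _ ⟨y, ⟨hyI, hy⟩, rfl⟩
      obtain ⟨w, rfl⟩ := (v.range_fiberι z).ge hy
      let E' : Set X := {x ∈ E | ∀ x', x ⤳ x' → pX x' = pZ z → x' = x}
      have hE' : IsClosed (⋃ x ∈ E', closure ({x} : Set X)) :=
        (hE.subset fun x hx => hx.1).isClosed_biUnion fun x _ => isClosed_closure
      have hsub : closure ({w} : Set (v.fiber z)) ⊆ (fun w => u (v.fiberι z w)) ⁻¹' (⋃ x ∈ E', closure {x}) := by
        rw [← closure_inter_closedPoints (isClosed_closure (s := ({w} : Set (v.fiber z))))]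
        · refine closure_minimal ?_ (hE'.preimage (u.continuous.comp (v.fiberι z).continuous))
          rintro n ⟨hn, hncl⟩
          have hnW : n ∈ Wc := hWc.closure_subset_iff.2 (Set.singleton_subset_iff.2 hyI) hn
          exact Set.mem_iUnion₂.2 ⟨_, ⟨hb n hnW (mem_closedPoints_iff.1 hncl),
            fun x' h h' => eq_of_specializes_image pX pY pZ hu hv z hzc n (mem_closedPoints_iff.1 hncl) x' h h'⟩,
            subset_closure rfl⟩
      obtain ⟨x, hx, hxw⟩ := Set.mem_iUnion₂.1 (hsub (subset_closure rfl))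
      have := hx.2 _ (specializes_iff_mem_closure.2 hxw) (hτ _ hy)
      rw [show u (v.fiberι z w) = x from this]; exact hx.1
    · push Not at hb
      obtain ⟨n, hnW, hncl, hnE⟩ := hb
      let x := u (v.fiberι z n)
      have hxu := eq_of_specializes_image pX pY pZ hu hv z hzc n hncl
      have hEU : E ⊆ ((⟨(closure {x})ᶜ, isClosed_closure.isOpen_compl⟩ : X.Opens) : Set X) := fun e he hex =>
        hnE (hxu e (specializes_iff_mem_closure.2 hex) (hEτ e he) ▸ he)
      obtain ⟨k, s, hEs, hsU, -⟩ := Groth.L18.Ample.exists_pow_genLocus_of_isAmple hL E hE _ hEU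
      have hxs : x ∉ CohB1.genLocus _ s := fun h => hsU h (subset_closure rfl)
      let N := CohB1.tensorPow L (k + 1)
      have hN : Coh.IsCoh N :=
        Groth.L16.ProperFinite.isCoh_of_isInvertible (Groth.L18.Ample.isInvertible_tensorPow hL.1 _)
      let I' := I ⊔ zeroSheaf hN (secOf s)
      have hcoef : ∀ j, ∃ c : Γ(X, (P j).X'.1), I'.ideal (P j).X' = I.ideal (P j).X' ⊔ Ideal.span {c} ∧
          CohB1.genLocus N s ⊓ (P j).X'.1 = X.basicOpen c := fun j => by
        obtain ⟨e, he⟩ := (P j).frame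
        obtain ⟨e', he'⟩ := exists_frame_tensorPow_of he (k + 1)
        obtain ⟨c, hc⟩ := he'.exists_coeff le_rfl (rs N le_top (secOf s))
        rw [Groth.L18.Frame.rs_self] at hc
        exact ⟨c, by rw [Scheme.IdealSheafData.ideal_sup, Pi.sup_apply, zeroSheaf_ideal_frame hN _ _ he' hc],
          genLocus_inf_eq s he' hc⟩
      choose c hc hcs using hcoef
      have hK : ∀ j, (P j).K p I' = (P j).K p I ⊔ Ideal.span {(P j).ψ (c j)} := fun j => by
        simp only [Piece.K, Piece.J, hc j, Ideal.map_sup, Ideal.map_span, Set.image_singleton, sup_assoc]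
      have hreg : ∀ j b, (P j).ψ (c j) * b ∈ (P j).K p I → ∃ a ∉ p, (P j).φ a * b ∈ (P j).K p I := fun j b hb => by
        letI := (P j).φ.toAlgebra
        refine exists_notMem_mul_mem p _ le_sup_left ((P j).ψ (c j)) (fun Q hQ hQp hcQ => ?_) hb
        haveI := hQ.isPrime
        have hmem : u ((P j).Y'.2.fromSpec ⟨Q, inferInstance⟩) ∈ CohB1.genLocus N s ⊓ (P j).X'.1 := by
          refine ⟨hEs (Set.mem_iUnion.2 ⟨j, ⟨Q, inferInstance⟩, ⟨hQ, hQp⟩, rfl⟩), ?_⟩
          rw [(P j).u_fromSpec]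
          exact (P j).X'.2.range_fromSpec.le ⟨_, rfl⟩
        rw [hcs j, (P j).u_fromSpec, mem_fromSpec_iff] at hmem
        exact hmem hcQ
      obtain ⟨j₀, q₀, hq₀, hq₀p⟩ := hpt (v.fiberι z n) ((v.range_fiberι z).le ⟨n, rfl⟩)
      have hq₀I : (P j₀).J I ≤ q₀.asIdeal := ((P j₀).mem_support_iff I q₀).1 (by rw [hq₀]; exact hnW)
      have hq₀c : (P j₀).ψ (c j₀) ∈ q₀.asIdeal := by
        by_contra hcn
        have : u ((P j₀).Y'.2.fromSpec q₀) ∈ X.basicOpen (c j₀) := by
          rw [(P j₀).u_fromSpec, mem_fromSpec_iff]; exact hcn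
        rw [← hcs j₀, hq₀] at this
        exact hxs this.1
      have hJ' : ∀ j, (P j).J I' = (P j).J I ⊔ Ideal.span {(P j).ψ (c j)} := fun j => by
        simp only [Piece.J, hc j, Ideal.map_sup, Ideal.map_span, Set.image_singleton]
      refine ih (M I') ?_ I' rfl ⟨v.fiberι z n, (v.range_fiberι z).le ⟨n, rfl⟩, ?_⟩ fun j q _ hqp hqI => ?_
      · rw [← hm]
        refine lt_of_le_of_ne (fun j => (le_sup_left.trans_eq (hK j).symm : (P j).K p I ≤ _)) fun e => ?_
        have hcK : (P j₀).ψ (c j₀) ∈ (P j₀).K p I := by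
          rw [show (P j₀).K p I = (P j₀).K p I ⊔ Ideal.span {(P j₀).ψ (c j₀)} from (congrFun e j₀).trans (hK j₀)]
          exact Ideal.mem_sup_right (Ideal.mem_span_singleton_self _)
        obtain ⟨a, ha, haK⟩ := hreg j₀ 1 (by rwa [mul_one])
        rw [mul_one] at haK
        refine ha (hq₀p.le ?_)
        exact sup_le (Ideal.map_le_iff_le_comap.2 hq₀p.ge) hq₀I haK
      · rw [← hq₀]
        refine ((P j₀).mem_support_iff I' q₀).2 ?_
        rw [hJ']
        exact sup_le hq₀I ((Ideal.span_singleton_le_iff_mem _).2 hq₀c)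
      · letI := (P j).φ.toAlgebra
        rw [hJ'] at hqI
        rw [hJ']
        exact flat_step p ((P j).J I) ((P j).ψ (c j)) (fun b hb => hreg j b hb) q hqp
          (hfl j q hqp (le_sup_left.trans hqI))

end Groth.L24.GenQuot
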