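import Groth.Agent.L24.Mono.Factor
import Groth.Agent.L24.LocQ.Cancel
import Groth.Agent.L02.Grpd.Invariant
import Groth.Prelude.Def_Grpd

/-!
# The image groupoid of a groupoid with flat stabilisers
-/

set_option autoImplicit false
set_option linter.style.haveILetI false
set_option backward.isDefEq.respectTransparency.types false
universe u

open CategoryTheory CategoryTheory.Limits AlgebraicGeometry

namespace Groth.L24.GenQuot

theorem quasiCompact_of_isNoetherian {X Y : Scheme.{u}} (f : X ⟶ Y) [IsNoetherian X] : QuasiCompact f :=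
  ⟨fun U _ _ => TopologicalSpace.NoetherianSpace.isCompact _⟩

/-- A groupoid on a scheme of arrows determined by its two ends. -/
noncomputable def monoGrpd {S : Scheme.{u}} {U R : Scheme.{u}} (pU : U ⟶ S) (s t : R ⟶ U)
    (hover : t ≫ pU = s ≫ pU)
    (hext : ∀ {T : Scheme.{u}} (a b : T ⟶ R), a ≫ s = b ≫ s → a ≫ t = b ≫ t → a = b)
    (e : U ⟶ R) (he_s : e ≫ s = 𝟙 U) (he_t : e ≫ t = 𝟙 U)
    (i : R ⟶ R) (hi_s : i ≫ s = t) (hi_t : i ≫ t = s)
    (c : pullback s t ⟶ R) (hc_s : c ≫ s = pullback.snd s t ≫ s) (hc_t : c ≫ t = pullback.fst s t ≫ t) :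
    Grpd.GroupoidScheme S where
  U := U
  R := R
  pU := pU
  pR := s ≫ pU
  s := s
  t := t
  e := e
  i := i
  c := c
  s_over := rfl
  t_over := hover
  comp_s α β h := by rw [Category.assoc, hc_s, pullback.lift_snd_assoc]
  comp_t α β h := by rw [Category.assoc, hc_t, pullback.lift_fst_assoc]
  assoc α β γ h₁ h₂ := by
    apply hext
    · simp only [Category.assoc, hc_s, pullback.lift_snd_assoc]
    · simp only [Category.assoc, hc_t, pullback.lift_fst_assoc]
  e_s := he_s
  e_t := he_t
  comp_e α := by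
    apply hext
    · simp only [Category.assoc, hc_s, pullback.lift_snd_assoc, he_s, Category.comp_id]
    · simp only [Category.assoc, hc_t, pullback.lift_fst_assoc]
  e_comp α := by
    apply hext
    · simp only [Category.assoc, hc_s, pullback.lift_snd_assoc]
    · simp only [Category.assoc, hc_t, pullback.lift_fst_assoc, he_t, Category.comp_id]
  i_s := hi_s
  i_t := hi_t
  comp_i α := by
    apply hext
    · simp only [Category.assoc, hc_s, pullback.lift_snd_assoc, hi_s, he_s, Category.comp_id]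
    · simp only [Category.assoc, hc_t, pullback.lift_fst_assoc, he_t, Category.comp_id]
  i_comp α := by
    apply hext
    · simp only [Category.assoc, hc_s, pullback.lift_snd_assoc, he_s, Category.comp_id]
    · simp only [Category.assoc, hc_t, pullback.lift_fst_assoc, hi_t, he_t, Category.comp_id]

/-- A groupoid with flat kernel pair of `j` maps onto a groupoid with monomorphic `j`. -/
theorem exists_image_groupoid {S : Scheme.{u}} [IsNoetherian S] (G : Grpd.GroupoidScheme S)
    [LocallyOfFiniteType G.s] [QuasiCompact G.s] [Flat G.s] [LocallyOfFiniteType G.pU] [QuasiCompact G.pU]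
    (hK : Flat (pullback.fst G.j G.j)) :
    ∃ (R' : Scheme.{u}) (f : G.R ⟶ R') (s' t' : R' ⟶ G.U) (hover : t' ≫ G.pU = s' ≫ G.pU)
      (hext : ∀ {T : Scheme.{u}} (a b : T ⟶ R'), a ≫ s' = b ≫ s' → a ≫ t' = b ≫ t' → a = b)
      (e : G.U ⟶ R') (he_s : e ≫ s' = 𝟙 _) (he_t : e ≫ t' = 𝟙 _)
      (i : R' ⟶ R') (hi_s : i ≫ s' = t') (hi_t : i ≫ t' = s')
      (c : pullback s' t' ⟶ R') (hc_s : c ≫ s' = pullback.snd s' t' ≫ s') (hc_t : c ≫ t' = pullback.fst s' t' ≫ t'),
      f ≫ s' = G.s ∧ f ≫ t' = G.t ∧ Surjective f ∧ Flat f ∧ LocallyOfFinitePresentation f ∧ QuasiCompact f ∧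
      Flat s' ∧ LocallyOfFiniteType s' ∧ QuasiCompact s' ∧
      Mono (monoGrpd G.pU s' t' hover hext e he_s he_t i hi_s hi_t c hc_s hc_t).j ∧
      LocallyQuasiFinite (monoGrpd G.pU s' t' hover hext e he_s he_t i hi_s hi_t c hc_s hc_t).j ∧
      LocallyOfFiniteType (monoGrpd G.pU s' t' hover hext e he_s he_t i hi_s hi_t c hc_s hc_t).j := by
  haveI : IsLocallyNoetherian G.U := LocallyOfFiniteType.isLocallyNoetherian G.pU
  haveI : CompactSpace G.U := QuasiCompact.compactSpace_of_compactSpace G.pU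
  haveI : IsLocallyNoetherian G.R := LocallyOfFiniteType.isLocallyNoetherian G.s
  haveI : CompactSpace G.R := QuasiCompact.compactSpace_of_compactSpace G.s
  haveI : IsNoetherian G.R := {}
  let P := pullback.fst G.pU G.pU ≫ G.pU
  have hjP : G.j ≫ P = G.pR := by
    simp only [P, Grpd.GroupoidScheme.j, pullback.lift_fst_assoc, G.t_over]
  let a : Over.mk G.pR ⟶ Over.mk P := Over.homMk G.j hjP
  have hj₁ : G.j ≫ pullback.fst G.pU G.pU = G.t := pullback.lift_fst _ _ _
  have hj₂ : G.j ≫ pullback.snd G.pU G.pU = G.s := pullback.lift_snd _ _ _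
  haveI : LocallyOfFiniteType (G.j ≫ pullback.snd G.pU G.pU) := by rw [hj₂]; infer_instance
  haveI : LocallyOfFiniteType G.j := locallyOfFiniteType_of_comp G.j (pullback.snd G.pU G.pU)
  haveI : LocallyOfFiniteType a.left := inferInstanceAs (LocallyOfFiniteType G.j)
  haveI : IsLocallyNoetherian (Over.mk G.pR).left := inferInstanceAs (IsLocallyNoetherian G.R)
  obtain ⟨G₀, f', f'', hfs, hff, hfp, hm, hfac⟩ := Groth.L24.MonoFac.exists_factor' a hK
    (LocallyOfFinitePresentation.iff_locallyOfFiniteType.mpr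
      (inferInstanceAs (LocallyOfFiniteType (pullback.fst G.j G.j))))
  let R' := G₀.left
  let f : G.R ⟶ R' := f'.left
  let m : R' ⟶ pullback G.pU G.pU := f''.left
  haveI : Mono m := hm
  haveI : Surjective f := hfs
  haveI : Flat f := hff
  haveI : LocallyOfFinitePresentation f := hfp
  haveI : QuasiCompact f := quasiCompact_of_isNoetherian f
  have hfm : f ≫ m = G.j := congrArg (fun g : Over.mk G.pR ⟶ Over.mk P => g.left) hfac
  haveI : LocallyOfFiniteType (f ≫ m) := by rw [hfm]; infer_instance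
  haveI hlm : LocallyOfFiniteType m := Groth.L24.Alg.locallyOfFiniteType_of_fppf_comp f m inferInstance
  let s' : R' ⟶ G.U := m ≫ pullback.snd G.pU G.pU
  let t' : R' ⟶ G.U := m ≫ pullback.fst G.pU G.pU
  have hs' : f ≫ s' = G.s := by simp only [s', reassoc_of% hfm, hj₂]
  have ht' : f ≫ t' = G.t := by simp only [t', reassoc_of% hfm, hj₁]
  have hover : t' ≫ G.pU = s' ≫ G.pU := by simp only [s', t', Category.assoc, pullback.condition]
  have hext : ∀ {T : Scheme.{u}} (a b : T ⟶ R'), a ≫ s' = b ≫ s' → a ≫ t' = b ≫ t' → a = b := by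
    intro T a b h₁ h₂
    rw [← cancel_mono m]
    apply pullback.hom_ext
    · simpa only [t', Category.assoc] using h₂
    · simpa only [s', Category.assoc] using h₁
  haveI : Flat (f ≫ s') := by rw [hs']; infer_instance
  haveI : Flat s' := Groth.L24.LocQ.flat_of_comp_surjective f s' inferInstance
  haveI : LocallyOfFiniteType s' := inferInstance
  haveI : IsLocallyNoetherian R' := LocallyOfFiniteType.isLocallyNoetherian s'
  haveI : CompactSpace R' := by
    have hr : Set.range f = Set.univ := (Surjective.surj : Function.Surjective f).range_eq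
    exact ⟨hr ▸ isCompact_range f.continuous⟩
  haveI : IsNoetherian R' := {}
  haveI : QuasiCompact s' := quasiCompact_of_isNoetherian s'
  have he_s : (G.e ≫ f) ≫ s' = 𝟙 _ := by rw [Category.assoc, hs', G.e_s]
  have he_t : (G.e ≫ f) ≫ t' = 𝟙 _ := by rw [Category.assoc, ht', G.e_t]
  obtain ⟨i', hi'⟩ : ∃ i' : R' ⟶ R', f ≫ i' = G.i ≫ f :=
    ⟨EffectiveEpi.desc f (G.i ≫ f) fun g₁ g₂ hg => hext _ _
      (by simp only [Category.assoc, hs', G.i_s, ← ht']; simp only [← Category.assoc, hg])
      (by simp only [Category.assoc, ht', G.i_t, ← hs']; simp only [← Category.assoc, hg]), EffectiveEpi.fac _ _ _⟩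
  have hi_s : i' ≫ s' = t' := by rw [← cancel_epi f, reassoc_of% hi', hs', G.i_s, ht']
  have hi_t : i' ≫ t' = s' := by rw [← cancel_epi f, reassoc_of% hi', ht', G.i_t, hs']
  let π : pullback G.s G.t ⟶ pullback s' t' :=
    pullback.map _ _ _ _ f f (𝟙 G.U) (by rw [Category.comp_id, hs']) (by rw [Category.comp_id, ht'])
  haveI : Surjective π := MorphismProperty.pullbackMap (P := @Surjective) ‹_› ‹_› hs'.symm ht'.symm
  haveI : Flat π := MorphismProperty.pullbackMap (P := @Flat) ‹_› ‹_› hs'.symm ht'.symm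
  haveI : QuasiCompact π := MorphismProperty.pullbackMap (P := @QuasiCompact) ‹_› ‹_› hs'.symm ht'.symm
  have hπ₁ : π ≫ pullback.fst s' t' = pullback.fst G.s G.t ≫ f := pullback.lift_fst _ _ _
  have hπ₂ : π ≫ pullback.snd s' t' = pullback.snd G.s G.t ≫ f := pullback.lift_snd _ _ _
  have hcs : G.c ≫ f ≫ s' = π ≫ pullback.snd s' t' ≫ s' := by
    rw [reassoc_of% hπ₂, hs']
    have := L02.Grpd.mul_s G (pullback.fst G.s G.t) (pullback.snd G.s G.t) pullback.condition
    rwa [L02.Grpd.c_eq] at this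
  have hct : G.c ≫ f ≫ t' = π ≫ pullback.fst s' t' ≫ t' := by
    rw [reassoc_of% hπ₁, ht']
    have := L02.Grpd.mul_t G (pullback.fst G.s G.t) (pullback.snd G.s G.t) pullback.condition
    rwa [L02.Grpd.c_eq] at this
  obtain ⟨c', hc'⟩ : ∃ c' : pullback s' t' ⟶ R', π ≫ c' = G.c ≫ f :=
    ⟨EffectiveEpi.desc π (G.c ≫ f) fun g₁ g₂ hg => hext _ _
      (by simp only [Category.assoc, hcs]; simp only [← Category.assoc, hg])
      (by simp only [Category.assoc, hct]; simp only [← Category.assoc, hg]), EffectiveEpi.fac _ _ _⟩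
  have hc_s : c' ≫ s' = pullback.snd s' t' ≫ s' := by rw [← cancel_epi π, reassoc_of% hc', hcs]
  have hc_t : c' ≫ t' = pullback.fst s' t' ≫ t' := by rw [← cancel_epi π, reassoc_of% hc', hct]
  let G' := monoGrpd G.pU s' t' hover hext (G.e ≫ f) he_s he_t i' hi_s hi_t c' hc_s hc_t
  have hj' : G'.j = m := by
    apply pullback.hom_ext
    · exact pullback.lift_fst _ _ _
    · exact pullback.lift_snd _ _ _
  haveI : Etale (pullback.fst m m) := inferInstance
  refine ⟨R', f, s', t', hover, hext, G.e ≫ f, he_s, he_t, i', hi_s, hi_t, c', hc_s, hc_t,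
    hs', ht', ‹_›, ‹_›, ‹_›, ‹_›, ‹_›, ‹_›, ‹_›, ?_, ?_, ?_⟩
  · show Mono G'.j
    rw [hj']; exact hm
  · show LocallyQuasiFinite G'.j
    rw [hj']; exact Groth.L24.MonoFac.locallyQuasiFinite_of_etale_fst m
  · show LocallyOfFiniteType G'.j
    rw [hj']; exact hlm

end Groth.L24.GenQuot
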