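import Groth.Agent.L24.GenQuot.Quotient
import Groth.Agent.L24.GenQuot.Effective
import Groth.Agent.L24.GenQuot.Act
import Groth.Agent.S4089

/-!
# Generic quotients of groupoids with generically flat stabilisers
-/

set_option autoImplicit false
set_option linter.style.haveILetI false
set_option backward.isDefEq.respectTransparency.types false
universe u

open CategoryTheory CategoryTheory.Limits AlgebraicGeometry Groth.Agent.L24.Quot

namespace Groth.L24.GenQuot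

/-- The kernel pair of `j` is the stabiliser pulled back along `t`. -/
theorem exists_isPullback_kerPair {S : Scheme.{u}} (G : Grpd.GroupoidScheme S) :
    ∃ m : pullback G.j G.j ⟶ G.stabilizer, IsPullback m (pullback.snd G.j G.j) G.stabilizerToU G.t := by
  let α : pullback G.stabilizerToU G.t ⟶ pullback G.s G.t :=
    pullback.lift (pullback.fst _ _ ≫ pullback.fst G.j G.diag) (pullback.snd _ _) (by
      rw [Category.assoc, ← pullback.condition]
      exact congrArg (pullback.fst G.stabilizerToU G.t ≫ ·) (L02.Grpd.stabι_s G))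
  have hj₁ : G.j ≫ pullback.fst G.pU G.pU = G.t := pullback.lift_fst _ _ _
  have hj₂ : G.j ≫ pullback.snd G.pU G.pU = G.s := pullback.lift_snd _ _ _
  have hα₁ : α ≫ pullback.fst G.s G.t = pullback.fst _ _ ≫ pullback.fst G.j G.diag := pullback.lift_fst _ _ _
  have hα₂ : α ≫ pullback.snd G.s G.t = pullback.snd _ _ := pullback.lift_snd _ _ _
  let β : pullback G.stabilizerToU G.t ⟶ pullback G.j G.j := pullback.lift (α ≫ G.c) (pullback.snd _ _) (by
    have hcs := L02.Grpd.mul_s G (pullback.fst G.s G.t) (pullback.snd G.s G.t) pullback.condition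
    have hct := L02.Grpd.mul_t G (pullback.fst G.s G.t) (pullback.snd G.s G.t) pullback.condition
    rw [L02.Grpd.c_eq] at hcs hct
    apply pullback.hom_ext
    · rw [Category.assoc, Category.assoc, Category.assoc, hj₁, hct, reassoc_of% hα₁]
      exact (congrArg (pullback.fst G.stabilizerToU G.t ≫ ·) (L02.Grpd.stabι_t G)).trans pullback.condition
    · rw [Category.assoc, Category.assoc, Category.assoc, hj₂, hcs, reassoc_of% hα₂])
  haveI := L02.Grpd.isIso_torsor G α hα₁ hα₂ β (pullback.lift_fst _ _ _) (pullback.lift_snd _ _ _)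
  exact ⟨CategoryTheory.inv β ≫ pullback.fst G.stabilizerToU G.t,
    (IsPullback.of_hasPullback G.stabilizerToU G.t).of_iso (asIso β) (Iso.refl _) (Iso.refl _) (Iso.refl _)
      (by simp) (by simp only [Category.comp_id, asIso_hom, Iso.refl_hom]; exact (pullback.lift_snd _ _ _).symm) (by simp) (by simp)⟩

/-- The inversion on the kernel pair of `j`. -/
theorem exists_isPullback_kerPair_inv {S : Scheme.{u}} (G : Grpd.GroupoidScheme S) :
    ∃ κ : pullback G.j G.j ⟶ pullback G.j G.j,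
      IsPullback κ (pullback.snd G.j G.j) (pullback.snd G.j G.j) G.i := by
  have key : ∀ {T : Scheme.{u}} (x y : T ⟶ G.R), x ≫ G.j = y ≫ G.j → (x ≫ G.i) ≫ G.j = (y ≫ G.i) ≫ G.j := by
    intro T x y h
    have h1 := h =≫ pullback.fst G.pU G.pU
    have h2 := h =≫ pullback.snd G.pU G.pU
    simp only [Grpd.GroupoidScheme.j, Category.assoc, pullback.lift_fst, pullback.lift_snd] at h1 h2
    apply pullback.hom_ext
    · simp only [Grpd.GroupoidScheme.j, Category.assoc, pullback.lift_fst, G.i_t, h2]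
    · simp only [Grpd.GroupoidScheme.j, Category.assoc, pullback.lift_snd, G.i_s, h1]
  let κ : pullback G.j G.j ⟶ pullback G.j G.j :=
    pullback.lift (pullback.fst _ _ ≫ G.i) (pullback.snd _ _ ≫ G.i) (key _ _ pullback.condition)
  have hκκ : κ ≫ κ = 𝟙 _ := by
    apply pullback.hom_ext
    · simp only [κ, Category.assoc, pullback.lift_fst, pullback.lift_fst_assoc, L02.CMMor.i_i G,
        Category.comp_id, Category.id_comp]
    · simp only [κ, Category.assoc, pullback.lift_snd, pullback.lift_snd_assoc, L02.CMMor.i_i G,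
        Category.comp_id, Category.id_comp]
  haveI : IsIso κ := ⟨κ, hκκ, hκκ⟩
  haveI : IsIso G.i := ⟨G.i, L02.CMMor.i_i G, L02.CMMor.i_i G⟩
  exact ⟨κ, IsPullback.of_horiz_isIso ⟨pullback.lift_snd _ _ _⟩⟩

/-- Restriction of a cartesian square over an open. -/
theorem isPullback_restrict {K R St U : Scheme.{u}} {m : K ⟶ St} {k : K ⟶ R} {f : St ⟶ U} {b : R ⟶ U}
    (sq : IsPullback m k f b) (V : U.Opens) (O : R.Opens) (b' : O.toScheme ⟶ V.toScheme)
    (hb : b' ≫ V.ι = O.ι ≫ b) :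
    ∃ m' : (k ⁻¹ᵁ O).toScheme ⟶ (f ⁻¹ᵁ V).toScheme, IsPullback m' (k ∣_ O) (f ∣_ V) b' := by
  have sqk := isPullback_morphismRestrict k O
  have sqf := isPullback_morphismRestrict f V
  have big : IsPullback ((k ⁻¹ᵁ O).ι ≫ m) (k ∣_ O) f (b' ≫ V.ι) := by
    rw [hb]; exact sqk.flip.paste_horiz sq
  refine ⟨sqf.flip.lift ((k ⁻¹ᵁ O).ι ≫ m) ((k ∣_ O) ≫ b') (big.w.trans (Category.assoc _ _ _).symm), ?_⟩
  refine IsPullback.of_right ?_ (sqf.flip.lift_snd _ _ _) sqf.flip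
  rw [sqf.flip.lift_fst]
  exact big

/-- The kernel pair of `j` is flat over a dense invariant open if the stabiliser is flat over a dense open. -/
theorem exists_dense_flat_kerPair {S : Scheme.{u}} [IsNoetherian S] (G : Grpd.GroupoidScheme S)
    [Flat G.s] [LocallyOfFiniteType G.s] [QuasiCompact G.s] [LocallyOfFiniteType G.pU] [QuasiCompact G.pU]
    (V₀ : G.U.Opens) (hd : Dense (V₀ : Set G.U)) (hV₀ : Flat (G.stabilizerToU ∣_ V₀)) :
    ∃ (W : G.U.Opens), Dense (W : Set G.U) ∧ ∃ hW : G.s ⁻¹ᵁ W = G.t ⁻¹ᵁ W,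
      Flat (pullback.snd G.j G.j ∣_ (G.s ⁻¹ᵁ W)) := by
  haveI := isNoetherian_U G
  haveI : IsLocallyNoetherian G.R := LocallyOfFiniteType.isLocallyNoetherian G.s
  haveI : CompactSpace G.R := QuasiCompact.compactSpace_of_compactSpace G.s
  haveI : AlgebraicGeometry.IsNoetherian G.R := {}
  haveI : IsIso G.i := ⟨G.i, L02.CMMor.i_i G, L02.CMMor.i_i G⟩
  haveI : LocallyOfFinitePresentation G.s :=
    LocallyOfFinitePresentation.iff_locallyOfFiniteType.mpr inferInstance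
  haveI : Flat G.t := by rw [← G.i_s]; infer_instance
  haveI : LocallyOfFinitePresentation G.t := by rw [← G.i_s]; infer_instance
  obtain ⟨m, sqt⟩ := exists_isPullback_kerPair G
  obtain ⟨κ, sqi⟩ := exists_isPullback_kerPair_inv G
  have sqs : IsPullback (κ ≫ m) (pullback.snd G.j G.j) G.stabilizerToU G.s := by
    have := sqi.paste_horiz sqt
    rwa [G.i_t] at this
  let O : G.R.Opens := G.s ⁻¹ᵁ V₀
  obtain ⟨m₁, sq₁⟩ := isPullback_restrict sqs V₀ O (G.s ∣_ V₀) (morphismRestrict_ι _ _)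
  have hKO : Flat (pullback.snd G.j G.j ∣_ O) := MorphismProperty.of_isPullback (P := @Flat) sq₁ hV₀
  haveI : IsOpenImmersion O.ι := inferInstance
  let W : G.U.Opens := ⟨Set.range (O.ι ≫ G.t), (O.ι ≫ G.t).isOpenMap.isOpen_range⟩
  have hmem : ∀ y : G.U, y ∈ W ↔ ∃ r : G.R, G.s r ∈ V₀ ∧ G.t r = y := fun y => by
    constructor
    · rintro ⟨r, rfl⟩; exact ⟨O.ι r, r.2, rfl⟩
    · rintro ⟨r, hr, rfl⟩; exact ⟨⟨r, hr⟩, rfl⟩
  have hsat : G.s ⁻¹ᵁ W = G.t ⁻¹ᵁ W := by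
    refine preimage_eq_of_saturated G fun x y hxy hx => ?_
    obtain ⟨r, hr, hrx⟩ := (hmem x).1 hx
    obtain ⟨r', hr'₁, hr'₂⟩ := rel_trans G ⟨r, rfl, hrx⟩ hxy
    exact (hmem y).2 ⟨r', hr'₁.symm ▸ hr, hr'₂⟩
  have hV₀W : V₀ ≤ W := fun x hx => (hmem x).2 ⟨G.e x,
    by rw [← Scheme.Hom.comp_apply, G.e_s]; exact hx,
    by rw [← Scheme.Hom.comp_apply, G.e_t]; rfl⟩
  refine ⟨W, hd.mono hV₀W, hsat, ?_⟩
  let b : O.toScheme ⟶ W.toScheme := IsOpenImmersion.lift W.ι (O.ι ≫ G.t) (by rw [Scheme.Opens.range_ι]; rfl)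
  have hb : b ≫ W.ι = O.ι ≫ G.t := IsOpenImmersion.lift_fac _ _ _
  haveI : Flat (b ≫ W.ι) := by rw [hb]; infer_instance
  haveI : Flat b := by
    refine (Flat.iff_flat_stalkMap b).mpr fun x => ?_
    have h : ((b ≫ W.ι).stalkMap x).hom.Flat := Flat.stalkMap _ x
    rw [Scheme.Hom.stalkMap_comp] at h
    exact ((RingHom.Flat.respectsIso).cancel_left_isIso (W.ι.stalkMap (b x)) (b.stalkMap x)).1 h
  haveI : LocallyOfFiniteType (b ≫ W.ι) := by rw [hb]; infer_instance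
  haveI : IsLocallyNoetherian W.toScheme := isLocallyNoetherian_of_isOpenImmersion W.ι
  haveI : LocallyOfFinitePresentation b := LocallyOfFinitePresentation.iff_locallyOfFiniteType.mpr
    (locallyOfFiniteType_of_comp b W.ι)
  haveI : Surjective b := ⟨fun y => by
    obtain ⟨r, hr⟩ := y.2
    exact ⟨r, W.ι.isOpenEmbedding.injective (by rw [← Scheme.Hom.comp_apply, hb]; exact hr)⟩⟩
  obtain ⟨m₂, sq₂⟩ := isPullback_restrict sqt W O b hb
  have hW : Flat (G.stabilizerToU ∣_ W) := MorphismProperty.of_isPullback_of_descendsAlong (P := @Flat)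
    (Q := @Surjective ⊓ @Flat ⊓ @LocallyOfFinitePresentation) sq₂.flip ⟨⟨‹_›, ‹_›⟩, ‹_›⟩ hKO
  obtain ⟨m₃, sq₃⟩ := isPullback_restrict sqs W (G.s ⁻¹ᵁ W) (G.s ∣_ W) (morphismRestrict_ι _ _)
  exact MorphismProperty.of_isPullback (P := @Flat) sq₃ hW

/-- The kernel pair of `j` of the restriction. -/
theorem flat_kerPair_restrict {S : Scheme.{u}} (G : Grpd.GroupoidScheme S) (W : G.U.Opens)
    (hW : G.s ⁻¹ᵁ W = G.t ⁻¹ᵁ W) (h : Flat (pullback.snd G.j G.j ∣_ (G.s ⁻¹ᵁ W))) :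
    Flat (pullback.fst (Groth.Agent.L24.Quot.restrict G W hW).j (Groth.Agent.L24.Quot.restrict G W hW).j) := by
  let O := G.s ⁻¹ᵁ W
  let H := Groth.Agent.L24.Quot.restrict G W hW
  have hover : tW G W hW ≫ W.ι ≫ G.pU = sW G W ≫ W.ι ≫ G.pU := by
    rw [tW_ι_assoc, sW_ι_assoc, G.t_over, G.s_over]
  let jH : O.toScheme ⟶ pullback (W.ι ≫ G.pU) (W.ι ≫ G.pU) := pullback.lift (tW G W hW) (sW G W) hover
  let w : pullback (W.ι ≫ G.pU) (W.ι ≫ G.pU) ⟶ pullback G.pU G.pU :=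
    pullback.map _ _ _ _ W.ι W.ι (𝟙 S) (Category.comp_id _) (Category.comp_id _)
  have hw : jH ≫ w = O.ι ≫ G.j := by
    apply pullback.hom_ext
    · simp only [jH, w, pullback.map, Grpd.GroupoidScheme.j, Category.assoc, pullback.lift_fst,
        pullback.lift_fst_assoc, tW_ι, O]
    · simp only [jH, w, pullback.map, Grpd.GroupoidScheme.j, Category.assoc, pullback.lift_snd,
        pullback.lift_snd_assoc, sW_ι, O]
  haveI : Mono W.ι := inferInstance
  let mp : pullback jH jH ⟶ pullback G.j G.j := pullback.map _ _ _ _ O.ι O.ι w hw hw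
  haveI : IsOpenImmersion mp := by
    haveI : Mono w := by
      haveI : IsOpenImmersion w := inferInstanceAs (IsOpenImmersion (pullback.map _ _ _ _ _ _ _ _ _))
      infer_instance
    exact inferInstanceAs (IsOpenImmersion (pullback.map _ _ _ _ _ _ _ _ _))
  have hmp : mp ≫ pullback.snd G.j G.j = pullback.snd jH jH ≫ O.ι := pullback.lift_snd _ _ _
  have hr : Set.range mp ⊆ Set.range (pullback.snd G.j G.j ⁻¹ᵁ O).ι := by
    rintro _ ⟨x, rfl⟩
    rw [Scheme.Opens.range_ι]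
    show pullback.snd G.j G.j (mp x) ∈ O
    rw [← Scheme.Hom.comp_apply, hmp, Scheme.Hom.comp_apply]
    exact (pullback.snd jH jH x).2
  let l := IsOpenImmersion.lift (pullback.snd G.j G.j ⁻¹ᵁ O).ι mp hr
  haveI : IsOpenImmersion l := by
    haveI : IsOpenImmersion (l ≫ (pullback.snd G.j G.j ⁻¹ᵁ O).ι) := by
      rw [IsOpenImmersion.lift_fac]; infer_instance
    exact IsOpenImmersion.of_comp l (pullback.snd G.j G.j ⁻¹ᵁ O).ι
  haveI := h
  have hfl : Flat (pullback.snd jH jH) := by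
    rw [show pullback.snd jH jH = l ≫ (pullback.snd G.j G.j ∣_ O) by
      rw [← cancel_mono O.ι, Category.assoc, morphismRestrict_ι, IsOpenImmersion.lift_fac_assoc, hmp]]
    infer_instance
  show Flat (pullback.fst jH jH)
  rw [← pullbackSymmetry_hom_comp_snd]
  infer_instance

/-- A groupoid with stabiliser flat over a dense open has a flat quotient over a dense invariant open. -/
theorem exists_dense_quotient_of_flat {S : Scheme.{u}} [IsNoetherian S] (G : Grpd.GroupoidScheme S)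
    [Flat G.s] [LocallyOfFiniteType G.s] [QuasiCompact G.s] [LocallyOfFiniteType G.pU] [QuasiCompact G.pU]
    (V₀ : G.U.Opens) (hd : Dense (V₀ : Set G.U)) (hV₀ : Flat (G.stabilizerToU ∣_ V₀)) :
    ∃ (U : G.U.Opens) (hU : G.t ⁻¹ᵁ U = G.s ⁻¹ᵁ U), Dense (U : Set G.U) ∧
      ∃ (V : Scheme.{u}) (p : (U : Scheme.{u}) ⟶ V)
        (w : G.t.resLE U (G.s ⁻¹ᵁ U) hU.ge ≫ p = (G.s ∣_ U) ≫ p) (q : V ⟶ S),
        Nonempty (IsColimit (Cofork.ofπ p w)) ∧ p ≫ q = U.ι ≫ G.pU ∧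
        Surjective p ∧ Flat p ∧ LocallyOfFinitePresentation p ∧ LocallyOfFiniteType q ∧ QuasiCompact q := by
  haveI := isNoetherian_U G
  obtain ⟨W, hWd, hW, hK⟩ := exists_dense_flat_kerPair G V₀ hd hV₀
  let H := Groth.Agent.L24.Quot.restrict G W hW
  haveI : IsLocallyNoetherian W.toScheme := isLocallyNoetherian_of_isOpenImmersion W.ι
  haveI : Flat H.s := restrict_s_prop G W hW @Flat ‹_›
  haveI : LocallyOfFiniteType H.s := restrict_s_prop G W hW @LocallyOfFiniteType ‹_›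
  haveI : QuasiCompact H.s := restrict_s_prop G W hW @QuasiCompact ‹_›
  haveI : LocallyOfFiniteType H.pU := inferInstanceAs (LocallyOfFiniteType (W.ι ≫ G.pU))
  haveI : QuasiCompact H.pU := by
    haveI : CompactSpace (W : Scheme.{u}) :=
      isCompact_iff_compactSpace.1 (TopologicalSpace.NoetherianSpace.isCompact (W : Set G.U))
    haveI : AlgebraicGeometry.IsNoetherian (W : Scheme.{u}) := {}
    exact quasiCompact_of_isNoetherian (W.ι ≫ G.pU)
  obtain ⟨R', f, s', t', hover, hext, e, he_s, he_t, i, hi_s, hi_t, c, hc_s, hc_t, hfs, hft, hfsurj, hff, hfp,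
    hfq, hs'f, hs'l, hs'q, hmono, hlqf, hlft⟩ :=
    exists_image_groupoid H (flat_kerPair_restrict G W hW hK)
  change R' ⟶ W.toScheme at s' t'
  let G' := monoGrpd H.pU s' t' hover hext e he_s he_t i hi_s hi_t c hc_s hc_t
  haveI : Flat G'.s := hs'f
  haveI : LocallyOfFiniteType G'.s := hs'l
  haveI : QuasiCompact G'.s := hs'q
  haveI : LocallyOfFiniteType G'.pU := inferInstanceAs (LocallyOfFiniteType H.pU)
  haveI : QuasiCompact G'.pU := inferInstanceAs (QuasiCompact H.pU)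
  haveI : LocallyQuasiFinite G'.j := hlqf
  haveI : LocallyOfFiniteType G'.j := hlft
  obtain ⟨W₁, hW₁, hW₁d, V, p, w, q, hcol, hpq, hps, hpo, hpf, hqf, hqc, hqs, hsurj, hm⟩ :=
    Groth.Agent.S4089.result S G'
  obtain ⟨-, hpflat⟩ := hm hmono
  change W.toScheme.Opens at W₁
  change (W₁ : Scheme.{u}) ⟶ V at p
  change t' ⁻¹ᵁ W₁ = s' ⁻¹ᵁ W₁ at hW₁
  change t'.resLE W₁ (s' ⁻¹ᵁ W₁) hW₁.ge ≫ p = (s' ∣_ W₁) ≫ p at w
  change p ≫ q = W₁.ι ≫ W.ι ≫ G.pU at hpq
  let f₀ : (G.s ⁻¹ᵁ W).toScheme ⟶ R' := f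
  have hfs₀ : f₀ ≫ s' = sW G W := hfs
  have hft₀ : f₀ ≫ t' = tW G W hW := hft
  let U : G.U.Opens := W.ι ''ᵁ W₁
  have hUmem : ∀ x : W.toScheme, W.ι x ∈ U ↔ x ∈ W₁ := fun x => by
    constructor
    · rintro ⟨y, hy, hyx⟩
      exact (W.ι.isOpenEmbedding.injective hyx) ▸ hy
    · exact fun hx => ⟨x, hx, rfl⟩
  have hUW : U ≤ W := fun x ⟨y, _, hy⟩ => hy ▸ y.2
  have hts : ∀ (r : (G.s ⁻¹ᵁ W).toScheme), G.t r.1 ∈ U ↔ G.s r.1 ∈ U := by
    intro r
    have h1 : G.t r.1 = W.ι (tW G W hW r) :=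
      (congrArg (fun m : (G.s ⁻¹ᵁ W).toScheme ⟶ G.U => m r) (tW_ι G W hW)).symm
    have h2 : G.s r.1 = W.ι (sW G W r) :=
      (congrArg (fun m : (G.s ⁻¹ᵁ W).toScheme ⟶ G.U => m r) (sW_ι G W)).symm
    rw [h1, h2, hUmem, hUmem, ← hfs₀, ← hft₀, Scheme.Hom.comp_apply, Scheme.Hom.comp_apply]
    exact SetLike.ext_iff.1 hW₁ (f₀ r)
  have hU : G.t ⁻¹ᵁ U = G.s ⁻¹ᵁ U := by
    ext r
    constructor
    · intro hr
      exact (hts ⟨r, show r ∈ G.s ⁻¹ᵁ W from hW ▸ (hUW hr : G.t r ∈ W)⟩).1 hr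
    · intro hr
      exact (hts ⟨r, hUW hr⟩).2 hr
  have hUd : Dense (U : Set G.U) := by
    have hdr : DenseRange W.ι := by
      show Dense (Set.range W.ι)
      rwa [Scheme.Opens.range_ι]
    exact hdr.dense_image W.ι.continuous hW₁d
  let O : R'.Opens := s' ⁻¹ᵁ W₁
  have hθr : Set.range ((G.R.homOfLE (show G.s ⁻¹ᵁ U ≤ G.s ⁻¹ᵁ W from fun r hr => hUW hr)))
      ⊆ Set.range (f₀ ⁻¹ᵁ O).ι := by
    rintro _ ⟨r, rfl⟩
    rw [Scheme.Opens.range_ι]
    set r' := G.R.homOfLE (show G.s ⁻¹ᵁ U ≤ G.s ⁻¹ᵁ W from fun r hr => hUW hr) r with hr'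
    show s' (f₀ r') ∈ W₁
    rw [← Scheme.Hom.comp_apply, hfs₀, ← hUmem, ← Scheme.Hom.comp_apply, sW_ι, Scheme.Hom.comp_apply, hr',
      ← Scheme.Hom.comp_apply _ (G.s ⁻¹ᵁ W).ι, Scheme.homOfLE_ι]
    exact r.2
  let θ := IsOpenImmersion.lift (f₀ ⁻¹ᵁ O).ι _ hθr
  haveI : IsOpenImmersion θ := by
    haveI : IsOpenImmersion (θ ≫ (f₀ ⁻¹ᵁ O).ι) := by rw [IsOpenImmersion.lift_fac]; infer_instance
    exact IsOpenImmersion.of_comp θ (f₀ ⁻¹ᵁ O).ι
  haveI : Surjective θ := ⟨fun x => by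
    have hx : s' (f₀ x.1) ∈ W₁ := x.2
    rw [← Scheme.Hom.comp_apply, hfs₀, ← hUmem, ← Scheme.Hom.comp_apply, sW_ι, Scheme.Hom.comp_apply] at hx
    refine ⟨⟨x.1.1, hx⟩, (f₀ ⁻¹ᵁ O).ι.isOpenEmbedding.injective ?_⟩
    rw [← Scheme.Hom.comp_apply, IsOpenImmersion.lift_fac]
    apply (G.s ⁻¹ᵁ W).ι.isOpenEmbedding.injective
    rw [← Scheme.Hom.comp_apply, Scheme.homOfLE_ι]
    rfl⟩
  haveI : IsIso θ := (isIso_iff_isOpenImmersion_and_surjective θ).2 ⟨inferInstance, inferInstance⟩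
  haveI : Surjective f₀ := hfsurj
  haveI : Flat f₀ := hff
  haveI : QuasiCompact f₀ := hfq
  haveI : Flat (f₀ ∣_ O) := IsZariskiLocalAtTarget.restrict (P := @Flat) ‹_› O
  haveI : Surjective (f₀ ∣_ O) := IsZariskiLocalAtTarget.restrict (P := @Surjective) ‹_› O
  haveI : QuasiCompact (f₀ ∣_ O) := IsZariskiLocalAtTarget.restrict (P := @QuasiCompact) ‹_› O
  let k : (G.s ⁻¹ᵁ U).toScheme ⟶ O.toScheme := θ ≫ (f₀ ∣_ O)
  haveI : Epi k := epi_comp _ _
  let φ : (W₁ : Scheme.{u}) ≅ (U : Scheme.{u}) := W.ι.isoImage W₁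
  have hks : k ≫ (s' ∣_ W₁) = (G.s ∣_ U) ≫ φ.inv := by
    rw [← cancel_mono (W₁.ι ≫ W.ι)]
    simp only [k, θ, φ, O, Category.assoc, morphismRestrict_ι_assoc, Scheme.Hom.isoImage_inv_ι, morphismRestrict_ι,
      IsOpenImmersion.lift_fac_assoc]
    rw [reassoc_of% hfs₀, sW_ι, Scheme.homOfLE_ι_assoc]
    exact (morphismRestrict_ι G.s U).symm
  have hkt : k ≫ t'.resLE W₁ (s' ⁻¹ᵁ W₁) hW₁.ge = G.t.resLE U (G.s ⁻¹ᵁ U) hU.ge ≫ φ.inv := by
    rw [← cancel_mono (W₁.ι ≫ W.ι)]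
    simp only [k, θ, φ, O, Category.assoc, morphismRestrict_ι_assoc, Scheme.Hom.isoImage_inv_ι,
      Scheme.Hom.resLE_comp_ι_assoc, Scheme.Hom.resLE_comp_ι, IsOpenImmersion.lift_fac_assoc]
    rw [reassoc_of% hft₀, tW_ι, Scheme.homOfLE_ι_assoc]
    exact (Scheme.Hom.resLE_comp_ι _ _).symm
  have w' : G.t.resLE U (G.s ⁻¹ᵁ U) hU.ge ≫ φ.inv ≫ p = (G.s ∣_ U) ≫ φ.inv ≫ p := by
    rw [← reassoc_of% hks, ← reassoc_of% hkt, w]
  obtain ⟨hc⟩ := hcol
  haveI : Flat p := hpflat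
  haveI : LocallyOfFinitePresentation p := hpf
  haveI : Surjective p := hps
  haveI : LocallyOfFinitePresentation q := hqf
  refine ⟨U, hU, hUd, V, φ.inv ≫ p, w', q, ⟨Cofork.IsColimit.mk' _ fun cc => ?_⟩, ?_, inferInstance, inferInstance,
    inferInstance, inferInstance, hqc⟩
  · have hcc : G.t.resLE U (G.s ⁻¹ᵁ U) hU.ge ≫ cc.π = (G.s ∣_ U) ≫ cc.π := cc.condition
    obtain ⟨d, hd⟩ := Cofork.IsColimit.desc' hc (φ.hom ≫ cc.π) (by
      show t'.resLE W₁ (s' ⁻¹ᵁ W₁) hW₁.ge ≫ φ.hom ≫ cc.π = (s' ∣_ W₁) ≫ φ.hom ≫ cc.π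
      rw [← cancel_epi k, reassoc_of% hkt, reassoc_of% hks, Iso.inv_hom_id_assoc, hcc])
    change p ≫ d = φ.hom ≫ cc.π at hd
    refine ⟨d, ?_, fun {m} hm => ?_⟩
    · show (φ.inv ≫ p) ≫ d = cc.π
      rw [Category.assoc, hd, Iso.inv_hom_id_assoc]
    · change (φ.inv ≫ p) ≫ m = cc.π at hm
      refine Cofork.IsColimit.hom_ext hc ?_
      show p ≫ m = p ≫ d
      rw [hd, ← hm, Category.assoc, Iso.hom_inv_id_assoc]
  · rw [Category.assoc, hpq]
    exact (Scheme.Hom.isoImage_inv_ι_assoc W.ι W₁ G.pU)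

end Groth.L24.GenQuot
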