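import Groth.Agent.L24.GenQuot.QS
import Groth.Agent.L24.Quot.QuasiSection
import Groth.Agent.L24.Quot.Restrict

/-!
# A quasi-section of the restricted groupoid
-/

set_option autoImplicit false
set_option linter.style.haveILetI false
set_option backward.isDefEq.respectTransparency.types false
universe u

open CategoryTheory CategoryTheory.Limits AlgebraicGeometry

namespace Groth.L24.GenQuot

variable {S : Scheme.{u}} (G : Grpd.GroupoidScheme S)

/-- A quasi-section over a saturated open gives one of the restricted groupoid. -/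
theorem exists_restrict_qs (W : G.U.Opens) (hW : G.t ⁻¹ᵁ W = G.s ⁻¹ᵁ W) (hqs : HasQS G W) :
    ∃ (U' : Scheme.{u}) (u' : U' ⟶ (Groth.Agent.L24.Quot.restrict G W hW.symm).U), IsImmersion u' ∧
      IsImmersion (u' ≫ W.ι) ∧
      Mor2.IsFinLocFree (Groth.Agent.L24.Quot.secσ (Groth.Agent.L24.Quot.restrict G W hW.symm) u') ∧
      Surjective (Groth.Agent.L24.Quot.secσ (Groth.Agent.L24.Quot.restrict G W hW.symm) u') ∧
      ∀ E : Set U', (∀ x ∈ E, ∀ y ∈ E, ∃ r : (Groth.Agent.L24.Quot.restrict G W hW.symm).R,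
          (Groth.Agent.L24.Quot.restrict G W hW.symm).t r = u' x ∧
            (Groth.Agent.L24.Quot.restrict G W hW.symm).s r = u' y) →
        ∃ V : U'.Opens, IsAffineOpen V ∧ E ⊆ (V : Set U') := by
  obtain ⟨-, U', u, hu₀, haff, hu, hσ, hrσ⟩ := hqs
  haveI := hu₀
  let H := Groth.Agent.L24.Quot.restrict G W hW.symm
  let u' : U' ⟶ (W : Scheme.{u}) := IsOpenImmersion.lift W.ι u (by rw [Scheme.Opens.range_ι]; exact hu)
  have hu' : u' ≫ W.ι = u := IsOpenImmersion.lift_fac _ _ _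
  haveI : IsImmersion u' := by
    haveI : IsImmersion (u' ≫ W.ι) := hu'.symm ▸ inferInstance
    exact IsImmersion.of_comp u' W.ι
  let tW := Groth.Agent.L24.Quot.tW G W hW.symm
  let sW := Groth.Agent.L24.Quot.sW G W
  let m₀ : pullback tW u' ⟶ pullback G.t u :=
    pullback.map _ _ _ _ (G.s ⁻¹ᵁ W).ι (𝟙 U') W.ι (Groth.Agent.L24.Quot.tW_ι G W hW.symm)
      (hu'.trans (Category.id_comp u).symm)
  haveI : IsOpenImmersion m₀ := by
    haveI : Mono W.ι := inferInstance
    exact inferInstance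
  let m := m₀ ≫ (pullbackSymmetry G.t u).hom
  let σ' := pullback.fst tW u' ≫ sW
  have hm : m ≫ slc G u = σ' ≫ W.ι := by
    simp only [m, σ', slc, sW, m₀, pullback.map, Category.assoc, pullbackSymmetry_hom_comp_snd_assoc,
      pullback.lift_fst_assoc, Groth.Agent.L24.Quot.sW_ι]
  have hrange : ∀ w, slc G u w ∈ W → w ∈ Set.range m := by
    intro w hw
    obtain ⟨w, rfl⟩ := (pullbackSymmetry G.t u).hom.surjective w
    obtain ⟨x, hx⟩ : w ∈ Set.range m₀ := by
      rw [Scheme.Pullback.range_map]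
      refine ⟨?_, ⟨_, rfl⟩⟩
      rw [Scheme.Opens.range_ι]
      show G.s (pullback.fst G.t u w) ∈ W
      rwa [← Scheme.Hom.comp_apply, ← pullbackSymmetry_hom_comp_snd, Category.assoc, Scheme.Hom.comp_apply]
    exact ⟨x, by rw [Scheme.Hom.comp_apply, hx]⟩
  have hflf : flfMor σ' := by
    have h1 := (restrict_iff m (slc G u) hm W hrange).2 hσ
    rw [morphismRestrict_comp] at h1
    haveI : IsIso (W.ι ∣_ W) := by
      refine (isIso_iff_isOpenImmersion_and_surjective _).mpr ⟨inferInstance, ⟨fun x => ?_⟩⟩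
      exact ⟨⟨x, x.2⟩, Subtype.ext (morphismRestrict_base_coe _ _ _)⟩
    have h2 := (MorphismProperty.cancel_right_of_respectsIso flfMor (σ' ∣_ W.ι ⁻¹ᵁ W) (W.ι ∣_ W)).1 h1
    exact (IsZariskiLocalAtTarget.iff_of_iSup_eq_top (P := flfMor.{u}) (fun _ : Unit => W.ι ⁻¹ᵁ W)
      (eq_top_iff.2 fun x _ => TopologicalSpace.Opens.mem_iSup.2 ⟨(), x.2⟩)).2 fun _ => h2
  have hσ' : Mor2.IsFinLocFree (Groth.Agent.L24.Quot.secσ H u') := (isFinLocFree_iff _).2 hflf
  haveI hσs : Surjective (Groth.Agent.L24.Quot.secσ H u') := ⟨fun x => by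
    obtain ⟨w, hw⟩ := hrσ.ge (show W.ι x ∈ (W : Set G.U) from x.2)
    obtain ⟨x', rfl⟩ := hrange w (show slc G u w ∈ W from hw ▸ x.2)
    refine ⟨x', W.ι.isOpenEmbedding.injective ?_⟩
    rw [← Scheme.Hom.comp_apply, hm, Scheme.Hom.comp_apply] at hw
    exact hw⟩
  have hσ'' := hσ'
  obtain ⟨_, _, _⟩ := hσ''
  have h2 : ∀ E : Set U', (∀ x ∈ E, ∀ y ∈ E, ∃ r : H.R, H.t r = u' x ∧ H.s r = u' y) →
      ∃ V : U'.Opens, IsAffineOpen V ∧ E ⊆ (V : Set U') := by
    intro E hE
    refine haff E ?_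
    rcases E.eq_empty_or_nonempty with rfl | ⟨x, hx⟩
    · exact Set.finite_empty
    refine ((Scheme.Hom.finite_preimage_singleton (Groth.Agent.L24.Quot.secσ H u') (u' x)).image
      (pullback.snd H.t u')).subset fun y hy => ?_
    obtain ⟨r, hr1, hr2⟩ := hE y hy x hx
    obtain ⟨w, hw1, hw2⟩ := Scheme.Pullback.exists_preimage_pullback (f := H.t) (g := u') r y hr1
    exact ⟨w, by show H.s (pullback.fst H.t u' w) = u' x; rw [hw1, hr2], hw2⟩
  refine ⟨U', u', ‹_›, ?_, hσ', hσs, h2⟩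
  exact hu'.symm ▸ hu₀

end Groth.L24.GenQuot
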