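import Groth.Agent.L24.Quot.QuasiSection
import Groth.Agent.L24.GenQuot.QSRestrict

/-!
# Quotients stable under restriction to opens of the quotient
-/

set_option autoImplicit false
set_option linter.style.haveILetI false
set_option backward.isDefEq.respectTransparency.types false
universe u

open CategoryTheory CategoryTheory.Limits AlgebraicGeometry Groth.Agent.L24.Quot

namespace Groth.L24.GenQuot

variable {S : Scheme.{u}}

/-- Descent along a map `p`, stably under open immersions into its target. -/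
def OpenDesc (G : Grpd.GroupoidScheme S) {W Y : Scheme.{u}} (j : W ⟶ G.U) (p : W ⟶ Y) : Prop :=
  ∀ {Wv V : Scheme.{u}} (k : Wv ⟶ W) (pv : Wv ⟶ V) (o : V ⟶ Y), IsPullback k pv p o → IsOpenImmersion o →
    ∀ {Z : Scheme.{u}} (g : Wv ⟶ Z), Inv G (k ≫ j) g → ∃! h : V ⟶ Z, pv ≫ h = g

theorem exists_mem_local {G : Grpd.GroupoidScheme S} [IsFinite G.s] [Flat G.s]
    [LocallyOfFinitePresentation G.s] {Y : Scheme.{u}} {q : G.U ⟶ Y}
    (hloc : ∀ y : Y, ∃ (W : InvAff G) (ι : quotObj W ⟶ Y), IsOpenImmersion ι ∧ y ∈ Set.range ι ∧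
        IsPullback (quotMap W) W.1.ι ι q)
    {Wv V : Scheme.{u}} {k : Wv ⟶ G.U} {pv : Wv ⟶ V} {o : V ⟶ Y} (sq : IsPullback k pv q o)
    [IsOpenImmersion o] {Z : Scheme.{u}} (g : Wv ⟶ Z) (hg : Inv G k g) (v : V) :
    ∃ (O : V.Opens) (h : O.toScheme ⟶ Z), v ∈ O ∧ pullback.snd pv O.ι ≫ h = pullback.fst pv O.ι ≫ g ∧
      ∀ h' : V ⟶ Z, pv ≫ h' = g → O.ι ≫ h' = h := by
  obtain ⟨W, ι, hι, hmem, hW⟩ := hloc (o v)
  haveI := hι
  let O : V.Opens := o ⁻¹ᵁ ι.opensRange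
  have hr : Set.range (O.ι ≫ o) ⊆ Set.range ι := by
    rintro _ ⟨x, rfl⟩
    exact x.2
  let e : O.toScheme ⟶ quotObj W := IsOpenImmersion.lift ι (O.ι ≫ o) hr
  have he : e ≫ ι = O.ι ≫ o := IsOpenImmersion.lift_fac _ _ _
  haveI : IsOpenImmersion e := by
    haveI : IsOpenImmersion (e ≫ ι) := he.symm ▸ inferInstance
    exact IsOpenImmersion.of_comp e ι
  let VW : (quotObj W).Opens := e.opensRange
  let φ : VW.toScheme ⟶ O.toScheme := e.isoOpensRange.inv
  have hφ : φ ≫ e = VW.ι := e.isoOpensRange_inv_comp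
  have hm : ((quotMap W ⁻¹ᵁ VW).ι ≫ W.1.ι) ≫ q = ((quotMap W ∣_ VW) ≫ φ ≫ O.ι) ≫ o := by
    simp only [Category.assoc, ← he, reassoc_of% hφ, morphismRestrict_ι_assoc, hW.w]
  let m : (quotMap W ⁻¹ᵁ VW).toScheme ⟶ Wv := sq.lift _ _ hm
  have hmk : m ≫ k = (quotMap W ⁻¹ᵁ VW).ι ≫ W.1.ι := sq.lift_fst _ _ _
  have hmp : m ≫ pv = (quotMap W ∣_ VW) ≫ φ ≫ O.ι := sq.lift_snd _ _ _
  have hinv : Inv G ((quotMap W ⁻¹ᵁ VW).ι ≫ W.1.ι) (m ≫ g) := by
    rw [← hmk]; exact hg.precomp G m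
  obtain ⟨hW', hh, huniq⟩ := (isQuot_quotMap W).desc VW (m ≫ g) hinv
  refine ⟨O, e.isoOpensRange.hom ≫ hW', hmem, ?_, fun h' hh' => ?_⟩
  · have hl : (pullback.snd pv O.ι ≫ e) ≫ ι = (pullback.fst pv O.ι ≫ k) ≫ q := by
      simp only [Category.assoc, he, sq.w, pullback.condition_assoc]
    let n₀ : pullback pv O.ι ⟶ W.1.toScheme := hW.lift _ _ hl
    have hn₀ : n₀ ≫ quotMap W = pullback.snd pv O.ι ≫ e := hW.lift_fst _ _ _
    have hn₀' : n₀ ≫ W.1.ι = pullback.fst pv O.ι ≫ k := hW.lift_snd _ _ _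
    have hnr : Set.range n₀ ⊆ Set.range (quotMap W ⁻¹ᵁ VW).ι := by
      rintro _ ⟨x, rfl⟩
      rw [Scheme.Opens.range_ι]
      show quotMap W (n₀ x) ∈ VW
      rw [← Scheme.Hom.comp_apply, hn₀, Scheme.Hom.comp_apply]
      exact ⟨_, rfl⟩
    let n := IsOpenImmersion.lift (quotMap W ⁻¹ᵁ VW).ι n₀ hnr
    have hn : n ≫ (quotMap W ∣_ VW) = pullback.snd pv O.ι ≫ e.isoOpensRange.hom := by
      rw [← cancel_mono VW.ι, Category.assoc, Category.assoc, morphismRestrict_ι, IsOpenImmersion.lift_fac_assoc,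
        hn₀, Scheme.Hom.isoOpensRange_hom_ι]
    have hnm : n ≫ m = pullback.fst pv O.ι := by
      apply sq.hom_ext
      · rw [Category.assoc, hmk, IsOpenImmersion.lift_fac_assoc, hn₀']
      · rw [Category.assoc, hmp, reassoc_of% hn]
        simp only [φ, Iso.hom_inv_id_assoc, pullback.condition]
    rw [← reassoc_of% hn, hh, reassoc_of% hnm]
  · have h2 := huniq (φ ≫ O.ι ≫ h') (by
      show (quotMap W ∣_ VW) ≫ φ ≫ O.ι ≫ h' = m ≫ g
      rw [← reassoc_of% hmp, hh'])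
    rw [← h2]
    simp only [φ, Iso.hom_inv_id_assoc]

theorem openDesc_of_local {G : Grpd.GroupoidScheme S} [IsFinite G.s] [Flat G.s]
    [LocallyOfFinitePresentation G.s] {Y : Scheme.{u}} {q : G.U ⟶ Y}
    (hloc : ∀ y : Y, ∃ (W : InvAff G) (ι : quotObj W ⟶ Y), IsOpenImmersion ι ∧ y ∈ Set.range ι ∧
        IsPullback (quotMap W) W.1.ι ι q) : OpenDesc G (𝟙 G.U) q := by
  intro Wv V k pv o sq ho Z g hg
  haveI := ho
  rw [Category.comp_id] at hg
  have huni : ∀ {V' : Scheme.{u}} (o' : V' ⟶ V) [IsOpenImmersion o'] (h₁ h₂ : V' ⟶ Z),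
      pullback.snd pv o' ≫ h₁ = pullback.fst pv o' ≫ g → pullback.snd pv o' ≫ h₂ = pullback.fst pv o' ≫ g →
        h₁ = h₂ := by
    intro V' o' _ h₁ h₂ e₁ e₂
    refine Scheme.hom_ext_of_forall _ _ fun v => ?_
    have sq' : IsPullback (pullback.fst pv o' ≫ k) (pullback.snd pv o') q (o' ≫ o) :=
      ((IsPullback.of_hasPullback pv o').flip.paste_vert sq.flip).flip
    obtain ⟨O, h, hv, -, hu⟩ := exists_mem_local hloc sq' _ (hg.precomp G (pullback.fst pv o')) v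
    exact ⟨O, hv, (hu h₁ e₁).trans (hu h₂ e₂).symm⟩
  choose O h hv he hu using exists_mem_local hloc sq g hg
  have hres : ∀ (v : V) (O' : V.Opens) (hle : O' ≤ O v),
      pullback.snd pv O'.ι ≫ V.homOfLE hle ≫ h v = pullback.fst pv O'.ι ≫ g := by
    intro v O' hle
    let l : pullback pv O'.ι ⟶ pullback pv (O v).ι :=
      pullback.lift (pullback.fst _ _) (pullback.snd _ _ ≫ V.homOfLE hle)
        (by rw [Category.assoc, Scheme.homOfLE_ι, pullback.condition])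
    have h1 : l ≫ pullback.snd pv (O v).ι = pullback.snd pv O'.ι ≫ V.homOfLE hle := pullback.lift_snd _ _ _
    have h2 : l ≫ pullback.fst pv (O v).ι = pullback.fst pv O'.ι := pullback.lift_fst _ _ _
    rw [← reassoc_of% h1, he, reassoc_of% h2]
  obtain ⟨H, hH⟩ := exists_glue O (fun v => ⟨v, hv v⟩) h fun i j =>
    huni _ _ _ (hres i _ inf_le_left) (hres j _ inf_le_right)
  refine ⟨H, ?_, fun H' hH' => Scheme.hom_ext_of_forall _ _ fun v => ⟨O v, hv v, ?_⟩⟩
  · refine Scheme.hom_ext_of_forall _ _ fun x => ⟨pv ⁻¹ᵁ O (pv x), hv (pv x), ?_⟩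
    let l : (pv ⁻¹ᵁ O (pv x)).toScheme ⟶ pullback pv (O (pv x)).ι :=
      pullback.lift (pv ⁻¹ᵁ O (pv x)).ι (pv ∣_ O (pv x)) (morphismRestrict_ι _ _).symm
    have hl : l ≫ pullback.fst pv (O (pv x)).ι = (pv ⁻¹ᵁ O (pv x)).ι := pullback.lift_fst _ _ _
    rw [← reassoc_of% hl, pullback.condition_assoc, hH, he, reassoc_of% hl]
  · rw [hH]; exact hu v H' hH'

/-- A quotient by a quasi-section descends on opens. -/
theorem exists_quasiSection_openDesc (G : Grpd.GroupoidScheme S) {U' : Scheme.{u}} (u : U' ⟶ G.U) [Mono u]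
    (hσf : Mor2.IsFinLocFree (secσ G u)) (hσs : Surjective (secσ G u))
    (h2 : ∀ E : Set U', (∀ x ∈ E, ∀ y ∈ E, ∃ r : G.R, G.t r = u x ∧ G.s r = u y) →
      ∃ W : U'.Opens, IsAffineOpen W ∧ E ⊆ (W : Set U')) :
    ∃ (Y : Scheme.{u}) (p : G.U ⟶ Y) (w : G.t ≫ p = G.s ≫ p),
      Nonempty (IsColimit (Cofork.ofπ p w)) ∧ IsIntegralHom (u ≫ p) ∧ Surjective p ∧
      (IsOpenMap G.t.base → IsOpenMap p.base) ∧ (UniversallyClosed G.t → UniversallyClosed p) ∧
      Function.Surjective (pullback.lift G.t G.s w).base ∧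
      (Mono G.j → IsPullback G.t G.s p p ∧ (Flat G.t → Flat p)) ∧ OpenDesc G (𝟙 G.U) p := by
  obtain ⟨Y, p, w, ⟨hcol⟩, hint, hps, hpo, hpc, hpl, hpm⟩ := exists_quotient_of_quasiSection' G u hσf hσs h2
  refine ⟨Y, p, w, ⟨hcol⟩, hint, hps, hpo, hpc, hpl, hpm, ?_⟩
  obtain ⟨_, _, _⟩ := hσf
  haveI := hσs
  haveI : IsFinite (pullGrpd G u).s := inferInstanceAs (IsFinite (pullback.snd (secσ G u) u))
  haveI : Flat (pullGrpd G u).s := inferInstanceAs (Flat (pullback.snd (secσ G u) u))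
  haveI : LocallyOfFinitePresentation (pullGrpd G u).s :=
    inferInstanceAs (LocallyOfFinitePresentation (pullback.snd (secσ G u) u))
  obtain ⟨Y₀, q₀, wq, ⟨hcol₀⟩, -, -, -, -, -, -, hloc⟩ :=
    exists_quotient (G := pullGrpd G u) (orbit_affine G u h2)
  change U' ⟶ Y₀ at q₀
  change pullT G u ≫ q₀ = pullS G u ≫ q₀ at wq
  let τ : secV G u ⟶ U' := pullback.snd G.t u
  have hτp : τ ≫ u ≫ p = secσ G u ≫ p := by
    simp only [τ, secσ, ← pullback.condition_assoc, Category.assoc, w]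
  obtain ⟨m, hm⟩ := Cofork.IsColimit.desc' hcol₀ (u ≫ p) (by
    show pullT G u ≫ u ≫ p = pullS G u ≫ u ≫ p
    rw [← reassoc_of% (pullι_t G u), ← reassoc_of% (pullι_s G u), w])
  change q₀ ≫ m = u ≫ p at hm
  obtain ⟨p₀, hp₀⟩ : ∃ p₀ : G.U ⟶ Y₀, secσ G u ≫ p₀ = τ ≫ q₀ :=
    ⟨EffectiveEpi.desc (secσ G u) (τ ≫ q₀) fun g₁ g₂ hg =>
      key G u wq g₁ g₂ ((g₁ ≫ secσ G u) ≫ G.e) (by rw [Category.assoc, G.e_t, Category.comp_id])
        (by rw [Category.assoc, G.e_s, Category.comp_id, hg]), EffectiveEpi.fac _ _ _⟩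
  have hup₀ : u ≫ p₀ = q₀ := by
    let e' : U' ⟶ secV G u :=
      pullback.lift (u ≫ G.e) (𝟙 _) (by rw [Category.assoc, G.e_t, Category.comp_id, Category.id_comp])
    have h := e' ≫= hp₀
    simp only [e', τ, secσ, pullback.lift_fst_assoc, pullback.lift_snd_assoc, Category.assoc,
      reassoc_of% G.e_s, Category.id_comp] at h
    exact h
  have hp₀m : p₀ ≫ m = p := by
    rw [← cancel_epi (secσ G u), reassoc_of% hp₀, hm, hτp]
  have hw₀ : G.t ≫ p₀ = G.s ≫ p₀ := by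
    let c₁ : pullback G.t (secσ G u) ⟶ G.R := pullback.fst _ _
    let c₂ : pullback (c₁ ≫ G.s) (secσ G u) ⟶ pullback G.t (secσ G u) := pullback.fst _ _
    haveI : Surjective c₁ := MorphismProperty.pullback_fst (P := @Surjective) _ _ hσs
    haveI : Surjective c₂ := MorphismProperty.pullback_fst (P := @Surjective) _ _ hσs
    haveI : Flat c₁ := inferInstanceAs (Flat (pullback.fst _ _))
    haveI : Flat c₂ := inferInstanceAs (Flat (pullback.fst _ _))
    haveI : QuasiCompact c₁ := inferInstanceAs (QuasiCompact (pullback.fst _ _))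
    haveI : QuasiCompact c₂ := inferInstanceAs (QuasiCompact (pullback.fst _ _))
    rw [← cancel_epi c₁, ← cancel_epi c₂]
    have e₁ : c₁ ≫ G.t = pullback.snd _ _ ≫ secσ G u := pullback.condition
    have e₂ : c₂ ≫ c₁ ≫ G.s = pullback.snd _ _ ≫ secσ G u := pullback.condition
    rw [reassoc_of% e₁, reassoc_of% e₂, hp₀]
    exact key G u wq (c₂ ≫ pullback.snd _ _) (pullback.snd _ _) (c₂ ≫ c₁)
      (by simp only [Category.assoc, e₁]) (by simp only [Category.assoc, e₂])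
  obtain ⟨n, hn⟩ := Cofork.IsColimit.desc' hcol p₀ hw₀
  change p ≫ n = p₀ at hn
  haveI : IsIso m := ⟨n, Cofork.IsColimit.hom_ext hcol₀ (by
      show q₀ ≫ m ≫ n = q₀ ≫ 𝟙 Y₀
      rw [reassoc_of% hm, hn, hup₀, Category.comp_id]),
    Cofork.IsColimit.hom_ext hcol (by
      show p ≫ n ≫ m = p ≫ 𝟙 Y
      rw [reassoc_of% hn, hp₀m, Category.comp_id])⟩
  have hloc' : ∀ y : Y, ∃ (W : InvAff (pullGrpd G u)) (ι : quotObj W ⟶ Y), IsOpenImmersion ι ∧ y ∈ Set.range ι ∧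
      IsPullback (quotMap W) W.1.ι ι (u ≫ p : (pullGrpd G u).U ⟶ Y) := by
    intro y
    obtain ⟨W, ι, hι, hy, hW⟩ := hloc (inv m y)
    haveI := hι
    refine ⟨W, ι ≫ m, inferInstance, ?_, ?_⟩
    · obtain ⟨x, hx⟩ := hy
      refine ⟨x, ?_⟩
      rw [Scheme.Hom.comp_apply, hx, ← Scheme.Hom.comp_apply, IsIso.inv_hom_id]
      rfl
    · exact IsPullback.of_iso hW (Iso.refl _) (Iso.refl _) (Iso.refl _) (asIso m) (by simp) (by simp) (by simp)
        (hm.trans (Category.id_comp _).symm)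
  intro Wv V k pv o sq ho Z g hg
  rw [Category.comp_id] at hg
  let Q := pullback u k
  have sqQ : IsPullback (pullback.fst u k) (pullback.snd u k ≫ pv) (u ≫ p) o :=
    (IsPullback.of_hasPullback u k).paste_vert sq |>.flip |>.flip
  have hgQ : Inv (pullGrpd G u) (pullback.fst u k ≫ 𝟙 _) (pullback.snd u k ≫ g) := by
    intro T a b r ha hb
    change T ⟶ pullR G u at r
    change r ≫ pullT G u = a ≫ pullback.fst u k ≫ 𝟙 _ at ha
    change r ≫ pullS G u = b ≫ pullback.fst u k ≫ 𝟙 _ at hb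
    rw [← Category.assoc, ← Category.assoc b]
    refine hg (a ≫ pullback.snd u k) (b ≫ pullback.snd u k) (r ≫ pullι G u) ?_ ?_
    · rw [Category.assoc, pullι_t, ← Category.assoc, Category.assoc a, ← pullback.condition]
      simp only [Category.comp_id] at ha
      exact (congrArg (· ≫ u) ha).trans (Category.assoc _ _ _)
    · rw [Category.assoc, pullι_s, ← Category.assoc, Category.assoc b, ← pullback.condition]
      simp only [Category.comp_id] at hb
      exact (congrArg (· ≫ u) hb).trans (Category.assoc _ _ _)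
  obtain ⟨h, hh, hhu⟩ := openDesc_of_local hloc' (pullback.fst u k) (pullback.snd u k ≫ pv) o sqQ ho _ hgQ
  refine ⟨h, ?_, fun h' hh' => hhu h' (by show (_ ≫ pv) ≫ h' = _; rw [Category.assoc, hh'])⟩
  let c := pullback.snd (secσ G u) k
  haveI : Surjective c := MorphismProperty.pullback_snd (P := @Surjective) _ _ hσs
  haveI : Flat c := inferInstanceAs (Flat (pullback.snd _ _))
  haveI : QuasiCompact c := inferInstanceAs (QuasiCompact (pullback.snd _ _))
  have hl : (pullback.fst (secσ G u) k ≫ τ ≫ u) ≫ p = (c ≫ pv) ≫ o := by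
    simp only [c, Category.assoc, hτp, ← sq.w, pullback.condition_assoc]
  let l := sq.lift _ _ hl
  have hlk : l ≫ k = pullback.fst (secσ G u) k ≫ τ ≫ u := sq.lift_fst _ _ _
  have hlp : l ≫ pv = c ≫ pv := sq.lift_snd _ _ _
  have hgl : l ≫ g = c ≫ g := by
    refine hg l c (pullback.fst (secσ G u) k ≫ pullback.fst G.t u) ?_ ?_
    · rw [Category.assoc, hlk, pullback.condition]
    · rw [Category.assoc, secσ_def, pullback.condition]
  let d : pullback (secσ G u) k ⟶ Q :=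
    pullback.lift (pullback.fst _ _ ≫ τ) l (by rw [Category.assoc, hlk])
  have hd : d ≫ pullback.snd u k = l := pullback.lift_snd _ _ _
  show pv ≫ h = g
  rw [← cancel_epi c, ← reassoc_of% hlp, ← hgl, ← hd, Category.assoc, Category.assoc]
  exact congrArg (d ≫ ·) ((Category.assoc _ _ _).symm.trans hh)

/-- A quotient of an invariant open, stably under open immersions into the quotient. -/
structure IsGQ (G : Grpd.GroupoidScheme S) (W : G.U.Opens) {Y : Scheme.{u}} (p : W.toScheme ⟶ Y) : Prop where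
  sat : G.s ⁻¹ᵁ W = G.t ⁻¹ᵁ W
  inv : Inv G W.ι p
  surj : Function.Surjective p
  isOpenMap : IsOpenMap p
  fibres : ∀ x y : W.toScheme, p x = p y ↔ Rel G (W.ι x) (W.ι y)
  desc : OpenDesc G W.ι p

namespace IsGQ

variable {G : Grpd.GroupoidScheme S} {W : G.U.Opens} {Y : Scheme.{u}} {p : W.toScheme ⟶ Y} (hp : IsGQ G W p)
include hp

theorem sat_mem {x y : G.U} (h : Rel G x y) (hx : x ∈ W) : y ∈ W := by
  obtain ⟨r, rfl, rfl⟩ := h
  exact hp.sat.le hx

theorem desc_top {Z : Scheme.{u}} (g : W.toScheme ⟶ Z) (hg : Inv G W.ι g) : ∃! h : Y ⟶ Z, p ≫ h = g :=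
  hp.desc (𝟙 _) p (𝟙 _) (IsPullback.of_horiz_isIso ⟨by simp⟩) inferInstance g (by rwa [Category.id_comp])

theorem hom_ext {Z : Scheme.{u}} {h₁ h₂ : Y ⟶ Z} (h : p ≫ h₁ = p ≫ h₂) : h₁ = h₂ :=
  (hp.desc_top (p ≫ h₁) (hp.inv.comp G h₁)).unique rfl h.symm

/-- The image of a saturated subopen. -/
def imOpen (W' : G.U.Opens) : Y.Opens := ⟨p '' (W.ι ⁻¹' (W' : Set G.U)), hp.isOpenMap _ (W.ι ⁻¹ᵁ W').isOpen⟩

/-- The restriction to a smaller saturated open. -/
theorem restrict {W' : G.U.Opens} (hle : W' ≤ W) (hsat : G.s ⁻¹ᵁ W' = G.t ⁻¹ᵁ W') :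
    ∃ p' : W'.toScheme ⟶ (hp.imOpen W').toScheme,
      p' ≫ (hp.imOpen W').ι = G.U.homOfLE hle ≫ p ∧ IsPullback (G.U.homOfLE hle) p' p (hp.imOpen W').ι ∧
      IsGQ G W' p' := by
  have hιle : ∀ x : W'.toScheme, W.ι (G.U.homOfLE hle x) = W'.ι x := fun x => by
    rw [← Scheme.Hom.comp_apply, Scheme.homOfLE_ι]
  have hmem : ∀ w : W.toScheme, p w ∈ hp.imOpen W' ↔ W.ι w ∈ W' := by
    refine fun w => ⟨?_, fun h => ⟨w, h, rfl⟩⟩
    rintro ⟨z, hz, hzw⟩
    obtain ⟨r, hr₁, hr₂⟩ := (hp.fibres z w).1 hzw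
    have h3 : G.s r ∈ W' := by rw [hr₁]; exact hz
    exact hr₂ ▸ hsat.le h3
  have hr : Set.range (G.U.homOfLE hle ≫ p) ⊆ Set.range (hp.imOpen W').ι := by
    rintro _ ⟨x, rfl⟩
    rw [Scheme.Opens.range_ι, Scheme.Hom.comp_apply]
    exact (hmem _).2 (by rw [hιle]; exact x.2)
  let p' := IsOpenImmersion.lift (hp.imOpen W').ι (G.U.homOfLE hle ≫ p) hr
  have hp' : p' ≫ (hp.imOpen W').ι = G.U.homOfLE hle ≫ p := IsOpenImmersion.lift_fac _ _ _
  have sq : IsPullback (G.U.homOfLE hle) p' p (hp.imOpen W').ι := by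
    refine (IsOpenImmersion.isPullback p' (G.U.homOfLE hle) (hp.imOpen W').ι p hp'.symm ?_).flip
    ext w
    show p w ∈ (hp.imOpen W').ι.opensRange ↔ w ∈ (G.U.homOfLE hle).opensRange
    rw [Scheme.Opens.opensRange_ι, hmem, Scheme.Hom.mem_opensRange]
    constructor
    · exact fun h => ⟨⟨W.ι w, h⟩, W.ι.isOpenEmbedding.injective (hιle _)⟩
    · rintro ⟨x, rfl⟩; rw [hιle]; exact x.2
  refine ⟨p', hp', sq, hsat, ?_, ?_, ?_, ?_, ?_⟩
  · intro T a b r ha hb
    rw [← cancel_mono (hp.imOpen W').ι, Category.assoc, Category.assoc, hp', ← Category.assoc, ← Category.assoc b]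
    exact hp.inv _ _ r (by rw [ha, Category.assoc, Scheme.homOfLE_ι]) (by rw [hb, Category.assoc, Scheme.homOfLE_ι])
  · rintro ⟨_, w, hw, rfl⟩
    refine ⟨⟨W.ι w, hw⟩, (hp.imOpen W').ι.isOpenEmbedding.injective ?_⟩
    rw [← Scheme.Hom.comp_apply, hp', Scheme.Hom.comp_apply]
    exact congrArg p (W.ι.isOpenEmbedding.injective (hιle _))
  · intro O hO
    refine ((hp.imOpen W').ι.isOpenEmbedding.isOpen_iff_image_isOpen).2 ?_
    rw [← Set.image_comp]
    show IsOpen (((hp.imOpen W').ι.base ∘ p'.base) '' O)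
    have : (hp.imOpen W').ι.base ∘ p'.base = p.base ∘ (G.U.homOfLE hle).base := by
      funext x
      exact congrArg (fun m : W'.toScheme ⟶ Y => m x) hp'
    rw [this, Set.image_comp]
    exact hp.isOpenMap _ ((G.U.homOfLE hle).isOpenEmbedding.isOpenMap _ hO)
  · intro x y
    rw [← (hp.imOpen W').ι.isOpenEmbedding.injective.eq_iff, ← Scheme.Hom.comp_apply, ← Scheme.Hom.comp_apply,
      hp', Scheme.Hom.comp_apply, Scheme.Hom.comp_apply, hp.fibres, hιle, hιle]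
  · intro Wv V k pv o sq' ho Z g hg
    haveI := ho
    exact hp.desc (k ≫ G.U.homOfLE hle) pv (o ≫ (hp.imOpen W').ι) (sq'.flip.paste_vert sq.flip).flip
      inferInstance g (by rwa [Category.assoc, Scheme.homOfLE_ι])

/-- A smaller quotient maps openly into a bigger one. -/
theorem exists_openImmersion {W' : G.U.Opens} (hle : W' ≤ W) {Y' : Scheme.{u}} {p' : W'.toScheme ⟶ Y'}
    (hp' : IsGQ G W' p') :
    ∃ m : Y' ⟶ Y, p' ≫ m = G.U.homOfLE hle ≫ p ∧ IsOpenImmersion m := by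
  obtain ⟨q, hq, -, hqg⟩ := hp.restrict hle hp'.sat
  obtain ⟨m, hm, -⟩ := hp'.desc_top q hqg.inv
  obtain ⟨n, hn, -⟩ := hqg.desc_top p' hp'.inv
  haveI : IsIso m := ⟨n, hp'.hom_ext (by rw [reassoc_of% hm, hn, Category.comp_id]),
    hqg.hom_ext (by rw [reassoc_of% hn, hm, Category.comp_id])⟩
  exact ⟨m ≫ (hp.imOpen W').ι, by rw [reassoc_of% hm, hq], inferInstance⟩

end IsGQ

/-- A quasi-section gives a quotient stable under restriction. -/
theorem exists_isGQ_of_hasQS (G : Grpd.GroupoidScheme S) (W : G.U.Opens) (hqs : HasQS G W)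
    (hto : IsOpenMap G.t.base) [UniversallyClosed G.t] [Flat G.t] :
    ∃ (Y : Scheme.{u}) (p : W.toScheme ⟶ Y), IsGQ G W p ∧ UniversallyClosed p ∧
      (∀ hw : tW G W hqs.1.symm ≫ p = sW G W ≫ p,
        Function.Surjective (pullback.lift (tW G W hqs.1.symm) (sW G W) hw)) ∧
      (∃ (U' : Scheme.{u}) (u : U' ⟶ W.toScheme), IsImmersion u ∧ IsImmersion (u ≫ W.ι) ∧ IsIntegralHom (u ≫ p) ∧
        Mor2.IsFinLocFree (secσ (Groth.Agent.L24.Quot.restrict G W hqs.1.symm) u) ∧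
        Surjective (secσ (Groth.Agent.L24.Quot.restrict G W hqs.1.symm) u)) ∧
      (Mono G.j → IsPullback (tW G W hqs.1.symm) (sW G W) p p ∧ Flat p) := by
  let H := Groth.Agent.L24.Quot.restrict G W hqs.1.symm
  obtain ⟨U', u, hu, hu', hσf, hσs, h2⟩ := exists_restrict_qs G W hqs.1 hqs
  haveI : IsImmersion u := hu
  obtain ⟨Y, p, w, -, hint, hps, hpo, hpc, hpl, hpm, hdesc⟩ := exists_quasiSection_openDesc H u hσf hσs h2
  change W.toScheme ⟶ Y at p
  change tW G W hqs.1.symm ≫ p = sW G W ≫ p at w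
  have htc : UniversallyClosed H.t := restrict_t_prop G W hqs.1.symm @UniversallyClosed ‹_›
  have htf : Flat H.t := restrict_t_prop G W hqs.1.symm @Flat ‹_›
  have hto'' : IsOpenMap (tW G W hqs.1.symm).base := by
    intro O hO
    refine W.ι.isOpenEmbedding.isOpen_iff_image_isOpen.2 ?_
    have : W.ι.base ∘ (tW G W hqs.1.symm).base = G.t.base ∘ (G.s ⁻¹ᵁ W).ι.base := by
      funext x
      exact congrArg (fun m : (G.s ⁻¹ᵁ W).toScheme ⟶ G.U => m x) (tW_ι G W hqs.1.symm)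
    rw [← Set.image_comp]
    show IsOpen ((W.ι.base ∘ (tW G W hqs.1.symm).base) '' O)
    rw [this, Set.image_comp]
    exact hto _ ((G.s ⁻¹ᵁ W).ι.isOpenEmbedding.isOpenMap _ hO)
  have hto' : IsOpenMap H.t.base := hto''
  change Function.Surjective (pullback.lift (tW G W hqs.1.symm) (sW G W) w).base at hpl
  refine ⟨Y, p, ⟨hqs.1.symm, ?_, hps.surj, hpo hto', ?_, ?_⟩, hpc htc, fun _ => hpl, ⟨U', u, hu, hu', hint, hσf, hσs⟩,
    fun hj => ?_⟩
  · intro T a b r ha hb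
    have hr : Set.range r ⊆ Set.range (G.s ⁻¹ᵁ W).ι := by
      rintro _ ⟨x, rfl⟩
      rw [Scheme.Opens.range_ι]
      show G.s (r x) ∈ W
      rw [← Scheme.Hom.comp_apply, hb, Scheme.Hom.comp_apply]
      exact (b x).2
    let r' := IsOpenImmersion.lift (G.s ⁻¹ᵁ W).ι r hr
    have h₁ : r' ≫ tW G W hqs.1.symm = a := by
      rw [← cancel_mono W.ι, Category.assoc, tW_ι, IsOpenImmersion.lift_fac_assoc, ha]
    have h₂ : r' ≫ sW G W = b := by
      rw [← cancel_mono W.ι, Category.assoc, sW_ι, IsOpenImmersion.lift_fac_assoc, hb]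
    rw [← h₁, ← h₂, Category.assoc, Category.assoc, w]
  · intro x y
    constructor
    · intro h
      obtain ⟨z, hz₁, hz₂⟩ := Scheme.Pullback.exists_preimage_pullback (f := p) (g := p) x y h
      obtain ⟨r, rfl⟩ := hpl z
      refine rel_symm G ⟨(G.s ⁻¹ᵁ W).ι r, ?_, ?_⟩
      · exact (congrArg (fun m : (G.s ⁻¹ᵁ W).toScheme ⟶ G.U => m r) (sW_ι G W)).symm.trans (congrArg W.ι
          ((congrArg (fun m : (G.s ⁻¹ᵁ W).toScheme ⟶ W.toScheme => m r) (pullback.lift_snd _ _ w)).symm.trans hz₂))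
      · exact (congrArg (fun m : (G.s ⁻¹ᵁ W).toScheme ⟶ G.U => m r) (tW_ι G W hqs.1.symm)).symm.trans (congrArg W.ι
          ((congrArg (fun m : (G.s ⁻¹ᵁ W).toScheme ⟶ W.toScheme => m r) (pullback.lift_fst _ _ w)).symm.trans hz₁))
    · rintro ⟨r, hr₁, hr₂⟩
      have hr : r ∈ G.s ⁻¹ᵁ W := by show G.s r ∈ W; rw [hr₁]; exact x.2
      have h₁ : sW G W ⟨r, hr⟩ = x := W.ι.isOpenEmbedding.injective
        ((congrArg (fun m : (G.s ⁻¹ᵁ W).toScheme ⟶ G.U => m ⟨r, hr⟩) (sW_ι G W)).trans hr₁)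
      have h₂ : tW G W hqs.1.symm ⟨r, hr⟩ = y := W.ι.isOpenEmbedding.injective
        ((congrArg (fun m : (G.s ⁻¹ᵁ W).toScheme ⟶ G.U => m ⟨r, hr⟩) (tW_ι G W hqs.1.symm)).trans hr₂)
      rw [← h₁, ← h₂]
      exact congrArg (fun m : (G.s ⁻¹ᵁ W).toScheme ⟶ Y => m ⟨r, hr⟩) w.symm
  · intro Wv V k pv o sq ho Z g hg
    refine hdesc k pv o sq ho g fun T a b r ha hb => hg a b (r ≫ (G.s ⁻¹ᵁ W).ι) ?_ ?_
    · rw [Category.assoc]
      refine (r ≫= (tW_ι G W hqs.1.symm).symm).trans ?_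
      rw [Category.comp_id] at ha
      exact (Category.assoc _ _ _).symm.trans ((congrArg (· ≫ W.ι) ha).trans (Category.assoc _ _ _))
    · rw [Category.assoc]
      refine (r ≫= (sW_ι G W).symm).trans ?_
      rw [Category.comp_id] at hb
      exact (Category.assoc _ _ _).symm.trans ((congrArg (· ≫ W.ι) hb).trans (Category.assoc _ _ _))
  · haveI := hj
    haveI := mono_restrict_j G W hqs.1.symm
    exact ⟨(hpm this).1, (hpm this).2 htf⟩

end Groth.L24.GenQuot
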