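import Groth.Agent.L24.GenQuot.GQ

/-!
# Gluing quotients of invariant opens
-/

set_option autoImplicit false
set_option linter.style.haveILetI false
set_option backward.isDefEq.respectTransparency.types false
universe u

open CategoryTheory CategoryTheory.Limits AlgebraicGeometry Groth.Agent.L24.Quot

namespace Groth.L24.GenQuot

variable {S : Scheme.{u}} (G : Grpd.GroupoidScheme S)

/-- Invariant opens having a quotient. -/
abbrev GQOpen : Type u := {W : G.U.Opens // ∃ (Y : Scheme.{u}) (p : W.toScheme ⟶ Y), IsGQ G W p}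

variable {G}

/-- The quotient of such an open. -/
noncomputable abbrev gqObj (W : GQOpen G) : Scheme.{u} := W.2.choose

/-- Its quotient map. -/
noncomputable def gqMap (W : GQOpen G) : W.1.toScheme ⟶ gqObj W := W.2.choose_spec.choose

theorem isGQ_gqMap (W : GQOpen G) : IsGQ G W.1 (gqMap W) := W.2.choose_spec.choose_spec

/-- Transition map. -/
noncomputable def gqTrans {W' W : GQOpen G} (h : W' ≤ W) : gqObj W' ⟶ gqObj W :=
  ((isGQ_gqMap W).exists_openImmersion h (isGQ_gqMap W')).choose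

@[reassoc]
theorem gqMap_trans {W' W : GQOpen G} (h : W' ≤ W) :
    gqMap W' ≫ gqTrans h = G.U.homOfLE h ≫ gqMap W :=
  ((isGQ_gqMap W).exists_openImmersion h (isGQ_gqMap W')).choose_spec.1

variable (G) in
/-- The diagram of local quotients. -/
noncomputable def gqFunctor : GQOpen G ⥤ Scheme.{u} where
  obj := gqObj
  map f := gqTrans (leOfHom f)
  map_id W := (isGQ_gqMap W).hom_ext (by
    rw [gqMap_trans, Scheme.homOfLE_rfl, Category.id_comp, Category.comp_id])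
  map_comp {A B C} f g := (isGQ_gqMap A).hom_ext (by
    rw [gqMap_trans, gqMap_trans_assoc, gqMap_trans, Scheme.homOfLE_homOfLE_assoc])

instance {i j : GQOpen G} (f : i ⟶ j) : IsOpenImmersion ((gqFunctor G).map f) :=
  ((isGQ_gqMap j).exists_openImmersion (leOfHom f) (isGQ_gqMap i)).choose_spec.2

theorem gqTrans_apply {W' W : GQOpen G} (h : W' ≤ W) (x : W'.1.toScheme) :
    gqTrans h (gqMap W' x) = gqMap W (G.U.homOfLE h x) := by
  rw [← Scheme.Hom.comp_apply, gqMap_trans, Scheme.Hom.comp_apply]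

/-- The intersection of two of them. -/
def gqInf (A B : GQOpen G) : GQOpen G :=
  ⟨A.1 ⊓ B.1, by
    obtain ⟨p, -, -, hp⟩ := (isGQ_gqMap A).restrict (W' := A.1 ⊓ B.1) inf_le_left (by
      rw [Scheme.Hom.preimage_inf, Scheme.Hom.preimage_inf, (isGQ_gqMap A).sat, (isGQ_gqMap B).sat])
    exact ⟨_, p, hp⟩⟩

instance : (gqFunctor G ⋙ Scheme.forget).IsLocallyDirected := by
  constructor
  intro A B K fA fB xA xB h
  obtain ⟨a, ha⟩ := (isGQ_gqMap A).surj xA
  obtain ⟨b, hb⟩ := (isGQ_gqMap B).surj xB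
  subst ha hb
  change gqTrans (leOfHom fA) (gqMap A a) = gqTrans (leOfHom fB) (gqMap B b) at h
  rw [gqTrans_apply, gqTrans_apply] at h
  have hrel : Rel G a.1 b.1 := by
    have := ((isGQ_gqMap K).fibres _ _).1 h
    rwa [← Scheme.Hom.comp_apply, ← Scheme.Hom.comp_apply, Scheme.homOfLE_ι, Scheme.homOfLE_ι] at this
  have haB : a.1 ∈ B.1 := (isGQ_gqMap B).sat_mem (rel_symm G hrel) b.2
  refine ⟨gqInf A B, homOfLE (show gqInf A B ≤ A from (inf_le_left : A.1 ⊓ B.1 ≤ A.1)),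
    homOfLE (show gqInf A B ≤ B from (inf_le_right : A.1 ⊓ B.1 ≤ B.1)),
    gqMap (gqInf A B) ⟨a.1, a.2, haB⟩, ?_, ?_⟩
  · show gqTrans _ (gqMap _ _) = gqMap A a
    rw [gqTrans_apply]
    congr 1
    apply A.1.ι.isOpenEmbedding.injective
    rw [← Scheme.Hom.comp_apply, Scheme.homOfLE_ι]
    rfl
  · show gqTrans _ (gqMap _ _) = gqMap B b
    rw [gqTrans_apply, (isGQ_gqMap B).fibres]
    have : B.1.ι (G.U.homOfLE (inf_le_right : A.1 ⊓ B.1 ≤ B.1) ⟨a.1, a.2, haB⟩) = a.1 := by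
      rw [← Scheme.Hom.comp_apply, Scheme.homOfLE_ι]
      rfl
    exact (congrArg (fun z => Rel G z b.1) this).mpr hrel

/-- The local quotients glue to a quotient. -/
theorem exists_glued_quotient (hcov : ∀ x : G.U, ∃ W : GQOpen G, x ∈ W.1) :
    ∃ (Y : Scheme.{u}) (p : G.U ⟶ Y) (w : G.t ≫ p = G.s ≫ p), Nonempty (IsColimit (Cofork.ofπ p w)) ∧
      Surjective p ∧ IsOpenMap p.base ∧ (∀ x y : G.U, p x = p y ↔ Rel G x y) ∧
      (∀ (W : G.U.Opens) (Y' : Scheme.{u}) (p' : W.toScheme ⟶ Y'), IsGQ G W p' →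
        ∃ ι : Y' ⟶ Y, IsOpenImmersion ι ∧ IsPullback p' W.ι ι p) := by
  let F := gqFunctor G
  let Y := colimit F
  let gι : ∀ W : GQOpen G, gqObj W ⟶ Y := fun W => colimit.ι F W
  have hgι : ∀ W, IsOpenImmersion (gι W) := fun W => inferInstanceAs (IsOpenImmersion (colimit.ι F W))
  have gι_w : ∀ {A B : GQOpen G} (h : A ≤ B), gqTrans h ≫ gι B = gι A := fun h => colimit.w F (homOfLE h)
  obtain ⟨p, hp⟩ := exists_glue (fun W : GQOpen G => W.1) hcov (fun W => gqMap W ≫ gι W) fun A B => by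
    show G.U.homOfLE inf_le_left ≫ gqMap A ≫ gι A = G.U.homOfLE inf_le_right ≫ gqMap B ≫ gι B
    have hA := gqMap_trans_assoc (W' := gqInf A B) (W := A) (show A.1 ⊓ B.1 ≤ A.1 from inf_le_left) (gι A)
    have hB := gqMap_trans_assoc (W' := gqInf A B) (W := B) (show A.1 ⊓ B.1 ≤ B.1 from inf_le_right) (gι B)
    rw [gι_w] at hA hB
    exact hA.symm.trans hB
  have hpW : ∀ W : GQOpen G, W.1.ι ≫ p = gqMap W ≫ gι W := hp
  have hval : ∀ (W : GQOpen G) (x : W.1.toScheme), p x.1 = gι W (gqMap W x) := fun W x => by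
    rw [← Scheme.Hom.comp_apply, ← hpW, Scheme.Hom.comp_apply]
    rfl
  have hpre : ∀ (W : GQOpen G) (x : G.U), p x ∈ Set.range (gι W) → x ∈ W.1 := by
    rintro W x ⟨y, hy⟩
    obtain ⟨W', hxW'⟩ := hcov x
    rw [hval W' ⟨x, hxW'⟩] at hy
    obtain ⟨K, fW, fW', z, hz, hz'⟩ := Scheme.IsLocallyDirected.ι_eq_ι_iff F |>.1 hy
    obtain ⟨k, rfl⟩ := (isGQ_gqMap K).surj z
    change gqTrans (leOfHom fW') (gqMap K k) = gqMap W' ⟨x, hxW'⟩ at hz'
    rw [gqTrans_apply, (isGQ_gqMap W').fibres] at hz'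
    rw [← Scheme.Hom.comp_apply, Scheme.homOfLE_ι] at hz'
    exact leOfHom fW ((isGQ_gqMap K).sat_mem hz' k.2)
  have hfib : ∀ x y, p x = p y ↔ Rel G x y := by
    intro x y
    obtain ⟨W, hxW⟩ := hcov x
    constructor
    · intro h
      have hyW : y ∈ W.1 := hpre W y ⟨gqMap W ⟨x, hxW⟩, by rw [← hval]; exact h⟩
      rw [hval W ⟨x, hxW⟩, hval W ⟨y, hyW⟩] at h
      exact ((isGQ_gqMap W).fibres _ _).1 ((hgι W).1.injective h)
    · intro h
      have hyW : y ∈ W.1 := (isGQ_gqMap W).sat_mem h hxW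
      rw [hval W ⟨x, hxW⟩, hval W ⟨y, hyW⟩, ((isGQ_gqMap W).fibres ⟨x, hxW⟩ ⟨y, hyW⟩).2 h]
  have hw : G.t ≫ p = G.s ≫ p := by
    refine Scheme.hom_ext_of_forall _ _ fun r => ?_
    obtain ⟨W, hrW⟩ := hcov (G.s r)
    refine ⟨G.s ⁻¹ᵁ W.1, hrW, ?_⟩
    have hW := (isGQ_gqMap W).sat
    have h := (isGQ_gqMap W).inv (tW G W.1 hW) (sW G W.1) (G.s ⁻¹ᵁ W.1).ι (tW_ι G W.1 hW).symm (sW_ι G W.1).symm
    rw [← tW_ι_assoc G W.1 hW, ← sW_ι_assoc G W.1, hpW]
    rw [← Category.assoc, h, Category.assoc]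
  have hsurj : Function.Surjective p := by
    intro y
    obtain ⟨W, z, rfl⟩ := Scheme.IsLocallyDirected.ι_jointly_surjective F y
    obtain ⟨x, rfl⟩ := (isGQ_gqMap W).surj z
    exact ⟨x.1, hval W x⟩
  have hopen : IsOpenMap p.base := by
    intro O hO
    rw [show p.base '' O = ⋃ W : GQOpen G, gι W '' (gqMap W '' (W.1.ι ⁻¹' O)) by
      ext y
      simp only [Set.mem_iUnion, Set.mem_image, Set.mem_preimage]
      constructor
      · rintro ⟨x, hx, rfl⟩
        obtain ⟨W, hxW⟩ := hcov x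
        exact ⟨W, _, ⟨⟨x, hxW⟩, hx, rfl⟩, (hval W ⟨x, hxW⟩).symm⟩
      · rintro ⟨W, _, ⟨x, hx, rfl⟩, rfl⟩
        exact ⟨x.1, hx, hval W x⟩]
    exact isOpen_iUnion fun W => (hgι W).1.isOpenMap _
      ((isGQ_gqMap W).isOpenMap _ (hO.preimage W.1.ι.continuous))
  refine ⟨Y, p, hw, ⟨?_⟩, ⟨hsurj⟩, hopen, hfib, fun W Y' p' hp' => ?_⟩
  · refine Cofork.IsColimit.mk' _ fun c => ?_
    have hc : G.t ≫ c.π = G.s ≫ c.π := c.condition
    have hinv : ∀ W : GQOpen G, Inv G W.1.ι (W.1.ι ≫ c.π) := fun W T a b r h1 h2 => by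
      rw [← Category.assoc, ← h1, ← Category.assoc, ← h2, Category.assoc, Category.assoc, hc]
    choose h hh hu using fun W => (isGQ_gqMap W).desc_top _ (hinv W)
    have hnat : ∀ (A B : GQOpen G) (f : A ⟶ B), gqTrans (leOfHom f) ≫ h B = h A := fun A B f => by
      apply (isGQ_gqMap A).hom_ext
      rw [gqMap_trans_assoc, hh, hh, Scheme.homOfLE_ι_assoc]
    let k : Cocone F :=
      { pt := c.pt
        ι := { app := h, naturality := fun A B f => (hnat A B f).trans (Category.comp_id _).symm } }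
    have hk : ∀ W : GQOpen G, gι W ≫ colimit.desc F k = h W := fun W => colimit.ι_desc k W
    refine ⟨colimit.desc F k, ?_, fun {m} hm => ?_⟩
    · show p ≫ colimit.desc F k = c.π
      refine Scheme.hom_ext_of_forall _ _ fun x => ?_
      obtain ⟨W, hxW⟩ := hcov x
      refine ⟨W.1, hxW, ?_⟩
      rw [reassoc_of% hpW, hk]
      exact hh W
    · refine colimit.hom_ext (F := F) fun W => ?_
      show gι W ≫ m = gι W ≫ colimit.desc F k
      rw [hk]
      apply (isGQ_gqMap W).hom_ext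
      rw [← Category.assoc, ← hpW, Category.assoc]
      exact (congrArg (W.1.ι ≫ ·) hm).trans (hh W).symm
  · let Wq : GQOpen G := ⟨W, Y', p', hp'⟩
    obtain ⟨m, hm, hmo⟩ := (isGQ_gqMap Wq).exists_openImmersion (W' := W) le_rfl hp'
    rw [Scheme.homOfLE_rfl] at hm
    erw [Category.id_comp] at hm
    haveI := hmo
    haveI := hgι Wq
    have hc : W.ι ≫ p = p' ≫ m ≫ gι Wq := by
      rw [← Category.assoc, hm]
      exact hpW Wq
    refine ⟨m ≫ gι Wq, inferInstance, IsOpenImmersion.isPullback p' W.ι (m ≫ gι Wq) p hc ?_⟩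
    ext x
    show p x ∈ (m ≫ gι Wq).opensRange ↔ x ∈ W.ι.opensRange
    rw [Scheme.Opens.opensRange_ι, Scheme.Hom.mem_opensRange]
    constructor
    · rintro ⟨y, hy⟩
      exact hpre Wq x ⟨m y, by rw [← hy, Scheme.Hom.comp_apply]⟩
    · intro hx
      refine ⟨p' ⟨x, hx⟩, ?_⟩
      exact (congrArg (fun f : W.toScheme ⟶ Y => f ⟨x, hx⟩) hc).symm

end Groth.L24.GenQuot
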