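import Groth.Agent.L24.GenQuot.Slice
import Groth.Agent.L02.Grpd.SliceFinal
import Groth.Agent.L20.FlatStalk
import Groth.Agent.L22.FinAff.Glue

/-!
# A flat and quasi-finite slice
-/

set_option autoImplicit false
set_option linter.style.haveILetI false
set_option backward.isDefEq.respectTransparency.types false
universe u

open CategoryTheory CategoryTheory.Limits AlgebraicGeometry

namespace Groth.L24.GenQuot

variable {S : Scheme.{u}} (G : Grpd.GroupoidScheme S)

/-- Finite sets lie in affine opens. -/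
def FinAff (U' : Scheme.{u}) : Prop :=
  ∀ E : Set U', E.Finite → ∃ W : U'.Opens, IsAffineOpen W ∧ E ⊆ (W : Set U')

theorem finAff_open {U' : Scheme.{u}} [IsAffine U'] (V : U'.Opens) : FinAff V.toScheme := fun E hE => by
  obtain ⟨W, hW, hWV, hEW⟩ := Groth.L22.FinAff.exists_affine_le_finset (isAffineOpen_top U') V (V.ι '' E)
    (hE.image _) (fun _ _ => trivial) (by rintro _ ⟨x, -, rfl⟩; exact x.2)
  refine ⟨V.ι ⁻¹ᵁ W, hW.preimage_of_isOpenImmersion V.ι ?_, fun x hx => hEW ⟨x, hx, rfl⟩⟩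
  rw [Scheme.Opens.opensRange_ι]
  exact hWV.trans inf_le_right

/-- Flatness at a point and base change along a flat morphism. -/
theorem flat_baseChange_iff {X Y Y' : Scheme.{u}} (f : X ⟶ Y) [LocallyOfFinitePresentation f] (b : Y' ⟶ Y)
    [Flat b] (x : ↑(pullback f b)) :
    (f.stalkMap (pullback.fst f b x)).hom.Flat ↔ ((pullback.snd f b).stalkMap x).hom.Flat := by
  constructor
  · intro h
    let V : X.Opens := ⟨{x | (f.stalkMap x).hom.Flat}, Groth.L20.isOpen_flat_stalkMap f⟩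
    haveI : Flat (V.ι ≫ f) := by
      refine (Flat.iff_flat_stalkMap _).mpr fun x => ?_
      rw [Scheme.Hom.stalkMap_comp]
      exact RingHom.Flat.comp x.2 (RingHom.Flat.of_bijective
        (ConcreteCategory.bijective_of_isIso (V.ι.stalkMap x)))
    let j : pullback (V.ι ≫ f) b ⟶ pullback f b :=
      pullback.map _ _ _ _ V.ι (𝟙 _) (𝟙 _) (by simp) (by simp)
    haveI : IsOpenImmersion j := inferInstance
    obtain ⟨z, hz⟩ : x ∈ Set.range j := by
      rw [Scheme.Pullback.range_map]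
      exact ⟨⟨⟨_, h⟩, rfl⟩, ⟨pullback.snd f b x, rfl⟩⟩
    subst hz
    refine Groth.L19.flat_stalkMap_of_comp j (pullback.snd f b) z
      (RingHom.Flat.of_bijective (ConcreteCategory.bijective_of_isIso (j.stalkMap z))) ?_
    rw [show j ≫ pullback.snd f b = pullback.snd (V.ι ≫ f) b from (pullback.lift_snd _ _ _).trans (Category.comp_id _)]
    exact Flat.stalkMap _ z
  · intro h
    refine Groth.L19.flat_stalkMap_of_comp (pullback.fst f b) f x (Flat.stalkMap _ x) ?_
    rw [pullback.condition, Scheme.Hom.stalkMap_comp]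
    exact RingHom.Flat.comp (Flat.stalkMap b _) h

variable [Flat G.s] [LocallyOfFinitePresentation G.s] [Flat G.t] [LocallyOfFinitePresentation G.t]

theorem exists_flat_open {U' : Scheme.{u}} (g : U' ⟶ G.U) [LocallyOfFinitePresentation g] :
    ∃ V : U'.Opens, ∀ q, pullback.fst g G.t q ∈ V ↔ ((slc G g).stalkMap q).hom.Flat := by
  let R : MorphismProperty Scheme.{u} := fun _ _ f => Flat f ∧ LocallyOfFinitePresentation f
  obtain ⟨V, hV⟩ := L02.Grpd.exists_open_preimage_eq G g @Flat @LocallyOfFinitePresentation R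
    (fun f hf => haveI := hf; ⟨{x | (f.stalkMap x).hom.Flat}, Groth.L20.isOpen_flat_stalkMap f⟩)
    (fun f hf => (Flat.iff_flat_stalkMap _).mpr fun x => by
      rw [Scheme.Hom.stalkMap_comp]
      exact RingHom.Flat.comp x.2 (RingHom.Flat.of_bijective (ConcreteCategory.bijective_of_isIso (Scheme.Hom.stalkMap _ x))))
    (fun f hf V hV x hx => Groth.L19.flat_stalkMap_of_comp V.ι f ⟨x, hx⟩
      (RingHom.Flat.of_bijective (ConcreteCategory.bijective_of_isIso (V.ι.stalkMap _)))
      (haveI := hV; Flat.stalkMap _ _))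
    (fun f hf b hb hf' => by
      haveI := hf; haveI := hb.1
      ext x
      exact flat_baseChange_iff f b x)
    ⟨inferInstance, inferInstance⟩ ⟨inferInstance, inferInstance⟩ inferInstance
  exact ⟨V, fun q => SetLike.ext_iff.mp hV q⟩

variable [AlgebraicGeometry.IsNoetherian S] [LocallyOfFiniteType G.pU] [QuasiCompact G.pU] [QuasiCompact G.s]
  [LocallyQuasiFinite G.j]

/-- Over any nonempty open there is a flat quasi-finite slice. -/
theorem exists_flat_qf_slice (O : G.U.Opens) (hO : (O : Set G.U).Nonempty) :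
    ∃ (U' : Scheme.{u}) (u : U' ⟶ G.U), IsImmersion u ∧ FinAff U' ∧ Set.range u ⊆ O ∧
      Flat (slc G u) ∧ LocallyQuasiFinite (slc G u) ∧ Nonempty ↑(pullback u G.t) := by
  haveI := isNoetherian_U G
  obtain ⟨U₀, _, u₀, _, v, hrange, hflat, hqf⟩ := exists_slice G O hO
  haveI : LocallyOfFinitePresentation u₀ :=
    LocallyOfFinitePresentation.iff_locallyOfFiniteType.mpr inferInstance
  obtain ⟨V₁, h₁⟩ := exists_flat_open G u₀
  obtain ⟨V₂, h₂⟩ := L02.Grpd.exists_qf_open G u₀
  let V := V₁ ⊓ V₂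
  have hv : pullback.fst u₀ G.t v ∈ V := ⟨(h₁ v).2 hflat, (h₂ v).2 hqf⟩
  let j : pullback (V.ι ≫ u₀) G.t ⟶ pullback u₀ G.t :=
    pullback.lift (pullback.fst _ _ ≫ V.ι) (pullback.snd _ _) (by rw [Category.assoc, pullback.condition])
  have hj2 : j ≫ pullback.snd u₀ G.t = pullback.snd (V.ι ≫ u₀) G.t := pullback.lift_snd _ _ _
  have hj1 : j ≫ pullback.fst u₀ G.t = pullback.fst (V.ι ≫ u₀) G.t ≫ V.ι := pullback.lift_fst _ _ _
  have hsq : IsPullback (pullback.fst (V.ι ≫ u₀) G.t) j V.ι (pullback.fst u₀ G.t) :=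
    IsPullback.of_bot (by rw [hj2]; exact IsPullback.of_hasPullback (V.ι ≫ u₀) G.t) hj1.symm
      (IsPullback.of_hasPullback u₀ G.t)
  haveI : IsOpenImmersion j := MorphismProperty.of_isPullback hsq inferInstance
  have hcomp : j ≫ slc G u₀ = slc G (V.ι ≫ u₀) := by rw [← Category.assoc, hj2]
  have hmem : ∀ w, pullback.fst u₀ G.t (j w) ∈ V := fun w => by
    rw [← Scheme.Hom.comp_apply, hj1, Scheme.Hom.comp_apply]
    exact (pullback.fst (V.ι ≫ u₀) G.t w).2
  refine ⟨V, V.ι ≫ u₀, inferInstance, finAff_open V, ?_, ?_, ?_, ?_⟩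
  · rintro _ ⟨x, rfl⟩
    exact hrange ⟨x.1, rfl⟩
  · rw [← hcomp]
    refine (Flat.iff_flat_stalkMap _).mpr fun w => ?_
    rw [Scheme.Hom.stalkMap_comp]
    exact RingHom.Flat.comp ((h₁ (j w)).1 (hmem w).1)
      (RingHom.Flat.of_bijective (ConcreteCategory.bijective_of_isIso (j.stalkMap w)))
  · rw [← hcomp, ← Scheme.Hom.quasiFiniteLocus_eq_top_iff, Scheme.Hom.quasiFiniteLocus_comp, eq_top_iff]
    intro w _
    exact (h₂ (j w)).1 (hmem w).2
  · obtain ⟨w, -, -⟩ := Scheme.Pullback.exists_preimage_pullback (f := V.ι) (g := pullback.fst u₀ G.t) ⟨_, hv⟩ v rfl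
    exact ⟨hsq.isoPullback.inv w⟩

end Groth.L24.GenQuot
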