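import Groth.Agent.L24.GenQuot.QS
import Groth.Agent.L24.GenQuot.CutProj
import Mathlib.AlgebraicGeometry.ZariskisMainTheorem

/-!
# Quasi-sections of a proper flat groupoid near a point
-/

set_option autoImplicit false
set_option linter.style.haveILetI false
set_option backward.isDefEq.respectTransparency.types false
universe u

open CategoryTheory CategoryTheory.Limits AlgebraicGeometry

namespace Groth.L24.GenQuot

/-- A finite set in a scheme with an ample module lies in an affine open. -/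
theorem finAff_of_isAmple {X : Scheme.{u}} {L : X.Modules} (hL : CohB1.IsAmple L) : FinAff X := fun E hE => by
  obtain ⟨n, s, hEs, -, hs⟩ := Groth.L18.Ample.exists_pow_genLocus_of_isAmple hL E hE ⊤ (fun _ _ => trivial)
  exact ⟨_, hs, hEs⟩

theorem finAff_affineHom {X Y : Scheme.{u}} (f : Y ⟶ X) [IsAffineHom f] (hX : FinAff X) : FinAff Y :=
  fun E hE => by
    obtain ⟨V, hV, hEV⟩ := hX (f '' E) (hE.image _)
    exact ⟨f ⁻¹ᵁ V, hV.preimage f, fun y hy => hEV ⟨y, hy, rfl⟩⟩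

theorem finAff_opens {X : Scheme.{u}} (hX : FinAff X) (O : X.Opens) : FinAff O.toScheme := fun E hE => by
  obtain ⟨V, hV, hEV⟩ := hX (O.ι '' E) (hE.image _)
  obtain ⟨V', hV', hle, hEV'⟩ := Groth.L22.FinAff.exists_affine_le_finset hV O _ (hE.image _) hEV
    (by rintro _ ⟨x, -, rfl⟩; exact x.2)
  refine ⟨O.ι ⁻¹ᵁ V', hV'.preimage_of_isOpenImmersion _ ?_, fun x hx => hEV' ⟨x, hx, rfl⟩⟩
  rw [Scheme.Opens.opensRange_ι]
  exact hle.trans inf_le_right

variable {S : Scheme.{u}} [IsLocallyNoetherian S] (G : Grpd.GroupoidScheme S) [IsProper G.s] [Flat G.s]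
  [LocallyQuasiFinite G.j]

/-- Finitely many arrows join a point closed in its fibre to a given point. -/
theorem finite_arrows_closed [LocallyOfFiniteType G.pU] (z : G.U)
    (hz : ∀ z' : G.U, z ⤳ z' → G.pU z' = G.pU z → z' = z) (x : G.U) :
    {r : G.R | G.s r = z ∧ G.t r = x}.Finite := by
  haveI : IsLocallyNoetherian G.U := LocallyOfFiniteType.isLocallyNoetherian G.pU
  haveI : IsIso G.i := ⟨G.i, L02.CMMor.i_i G, L02.CMMor.i_i G⟩
  haveI : QuasiCompact G.t := by rw [← G.i_s]; infer_instance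
  let k := G.U.fromSpecResidueField z
  haveI : LocallyQuasiFinite (k ≫ G.pU) := by
    let τ := G.pU z
    let kτ : Spec (G.U.residueField z) ⟶ G.pU.fiber τ :=
      pullback.lift k (Spec.map (G.pU.residueFieldMap z))
        (Scheme.Hom.SpecMap_residueFieldMap_fromSpecResidueField G.pU z).symm
    haveI : LocallyOfFiniteType (G.pU.fiberToSpecResidueField τ) :=
      MorphismProperty.pullback_snd G.pU (S.fromSpecResidueField τ) inferInstance
    haveI : IsImmersion kτ := by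
      have hk : kτ ≫ G.pU.fiberι τ = k := pullback.lift_fst _ _ _
      haveI : IsPreimmersion (kτ ≫ G.pU.fiberι τ) := hk ▸ inferInstance
      haveI : IsPreimmersion kτ := IsPreimmersion.of_comp kτ (G.pU.fiberι τ)
      refine { toIsPreimmersion := inferInstance, isLocallyClosed_range := ?_ }
      have h1 : Set.range kτ = {G.pU.asFiber z} := by
        refine Set.Subsingleton.eq_singleton_of_mem ?_ ⟨IsLocalRing.closedPoint _, ?_⟩
        · rintro _ ⟨a, rfl⟩ _ ⟨b, rfl⟩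
          exact congrArg kτ (Subsingleton.elim (α := PrimeSpectrum (G.U.residueField z)) a b)
        · apply (G.pU.fiberι τ).isEmbedding.injective
          rw [G.pU.fiberι_asFiber, ← Scheme.Hom.comp_apply, hk, Scheme.fromSpecResidueField_apply]
      rw [h1]
      refine IsClosed.isLocallyClosed (isClosed_of_closure_subset fun w hw => ?_)
      apply (G.pU.fiberι τ).isEmbedding.injective
      rw [G.pU.fiberι_asFiber]
      refine hz _ ?_ ?_
      · have := (specializes_iff_mem_closure.2 hw).map (G.pU.fiberι τ).continuous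
        rwa [G.pU.fiberι_asFiber] at this
      · have : G.pU.fiberι τ w ∈ Set.range (G.pU.fiberι τ) := ⟨w, rfl⟩
        rwa [G.pU.range_fiberι] at this
    haveI : LocallyOfFiniteType (Spec.map (G.pU.residueFieldMap z)) := by
      rw [show Spec.map (G.pU.residueFieldMap z) = kτ ≫ G.pU.fiberToSpecResidueField τ from
        (pullback.lift_snd _ _ _).symm]
      infer_instance
    haveI : Subsingleton (Spec (G.U.residueField z)) :=
      inferInstanceAs (Subsingleton (PrimeSpectrum (G.U.residueField z)))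
    haveI : LocallyQuasiFinite (Spec.map (G.pU.residueFieldMap z)) := lqf_of_subsingleton _
    rw [show k ≫ G.pU = Spec.map (G.pU.residueFieldMap z) ≫ S.fromSpecResidueField (G.pU z) from
      (Scheme.Hom.SpecMap_residueFieldMap_fromSpecResidueField G.pU z).symm]
    infer_instance
  haveI : LocallyQuasiFinite k := LocallyQuasiFinite.of_comp k G.pU
  let a : pullback G.s k ⟶ pullback G.pU (k ≫ G.pU) :=
    pullback.lift (pullback.fst _ _ ≫ G.t) (pullback.snd _ _) (by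
      rw [Category.assoc, G.t_over, ← G.s_over, pullback.condition_assoc])
  let c : pullback G.pU (k ≫ G.pU) ⟶ pullback G.pU G.pU :=
    pullback.lift (pullback.fst _ _) (pullback.snd _ _ ≫ k) (by rw [Category.assoc, pullback.condition])
  have hac : a ≫ c = pullback.fst G.s k ≫ G.j := by
    apply pullback.hom_ext
    · simp only [a, c, Grpd.GroupoidScheme.j, Category.assoc, pullback.lift_fst]
    · simp only [a, c, Grpd.GroupoidScheme.j, Category.assoc, pullback.lift_snd, pullback.lift_snd_assoc,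
        pullback.condition]
  haveI : LocallyQuasiFinite (a ≫ c) := by rw [hac]; infer_instance
  haveI : LocallyQuasiFinite a := LocallyQuasiFinite.of_comp a c
  let m := pullback.fst G.s k ≫ G.t
  have hm : m = a ≫ pullback.fst _ _ := (pullback.lift_fst _ _ _).symm
  haveI : LocallyQuasiFinite m := by rw [hm]; infer_instance
  haveI : TopologicalSpace.NoetherianSpace (Spec (G.U.residueField z)) :=
    inferInstanceAs (TopologicalSpace.NoetherianSpace (PrimeSpectrum (G.U.residueField z)))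
  haveI : QuasiCompact k := inferInstance
  haveI : QuasiCompact m := inferInstance
  refine ((m.finite_preimage_singleton x).image (pullback.fst G.s k)).subset ?_
  rintro r ⟨hr1, hr2⟩
  obtain ⟨w, hw, -⟩ := Scheme.Pullback.exists_preimage_pullback (f := G.s) (g := k) r
    (IsLocalRing.closedPoint (G.U.residueField z)) (by rw [hr1, Scheme.fromSpecResidueField_apply])
  exact ⟨w, by simp only [Set.mem_preimage, Set.mem_singleton_iff, m, Scheme.Hom.comp_apply, hw, hr2], hw⟩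

/-- A proper flat groupoid on a quasi-projective scheme has quasi-sections near points closed in their fibres. -/
theorem exists_hasQS_proper (hU : RelProj.IsQuasiProjective G.pU) (z : G.U)
    (hz : ∀ z' : G.U, z ⤳ z' → G.pU z' = G.pU z → z' = z) :
    ∃ W : G.U.Opens, z ∈ W ∧ HasQS G W := by
  obtain ⟨hlft, hqc, L, hL⟩ := hU
  haveI := hlft
  haveI := hqc
  haveI : IsLocallyNoetherian G.U := LocallyOfFiniteType.isLocallyNoetherian G.pU
  haveI : IsIso G.i := ⟨G.i, L02.CMMor.i_i G, L02.CMMor.i_i G⟩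
  haveI : LocallyOfFinitePresentation G.s :=
    LocallyOfFinitePresentation.iff_locallyOfFiniteType.mpr inferInstance
  haveI : Flat G.t := by rw [← G.i_s]; infer_instance
  haveI : LocallyOfFinitePresentation G.t := by rw [← G.i_s]; infer_instance
  obtain ⟨_, ⟨V₀, hV₀, rfl⟩, hzV₀, -⟩ :=
    S.isBasis_affineOpens.exists_subset_of_mem_open (Set.mem_univ (G.pU z)) isOpen_univ
  change S.Opens at V₀
  replace hV₀ : IsAffineOpen V₀ := hV₀
  haveI : IsAffine V₀.toScheme := hV₀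
  haveI : IsLocallyNoetherian V₀.toScheme := isLocallyNoetherian_of_isOpenImmersion V₀.ι
  haveI : AlgebraicGeometry.IsNoetherian V₀.toScheme := {}
  let U₀ : G.U.Opens := G.pU ⁻¹ᵁ V₀
  have hU₀ : G.t ⁻¹ᵁ U₀ = G.s ⁻¹ᵁ U₀ := by
    rw [← Scheme.Hom.comp_preimage, ← Scheme.Hom.comp_preimage, G.t_over, G.s_over]
  let pX : U₀.toScheme ⟶ V₀.toScheme := G.pU ∣_ V₀
  let pY : (G.s ⁻¹ᵁ U₀).toScheme ⟶ V₀.toScheme := (G.s ∣_ U₀) ≫ pX
  let tR : (G.s ⁻¹ᵁ U₀).toScheme ⟶ U₀.toScheme := G.t.resLE U₀ (G.s ⁻¹ᵁ U₀) hU₀.ge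
  have htR : tR ≫ pX = pY := by
    rw [← cancel_mono V₀.ι]
    simp only [pY, pX, tR, Category.assoc, morphismRestrict_ι]
    rw [← Category.assoc, Scheme.Hom.resLE_comp_ι, Category.assoc, G.t_over, morphismRestrict_ι_assoc, G.s_over]
  haveI : LocallyOfFiniteType pX := IsZariskiLocalAtTarget.restrict (P := @LocallyOfFiniteType) inferInstance V₀
  haveI : QuasiCompact pX := IsZariskiLocalAtTarget.restrict (P := @QuasiCompact) inferInstance V₀
  haveI : IsProper (G.s ∣_ U₀) := IsZariskiLocalAtTarget.restrict (P := @IsProper) inferInstance U₀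
  haveI : Flat (G.s ∣_ U₀) := IsZariskiLocalAtTarget.restrict (P := @Flat) inferInstance U₀
  have hLamp : CohB1.IsAmple (L.restrict U₀.ι) := hL.2 ⟨V₀, hV₀⟩
  have hX : RelProj.IsQuasiProjective pX :=
    ⟨inferInstance, inferInstance, L.restrict U₀.ι, Groth.L18.Ample.isRelAmple_of_isAmple hLamp⟩
  let z₀ : U₀.toScheme := ⟨z, hzV₀⟩
  obtain ⟨F, i, hi, hfin, hne, hflat⟩ := exists_cutProj pX pY pX hX tR (G.s ∣_ U₀) htR rfl z₀
    ⟨⟨G.e z, show G.s (G.e z) ∈ U₀ by
      rw [← Scheme.Hom.comp_apply, G.e_s]; exact hzV₀⟩, Subtype.ext ((morphismRestrict_base_coe _ _ _).trans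
      (congrArg (fun m : G.U ⟶ G.U => m z) G.e_s))⟩
    (fun z' hs he => Subtype.ext (hz z'.1 (hs.map U₀.ι.continuous) (by
      exact (morphismRestrict_base_coe G.pU V₀ z').symm.trans
        ((congrArg Subtype.val he).trans (morphismRestrict_base_coe G.pU V₀ z₀)))))
    (fun y _ => Flat.stalkMap _ y)
  haveI := hi
  let u : F ⟶ G.U := i ≫ U₀.ι
  haveI : IsImmersion u := inferInstance
  haveI : LocallyOfFinitePresentation u :=
    LocallyOfFinitePresentation.iff_locallyOfFiniteType.mpr inferInstance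
  let σ := slc G u
  -- the slice is the slice over the chart
  let m : pullback i tR ⟶ pullback u G.t :=
    pullback.map _ _ _ _ (𝟙 F) (G.s ⁻¹ᵁ U₀).ι U₀.ι (by simp [u]) (Scheme.Hom.resLE_comp_ι _ _)
  haveI : IsOpenImmersion m := by
    haveI : Mono U₀.ι := inferInstance
    exact inferInstanceAs (IsOpenImmersion (pullback.map _ _ _ _ _ _ _ _ _))
  have hm : m ≫ σ = (pullback.snd i tR ≫ (G.s ∣_ U₀)) ≫ U₀.ι := by
    simp only [m, σ, slc, pullback.map, pullback.lift_snd_assoc, Category.assoc, morphismRestrict_ι]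
  haveI : Surjective m := ⟨fun w => by
    show w ∈ Set.range m
    rw [Scheme.Pullback.range_map]
    refine ⟨⟨pullback.fst u G.t w, rfl⟩, ?_⟩
    rw [Scheme.Opens.range_ι]
    show pullback.snd u G.t w ∈ G.s ⁻¹ᵁ U₀
    rw [← hU₀]
    show G.t (pullback.snd u G.t w) ∈ U₀
    rw [← Scheme.Hom.comp_apply, ← pullback.condition, Scheme.Hom.comp_apply]
    exact (i (pullback.fst u G.t w)).2⟩
  haveI : IsIso m := (isIso_iff_isOpenImmersion_and_surjective m).2 ⟨inferInstance, inferInstance⟩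
  let σ₀ := pullback.snd i tR ≫ (G.s ∣_ U₀)
  have hrange : ∀ w, σ w ∈ U₀ := fun w => by
    obtain ⟨w, rfl⟩ := m.surjective w
    rw [← Scheme.Hom.comp_apply, hm]
    exact (σ₀ w).2
  -- finitely many points over z, all good
  have hpts : ∀ w, σ₀ w = z₀ → ((σ₀.stalkMap w).hom.Flat) := fun w hw => hflat w hw
  have hfib : (σ₀ ⁻¹' {z₀}).Finite := by
    let A : Set (G.s ⁻¹ᵁ U₀).toScheme := (tR ⁻¹' Set.range i) ∩ (G.s ∣_ U₀) ⁻¹' {z₀}
    have hA : A.Finite := by
      refine Set.Finite.of_finite_image ?_ (G.s ⁻¹ᵁ U₀).ι.isOpenEmbedding.injective.injOn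
      refine ((hfin.biUnion fun x _ => finite_arrows_closed G z hz (U₀.ι x))).subset ?_
      rintro _ ⟨y, hy, rfl⟩
      refine Set.mem_iUnion₂.2 ⟨tR y, ⟨y, hy, rfl⟩, ?_, ?_⟩
      · exact (morphismRestrict_base_coe G.s U₀ y).symm.trans (congrArg Subtype.val hy.2)
      · rw [← Scheme.Hom.comp_apply, ← Scheme.Hom.comp_apply, Scheme.Hom.resLE_comp_ι]
    refine (hA.preimage (pullback.snd i tR).isEmbedding.injective.injOn).subset fun w hw => ⟨?_, hw⟩
    exact ⟨pullback.fst i tR w, by rw [← Scheme.Hom.comp_apply, pullback.condition]; rfl⟩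
  haveI : IsProper σ₀ := inferInstance
  let good : (pullback i tR).Opens :=
    ⟨{w | (σ₀.stalkMap w).hom.Flat}, by
      haveI : LocallyOfFinitePresentation σ₀ :=
        LocallyOfFinitePresentation.iff_locallyOfFiniteType.mpr inferInstance
      exact Groth.L20.isOpen_flat_stalkMap σ₀⟩ ⊓ σ₀.quasiFiniteLocus
  let O : U₀.toScheme.Opens := ⟨(σ₀ '' (good : Set ↑(pullback i tR))ᶜ)ᶜ,
    (σ₀.isClosedMap _ good.isOpen.isClosed_compl).isOpen_compl⟩
  have hz₀O : z₀ ∈ O := fun ⟨w, hw, hwz⟩ => hw ⟨hpts w hwz,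
    Groth.L19.GenericFinite.quasiFiniteAt_of_finite_fibre σ₀ w (hwz.symm ▸ hfib)⟩
  have hgood : σ₀ ⁻¹ᵁ O ≤ good := fun w hw => by_contra fun h => hw ⟨w, h, rfl⟩
  have hOfin : IsFinite (σ₀ ∣_ O) ∧ Flat (σ₀ ∣_ O) := by
    haveI : IsProper (σ₀ ∣_ O) := IsZariskiLocalAtTarget.restrict (P := @IsProper) inferInstance O
    haveI : LocallyQuasiFinite (σ₀ ∣_ O) := by
      refine Groth.L19.GenericFinite.locallyQuasiFinite_of_forall _ fun w => ?_
      rw [← Scheme.Hom.quasiFiniteAt_comp_iff (g := O.ι), morphismRestrict_ι,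
        Scheme.Hom.quasiFiniteAt_comp_iff_of_isOpenImmersion]
      exact (hgood w.2).2
    refine ⟨IsFinite.of_isProper_of_locallyQuasiFinite _, (Flat.iff_flat_stalkMap _).mpr fun w => ?_⟩
    exact (RingHom.Flat.respectsIso.arrow_mk_iso_iff (morphismRestrictStalkMap σ₀ O w)).mpr (hgood w.2).1
  -- transport to the slice
  let O' : G.U.Opens := U₀.ι ''ᵁ O
  have hO' : IsFinite (σ ∣_ O') ∧ Flat (σ ∣_ O') := by
    have key : ∀ (P : MorphismProperty Scheme.{u}) [P.RespectsIso], P (σ₀ ∣_ O) → P (σ ∣_ O') := by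
      intro P _ h
      refine (restrict_iff m σ hm O' fun x _ => m.surjective x).1 ?_
      rw [morphismRestrict_comp]
      haveI : IsIso (U₀.ι ∣_ O') := (isIso_iff_isOpenImmersion_and_surjective _).mpr
        ⟨inferInstance, ⟨fun x => by
          obtain ⟨y, hy, hyx⟩ := x.2
          exact ⟨⟨y, ⟨y, hy, rfl⟩⟩, Subtype.ext ((morphismRestrict_base_coe _ _ _).trans hyx)⟩⟩⟩
      refine (MorphismProperty.cancel_right_of_respectsIso P (σ₀ ∣_ U₀.ι ⁻¹ᵁ O') _).2 ?_
      rwa [show U₀.ι ⁻¹ᵁ O' = O from U₀.ι.preimage_image_eq O]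
    exact ⟨key @IsFinite hOfin.1, key @Flat hOfin.2⟩
  -- the largest saturated open where the slice is finite flat
  let Wf : G.U.Opens := ⨆ V : {V : G.U.Opens // IsFinite (σ ∣_ V)}, V.1
  let Wl : G.U.Opens := ⨆ V : {V : G.U.Opens // Flat (σ ∣_ V)}, V.1
  have hWf : IsFinite (σ ∣_ Wf) := restrict_iSup (P := @IsFinite) σ _ fun V => V.2
  have hWl : Flat (σ ∣_ Wl) := restrict_iSup (P := @Flat) σ _ fun V => V.2
  haveI : MorphismProperty.IsLocalAtTarget @IsFinite Scheme.fppfPrecoverage.{u} :=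
    Groth.L23.isLocalAtTarget_fppf _
  haveI : MorphismProperty.IsLocalAtTarget @Flat Scheme.fppfPrecoverage.{u} :=
    Groth.L23.isLocalAtTarget_fppf _
  have hmem : ∀ (b : G.R ⟶ G.U) [Flat b] [LocallyOfFinitePresentation b], G.e ≫ b = 𝟙 G.U →
      Presieve.singleton b ∈ Scheme.fppfPrecoverage G.U := fun b _ _ he => by
    haveI : Surjective b := ⟨fun x => ⟨G.e x, congrArg (fun m : G.U ⟶ G.U => m x) he⟩⟩
    exact b.singleton_mem_fppfPrecoverage
  obtain ⟨p₁, hp₁, hp₁', hsq⟩ := L02.Grpd.exists_isPullback_shear G u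
  have hWfsat : G.t ⁻¹ᵁ Wf = G.s ⁻¹ᵁ Wf :=
    L02.Grpd.preimage_eq_of_topology Scheme.fppfPrecoverage (Or.inr (Or.inr (Or.inr rfl))) @IsFinite σ G.t G.s
      (hmem G.t G.e_t) (hmem G.s G.e_s) p₁ hsq Wf hWf
      (fun V hV => le_iSup (fun V : {V : G.U.Opens // IsFinite (σ ∣_ V)} => V.1) ⟨V, hV⟩)
  have hWlsat : G.t ⁻¹ᵁ Wl = G.s ⁻¹ᵁ Wl :=
    L02.Grpd.preimage_eq_of_topology Scheme.fppfPrecoverage (Or.inr (Or.inr (Or.inr rfl))) @Flat σ G.t G.s
      (hmem G.t G.e_t) (hmem G.s G.e_s) p₁ hsq Wl hWl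
      (fun V hV => le_iSup (fun V : {V : G.U.Opens // Flat (σ ∣_ V)} => V.1) ⟨V, hV⟩)
  let W₂ := Wf ⊓ Wl
  have hW₂ : IsFinite (σ ∣_ W₂) ∧ Flat (σ ∣_ W₂) := by
    have res : ∀ (P : MorphismProperty Scheme.{u}) [IsZariskiLocalAtTarget P] (V : G.U.Opens),
        P (σ ∣_ V) → W₂ ≤ V → P (σ ∣_ W₂) := by
      intro P _ V h hle
      refine (MorphismProperty.arrow_mk_iso_iff P (morphismRestrictRestrict σ _ _ ≪≫
        eqToIso (by rw [Scheme.Hom.image_preimage_eq_opensRange_inf, Scheme.Opens.opensRange_ι,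
          inf_eq_right.mpr hle]))).mp (IsZariskiLocalAtTarget.restrict (P := P) h (V.ι ⁻¹ᵁ W₂))
    exact ⟨res @IsFinite Wf hWf inf_le_left, res @Flat Wl hWl inf_le_right⟩
  haveI := hW₂.2
  haveI : LocallyOfFinitePresentation (σ ∣_ W₂) :=
    IsZariskiLocalAtTarget.restrict (P := @LocallyOfFinitePresentation) inferInstance _
  -- the open saturation of the good part
  let W : G.U.Opens := W₂.ι ''ᵁ ⟨Set.range (σ ∣_ W₂), (σ ∣_ W₂).isOpenMap.isOpen_range⟩
  have hWle : W ≤ W₂ := fun x ⟨y, _, hy⟩ => hy ▸ y.2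
  have hmemW : ∀ x : G.U, x ∈ W ↔ x ∈ W₂ ∧ x ∈ Set.range σ := by
    intro x
    constructor
    · rintro ⟨y, ⟨w, rfl⟩, rfl⟩
      refine ⟨(σ ∣_ W₂) w |>.2, w.1, ?_⟩
      exact (morphismRestrict_base_coe σ W₂ w).symm
    · rintro ⟨hx, w, rfl⟩
      exact ⟨(σ ∣_ W₂) ⟨w, hx⟩, ⟨_, rfl⟩, morphismRestrict_base_coe σ W₂ _⟩
  have hsatrange : ∀ r : G.R, G.t r ∈ Set.range σ ↔ G.s r ∈ Set.range σ := by
    intro r
    constructor
    · rintro ⟨w, hw⟩
      obtain ⟨x, hx, hx'⟩ := Scheme.Pullback.exists_preimage_pullback (f := σ) (g := G.t) w r hw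
      refine ⟨p₁ x, ?_⟩
      rw [← Scheme.Hom.comp_apply, hsq.w, Scheme.Hom.comp_apply]
      exact congrArg G.s hx'
    · rintro ⟨w, hw⟩
      obtain ⟨x, hx, hx'⟩ := Scheme.Pullback.exists_preimage_pullback (f := σ) (g := G.s) w r hw
      refine ⟨pullback.fst σ G.t (hsq.isoPullback.inv x), ?_⟩
      rw [← Scheme.Hom.comp_apply, pullback.condition, Scheme.Hom.comp_apply]
      refine congrArg G.t ?_
      rw [← Scheme.Hom.comp_apply, hsq.isoPullback_inv_snd]
      exact hx'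
  have hW₂sat : G.t ⁻¹ᵁ W₂ = G.s ⁻¹ᵁ W₂ := by
    show G.t ⁻¹ᵁ Wf ⊓ G.t ⁻¹ᵁ Wl = G.s ⁻¹ᵁ Wf ⊓ G.s ⁻¹ᵁ Wl
    rw [hWfsat, hWlsat]
  have hWsat : G.t ⁻¹ᵁ W = G.s ⁻¹ᵁ W := by
    ext r
    show G.t r ∈ W ↔ G.s r ∈ W
    rw [hmemW, hmemW, hsatrange r]
    exact and_congr_left' (SetLike.ext_iff.1 hW₂sat r)
  refine ⟨W, (hmemW z).2 ⟨?_, ?_⟩, hWsat, (u ⁻¹ᵁ W).toScheme, (u ⁻¹ᵁ W).ι ≫ u, inferInstance,
    finAff_opens (finAff_affineHom i (finAff_of_isAmple hLamp)) _, ?_, ?_, ?_⟩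
  · exact ⟨le_iSup (fun V : {V : G.U.Opens // IsFinite (σ ∣_ V)} => V.1) ⟨O', hO'.1⟩ ⟨z₀, hz₀O, rfl⟩,
      le_iSup (fun V : {V : G.U.Opens // Flat (σ ∣_ V)} => V.1) ⟨O', hO'.2⟩ ⟨z₀, hz₀O, rfl⟩⟩
  · obtain ⟨_, y, ⟨⟨a, ha⟩, hy⟩, rfl⟩ := hne
    obtain ⟨w, -, hw⟩ := Scheme.Pullback.exists_preimage_pullback (f := i) (g := tR) a y ha
    refine ⟨m w, ?_⟩
    rw [← Scheme.Hom.comp_apply, hm, Scheme.Hom.comp_apply, Scheme.Hom.comp_apply, hw, show (G.s ∣_ U₀) y = z₀ from hy]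
    rfl
  · rintro _ ⟨x, rfl⟩
    exact x.2
  · refine (restrict_iff _ σ (slcMap_comp G _ u rfl) W fun w hw => range_slcMap G _ u rfl w ?_).2 ?_
    · rw [Scheme.Opens.range_ι]
      exact (slc_mem_iff G hWsat u w).1 hw
    · refine ⟨⟨?_, ?_⟩, IsZariskiLocalAtTarget.restrict (P := @LocallyOfFinitePresentation) inferInstance _⟩
      · refine (MorphismProperty.arrow_mk_iso_iff @IsFinite (morphismRestrictRestrict σ _ _ ≪≫
          eqToIso (by rw [Scheme.Hom.image_preimage_eq_opensRange_inf, Scheme.Opens.opensRange_ι,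
            inf_eq_right.mpr hWle]))).mp (IsZariskiLocalAtTarget.restrict (P := @IsFinite) hW₂.1 (W₂.ι ⁻¹ᵁ W))
      · refine (MorphismProperty.arrow_mk_iso_iff @Flat (morphismRestrictRestrict σ _ _ ≪≫
          eqToIso (by rw [Scheme.Hom.image_preimage_eq_opensRange_inf, Scheme.Opens.opensRange_ι,
            inf_eq_right.mpr hWle]))).mp (IsZariskiLocalAtTarget.restrict (P := @Flat) hW₂.2 (W₂.ι ⁻¹ᵁ W))
  · refine subset_antisymm ?_ ?_
    · rintro _ ⟨x, rfl⟩
      exact (slc_mem_iff G hWsat _ x).2 (pullback.fst ((u ⁻¹ᵁ W).ι ≫ u) G.t x).2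
    · rintro x hx
      obtain ⟨-, w, rfl⟩ := (hmemW x).1 hx
      obtain ⟨x', hx'⟩ := range_slcMap G (u ⁻¹ᵁ W).ι u rfl w (by
        rw [Scheme.Opens.range_ι]; exact (slc_mem_iff G hWsat u w).1 hx)
      exact ⟨x', by rw [← slcMap_comp G (u ⁻¹ᵁ W).ι u rfl, Scheme.Hom.comp_apply, hx']⟩

end Groth.L24.GenQuot
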