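import Groth.Agent.L24.GenQuot.Locus
import Groth.Agent.L24.Quot.Invariant
import Groth.Agent.L02.Grpd.Invariant
import Groth.Agent.L23.AffineMor
import Groth.Agent.L23.Cover
import Groth.Agent.L23.SchemeGen
import Groth.Agent.L19.GenericFinite
import Groth.Prelude.Def_Mor2

/-!
# Quasi-sections over saturated opens
-/

set_option autoImplicit false
set_option linter.style.haveILetI false
set_option backward.isDefEq.respectTransparency.types false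
universe u

open CategoryTheory CategoryTheory.Limits AlgebraicGeometry

namespace Groth.L24.GenQuot

/-- Finite, flat and locally of finite presentation. -/
abbrev flfMor : MorphismProperty Scheme.{u} := @IsFinite ⊓ @Flat ⊓ @LocallyOfFinitePresentation

/-- Restriction over an open only sees the part over it. -/
theorem restrict_iff {P : MorphismProperty Scheme.{u}} [P.RespectsIso] {X X' Y : Scheme.{u}}
    (j : X' ⟶ X) [IsOpenImmersion j] (f : X ⟶ Y) {f' : X' ⟶ Y} (hf : j ≫ f = f') (W : Y.Opens)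
    (hW : ∀ x, f x ∈ W → x ∈ Set.range j) : P (f' ∣_ W) ↔ P (f ∣_ W) := by
  subst hf
  rw [morphismRestrict_comp]
  haveI hiso : IsIso (j ∣_ f ⁻¹ᵁ W) := (isIso_iff_isOpenImmersion_and_surjective _).mpr
    ⟨inferInstance, ⟨fun x => by
      obtain ⟨y, hy⟩ := hW x.1 x.2
      exact ⟨⟨y, show j y ∈ f ⁻¹ᵁ W from hy.symm ▸ x.2⟩, Subtype.ext ((morphismRestrict_base_coe j _ _).trans hy)⟩⟩⟩
  exact P.cancel_left_of_respectsIso (j ∣_ f ⁻¹ᵁ W) (f ∣_ W)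

/-- A property local on the target holds over a union of opens. -/
theorem restrict_iSup {P : MorphismProperty Scheme.{u}} [IsZariskiLocalAtTarget P] {X Y : Scheme.{u}}
    (f : X ⟶ Y) {ι : Type*} (V : ι → Y.Opens) (h : ∀ i, P (f ∣_ V i)) : P (f ∣_ ⨆ i, V i) := by
  refine (IsZariskiLocalAtTarget.iff_of_iSup_eq_top (P := P) (fun i => (⨆ i, V i).ι ⁻¹ᵁ V i) ?_).2 fun i => ?_
  · rw [← Scheme.Hom.preimage_iSup, eq_top_iff]
    exact fun x _ => x.2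
  · refine (P.arrow_mk_iso_iff (morphismRestrictRestrict f _ _ ≪≫ eqToIso ?_)).2 (h i)
    rw [Scheme.Hom.image_preimage_eq_opensRange_inf, Scheme.Opens.opensRange_ι,
      inf_eq_right.mpr (le_iSup V i)]

instance : IsZariskiLocalAtTarget flfMor.{u} := inferInstance

theorem isFinLocFree_iff {X Y : Scheme.{u}} (f : X ⟶ Y) : Mor2.IsFinLocFree f ↔ flfMor f :=
  ⟨fun h => ⟨⟨h.1, h.2.1⟩, h.2.2⟩, fun h => ⟨h.1.1, h.1.2, h.2⟩⟩

variable {S : Scheme.{u}} (G : Grpd.GroupoidScheme S)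

/-- A quasi-section over a saturated open. -/
def HasQS (W : G.U.Opens) : Prop :=
  G.t ⁻¹ᵁ W = G.s ⁻¹ᵁ W ∧ ∃ (U' : Scheme.{u}) (u : U' ⟶ G.U), IsImmersion u ∧ FinAff U' ∧
    Set.range u ⊆ W ∧ flfMor (slc G u ∣_ W) ∧ Set.range (slc G u) = W

theorem slc_mem_iff {W : G.U.Opens} (hW : G.t ⁻¹ᵁ W = G.s ⁻¹ᵁ W) {U' : Scheme.{u}} (u : U' ⟶ G.U)
    (w : ↑(pullback u G.t)) : slc G u w ∈ W ↔ u (pullback.fst u G.t w) ∈ W := by
  rw [Scheme.Hom.comp_apply, ← Scheme.Hom.comp_apply, ← Scheme.Hom.comp_apply, pullback.condition]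
  exact (SetLike.ext_iff.1 hW (pullback.snd u G.t w)).symm

/-- A slice transported along an open immersion of sources. -/
noncomputable def slcMap {U' U'' : Scheme.{u}} (i : U'' ⟶ U') (u : U' ⟶ G.U) {u' : U'' ⟶ G.U}
    (h : i ≫ u = u') : pullback u' G.t ⟶ pullback u G.t :=
  pullback.map _ _ _ _ i (𝟙 _) (𝟙 _) (by simp [h]) (by simp)

theorem slcMap_comp {U' U'' : Scheme.{u}} (i : U'' ⟶ U') (u : U' ⟶ G.U) {u' : U'' ⟶ G.U}
    (h : i ≫ u = u') : slcMap G i u h ≫ slc G u = slc G u' := by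
  simp only [slcMap, slc, pullback.map, pullback.lift_snd_assoc, Category.assoc, Category.id_comp]

instance {U' U'' : Scheme.{u}} (i : U'' ⟶ U') [IsOpenImmersion i] (u : U' ⟶ G.U) {u' : U'' ⟶ G.U}
    (h : i ≫ u = u') : IsOpenImmersion (slcMap G i u h) := by
  unfold slcMap; infer_instance

theorem range_slcMap {U' U'' : Scheme.{u}} (i : U'' ⟶ U') (u : U' ⟶ G.U) {u' : U'' ⟶ G.U}
    (h : i ≫ u = u') (w : ↑(pullback u G.t))
    (hw : pullback.fst u G.t w ∈ Set.range i) : w ∈ Set.range (slcMap G i u h) := by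
  rw [slcMap, Scheme.Pullback.range_map]
  exact ⟨hw, ⟨_, rfl⟩⟩

theorem finAff_coprod {X Y : Scheme.{u}} (hX : FinAff X) (hY : FinAff Y) : FinAff (X ⨿ Y : Scheme.{u}) := by
  intro E hE
  obtain ⟨A, hA, hEA⟩ := hX ((coprod.inl : X ⟶ X ⨿ Y) ⁻¹' E)
    (hE.preimage (coprod.inl : X ⟶ X ⨿ Y).isOpenEmbedding.injective.injOn)
  obtain ⟨B, hB, hEB⟩ := hY ((coprod.inr : Y ⟶ X ⨿ Y) ⁻¹' E)
    (hE.preimage (coprod.inr : Y ⟶ X ⨿ Y).isOpenEmbedding.injective.injOn)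
  let V : Bool → (X ⨿ Y : Scheme.{u}).Opens := fun b =>
    bif b then (coprod.inl : X ⟶ X ⨿ Y) ''ᵁ A else (coprod.inr : Y ⟶ X ⨿ Y) ''ᵁ B
  have hd : Disjoint (V true) (V false) := by
    rw [disjoint_iff_inf_le]
    rintro z ⟨⟨a, -, rfl⟩, b, -, h⟩
    exact absurd h.symm ((inl_ne_inr _ _ a b))
  refine ⟨⨆ b, V b, IsAffineOpen.iSup_of_disjoint (fun b => ?_) ?_, fun z hz => ?_⟩
  · cases b
    · exact hB.image_of_isOpenImmersion _
    · exact hA.image_of_isOpenImmersion _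
  · intro a b hab
    cases a <;> cases b <;> first | exact absurd rfl hab | exact hd | exact hd.symm
  · obtain ⟨(a | b), rfl⟩ := (coprodMk X Y).surjective z
    · rw [coprodMk_inl] at hz ⊢
      exact TopologicalSpace.Opens.mem_iSup.2 ⟨true, a, hEA hz, rfl⟩
    · rw [coprodMk_inr] at hz ⊢
      exact TopologicalSpace.Opens.mem_iSup.2 ⟨false, b, hEB hz, rfl⟩

/-- Quasi-sections over disjoint saturated opens combine. -/
theorem hasQS_sup {W₁ W₂ : G.U.Opens} (h₁ : HasQS G W₁) (h₂ : HasQS G W₂) (hd : Disjoint W₁ W₂) :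
    HasQS G (W₁ ⊔ W₂) := by
  obtain ⟨hW₁, U₁, u₁, _, ha₁, hu₁, hσ₁, hr₁⟩ := h₁
  obtain ⟨hW₂, U₂, u₂, _, ha₂, hu₂, hσ₂, hr₂⟩ := h₂
  let u : (U₁ ⨿ U₂ : Scheme.{u}) ⟶ G.U := coprod.desc u₁ u₂
  let W : Bool → G.U.Opens := fun b => bif b then W₁ else W₂
  have hsup : W₁ ⊔ W₂ = ⨆ b, W b := sup_eq_iSup W₁ W₂
  have hsat : G.t ⁻¹ᵁ (W₁ ⊔ W₂) = G.s ⁻¹ᵁ (W₁ ⊔ W₂) := by
    rw [Scheme.Hom.preimage_sup, Scheme.Hom.preimage_sup, hW₁, hW₂]
  have hl : (coprod.inl : U₁ ⟶ U₁ ⨿ U₂) ≫ u = u₁ := coprod.inl_desc _ _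
  have hr : (coprod.inr : U₂ ⟶ U₁ ⨿ U₂) ≫ u = u₂ := coprod.inr_desc _ _
  have hcase : ∀ x, (u x ∈ W₁ → x ∈ Set.range (coprod.inl : U₁ ⟶ U₁ ⨿ U₂)) ∧
      (u x ∈ W₂ → x ∈ Set.range (coprod.inr : U₂ ⟶ U₁ ⨿ U₂)) ∧ (u x ∈ W₁ ∨ u x ∈ W₂) := by
    intro x
    obtain ⟨(a | b), rfl⟩ := (coprodMk U₁ U₂).surjective x
    · rw [coprodMk_inl, ← Scheme.Hom.comp_apply, hl]
      exact ⟨fun _ => ⟨a, rfl⟩, fun h => absurd h (fun h => (hd.le_bot ⟨hu₁ ⟨a, rfl⟩, h⟩).elim),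
        .inl (hu₁ ⟨a, rfl⟩)⟩
    · rw [coprodMk_inr, ← Scheme.Hom.comp_apply, hr]
      exact ⟨fun h => absurd h (fun h => (hd.le_bot ⟨h, hu₂ ⟨b, rfl⟩⟩).elim), fun _ => ⟨b, rfl⟩,
        .inr (hu₂ ⟨b, rfl⟩)⟩
  haveI : IsImmersion (u ∣_ (W₁ ⊔ W₂)) := by
    rw [hsup]
    refine restrict_iSup u W fun b => ?_
    cases b
    · refine (restrict_iff (coprod.inr : U₂ ⟶ U₁ ⨿ U₂) u hr W₂ fun x => (hcase x).2.1).1 ?_
      exact IsZariskiLocalAtTarget.restrict (P := @IsImmersion) inferInstance _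
    · refine (restrict_iff (coprod.inl : U₁ ⟶ U₁ ⨿ U₂) u hl W₁ fun x => (hcase x).1).1 ?_
      exact IsZariskiLocalAtTarget.restrict (P := @IsImmersion) inferInstance _
  haveI : IsImmersion u := by
    have htop : u ⁻¹ᵁ (W₁ ⊔ W₂) = ⊤ := eq_top_iff.2 fun x _ => (hcase x).2.2
    have hue : (U₁ ⨿ U₂ : Scheme.{u}).topIso.inv ≫ (U₁ ⨿ U₂ : Scheme.{u}).homOfLE htop.ge ≫ (u ∣_ (W₁ ⊔ W₂)) ≫ (W₁ ⊔ W₂).ι = u := by
      rw [morphismRestrict_ι, Scheme.homOfLE_ι_assoc, ← Scheme.topIso_hom, Iso.inv_hom_id_assoc]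
    haveI : IsIso ((U₁ ⨿ U₂ : Scheme.{u}).homOfLE htop.ge) := by
      rw [← Scheme.isoOfEq_hom _ htop.symm]
      infer_instance
    rw [← hue]
    infer_instance
  have hm₁ : ∀ w, slc G u w ∈ W₁ → w ∈ Set.range (slcMap G (coprod.inl : U₁ ⟶ U₁ ⨿ U₂) u hl) := fun w hw =>
    range_slcMap G _ u hl w ((hcase _).1 ((slc_mem_iff G hW₁ u w).1 hw))
  have hm₂ : ∀ w, slc G u w ∈ W₂ → w ∈ Set.range (slcMap G (coprod.inr : U₂ ⟶ U₁ ⨿ U₂) u hr) := fun w hw =>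
    range_slcMap G _ u hr w ((hcase _).2.1 ((slc_mem_iff G hW₂ u w).1 hw))
  refine ⟨hsat, _, u, inferInstance, finAff_coprod ha₁ ha₂, ?_, ?_, ?_⟩
  · rintro _ ⟨x, rfl⟩
    exact (hcase x).2.2
  · rw [hsup]
    refine restrict_iSup _ W fun b => ?_
    cases b
    · refine (restrict_iff _ (slc G u) (slcMap_comp G _ u hr) W₂ hm₂).1 ?_
      exact hσ₂
    · refine (restrict_iff _ (slc G u) (slcMap_comp G _ u hl) W₁ hm₁).1 ?_
      exact hσ₁
  · refine subset_antisymm ?_ ?_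
    · rintro _ ⟨w, rfl⟩
      exact (slc_mem_iff G hsat u w).2 (hcase _).2.2
    · rintro x (hx | hx)
      · rw [← hr₁] at hx
        obtain ⟨w, rfl⟩ := hx
        exact ⟨_, congrArg (fun m => m w) (slcMap_comp G (coprod.inl : U₁ ⟶ U₁ ⨿ U₂) u hl)⟩
      · rw [← hr₂] at hx
        obtain ⟨w, rfl⟩ := hx
        exact ⟨_, congrArg (fun m => m w) (slcMap_comp G (coprod.inr : U₂ ⟶ U₁ ⨿ U₂) u hr)⟩

variable [AlgebraicGeometry.IsNoetherian S] [LocallyOfFiniteType G.pU] [QuasiCompact G.pU]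
  [Flat G.s] [LocallyOfFiniteType G.s] [QuasiCompact G.s] [LocallyQuasiFinite G.j]

/-- Every nonempty saturated open contains a nonempty one with a quasi-section. -/
theorem exists_hasQS (O : G.U.Opens) (hO : G.t ⁻¹ᵁ O = G.s ⁻¹ᵁ O) (hne : (O : Set G.U).Nonempty) :
    ∃ W ≤ O, (W : Set G.U).Nonempty ∧ HasQS G W := by
  haveI := isNoetherian_U G
  haveI : IsIso G.i := ⟨G.i, L02.CMMor.i_i G, L02.CMMor.i_i G⟩
  haveI : LocallyOfFinitePresentation G.s :=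
    LocallyOfFinitePresentation.iff_locallyOfFiniteType.mpr inferInstance
  haveI : Flat G.t := by rw [← G.i_s]; infer_instance
  haveI : LocallyOfFinitePresentation G.t := by rw [← G.i_s]; infer_instance
  obtain ⟨U', u, _, haff, hrange, _, _, ⟨w₀⟩⟩ := exists_flat_qf_slice G O hne
  haveI : LocallyOfFinitePresentation u :=
    LocallyOfFinitePresentation.iff_locallyOfFiniteType.mpr inferInstance
  haveI : TopologicalSpace.NoetherianSpace U' := u.isEmbedding.isInducing.noetherianSpace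
  haveI : QuasiCompact u := inferInstance
  let σ := slc G u
  haveI : UniversallyOpen σ := inferInstance
  let W₁ : G.U.Opens := ⟨Set.range σ, σ.isOpenMap.isOpen_range⟩
  obtain ⟨p₁, hp₁, hp₁', hsq⟩ := L02.Grpd.exists_isPullback_shear G u
  have hW₁ : G.t ⁻¹ᵁ W₁ = G.s ⁻¹ᵁ W₁ := by
    ext r
    constructor
    · rintro ⟨w, hw⟩
      obtain ⟨x, hx, hx'⟩ := Scheme.Pullback.exists_preimage_pullback (f := σ) (g := G.t) w r hw
      refine ⟨p₁ x, ?_⟩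
      rw [← Scheme.Hom.comp_apply, hsq.w, Scheme.Hom.comp_apply]
      exact congrArg G.s hx'
    · rintro ⟨w, hw⟩
      obtain ⟨x, hx, hx'⟩ := Scheme.Pullback.exists_preimage_pullback (f := σ) (g := G.s) w r hw
      refine ⟨pullback.fst σ G.t (hsq.isoPullback.inv x), ?_⟩
      rw [← Scheme.Hom.comp_apply, pullback.condition, Scheme.Hom.comp_apply]
      refine congrArg G.t ?_
      rw [← Scheme.Hom.comp_apply, hsq.isoPullback_inv_snd]
      exact hx'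
  have hW₁O : W₁ ≤ O := by
    rintro _ ⟨w, rfl⟩
    exact (slc_mem_iff G hO u w).2 (hrange ⟨_, rfl⟩)
  obtain ⟨η, hη, hηw⟩ := Groth.L19.GenericIso.exists_generic_specializes (σ w₀)
  have hmin : ∀ y : G.U, y ⤳ η → y = η := fun y hy => Groth.L19.GenericIso.eq_of_specializes hη hy
  have hηW₁ : η ∈ W₁ := hηw.mem_open W₁.2 ⟨w₀, rfl⟩
  have hfin : (σ ⁻¹' {η}).Finite := σ.finite_preimage_singleton η
  haveI : IsLocallyNoetherian (pullback u G.t) := LocallyOfFiniteType.isLocallyNoetherian σ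
  obtain ⟨A, hA, hfA, -⟩ := Groth.L23.Gen.exists_affine_of_finite hfin (fun w hw y hy => by
    have e : σ y = σ w := (hmin (σ y) ((hy.map σ.continuous).trans (specializes_of_eq hw))).trans hw.symm
    exact Groth.L19.GenericFinite.eq_of_specializes_of_quasiFiniteAt σ (σ.quasiFiniteAt y) hy e) ⊤ (fun _ _ => trivial)
  obtain ⟨V, -, hηV, hV⟩ := Groth.L19.GenericFinite.exists_affine_nhd_isFinite σ hmin hfin A hA hfA
  let Wm : G.U.Opens := ⨆ V : {V : G.U.Opens // IsFinite (σ ∣_ V)}, V.1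
  have hWm : IsFinite (σ ∣_ Wm) := restrict_iSup (P := @IsFinite) σ _ fun V => V.2
  haveI : MorphismProperty.IsLocalAtTarget @IsFinite Scheme.fppfPrecoverage.{u} :=
    Groth.L23.isLocalAtTarget_fppf _
  have hmem : ∀ (b : G.R ⟶ G.U) [Flat b] [LocallyOfFinitePresentation b], G.e ≫ b = 𝟙 G.U →
      Presieve.singleton b ∈ Scheme.fppfPrecoverage G.U := fun b _ _ he => by
    haveI : Surjective b := ⟨fun x => ⟨G.e x, congrArg (fun m : G.U ⟶ G.U => m x) he⟩⟩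
    exact b.singleton_mem_fppfPrecoverage
  have hWmsat : G.t ⁻¹ᵁ Wm = G.s ⁻¹ᵁ Wm :=
    L02.Grpd.preimage_eq_of_topology Scheme.fppfPrecoverage (Or.inr (Or.inr (Or.inr rfl))) @IsFinite σ G.t G.s
      (hmem G.t G.e_t) (hmem G.s G.e_s) p₁ hsq Wm hWm
      (fun V hV => le_iSup (fun V : {V : G.U.Opens // IsFinite (σ ∣_ V)} => V.1) ⟨V, hV⟩)
  let W := W₁ ⊓ Wm
  have hWsat : G.t ⁻¹ᵁ W = G.s ⁻¹ᵁ W := by
    show G.t ⁻¹ᵁ W₁ ⊓ G.t ⁻¹ᵁ Wm = G.s ⁻¹ᵁ W₁ ⊓ G.s ⁻¹ᵁ Wm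
    rw [hW₁, hWmsat]
  have hηWm : η ∈ Wm := le_iSup (fun V : {V : G.U.Opens // IsFinite (σ ∣_ V)} => V.1) ⟨V, hV⟩ hηV
  refine ⟨W, inf_le_left.trans hW₁O, ⟨η, hηW₁, hηWm⟩, hWsat, (u ⁻¹ᵁ W).toScheme, (u ⁻¹ᵁ W).ι ≫ u,
    inferInstance, fun E hE => ?_, ?_, ?_, ?_⟩
  · obtain ⟨A', hA', hEA⟩ := haff ((u ⁻¹ᵁ W).ι '' E) (hE.image _)
    obtain ⟨A'', hA'', hle, hEA'⟩ := Groth.L22.FinAff.exists_affine_le_finset hA' (u ⁻¹ᵁ W) _ (hE.image _) hEA
      (by rintro _ ⟨x, -, rfl⟩; exact x.2)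
    refine ⟨(u ⁻¹ᵁ W).ι ⁻¹ᵁ A'', hA''.preimage_of_isOpenImmersion _ ?_, fun x hx => hEA' ⟨x, hx, rfl⟩⟩
    rw [Scheme.Opens.opensRange_ι]
    exact hle.trans inf_le_right
  · rintro _ ⟨x, rfl⟩
    exact x.2
  · refine (restrict_iff _ σ (slcMap_comp G _ u rfl) W fun w hw => range_slcMap G _ u rfl w ?_).2 ?_
    · rw [Scheme.Opens.range_ι]
      exact (slc_mem_iff G hWsat u w).1 hw
    · refine ⟨⟨?_, IsZariskiLocalAtTarget.restrict (P := @Flat) inferInstance _⟩,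
        IsZariskiLocalAtTarget.restrict (P := @LocallyOfFinitePresentation) inferInstance _⟩
      have h := IsZariskiLocalAtTarget.restrict (P := @IsFinite) hWm (Wm.ι ⁻¹ᵁ W)
      refine (MorphismProperty.arrow_mk_iso_iff @IsFinite (morphismRestrictRestrict σ _ _ ≪≫
        eqToIso (by rw [Scheme.Hom.image_preimage_eq_opensRange_inf, Scheme.Opens.opensRange_ι,
          inf_eq_right.mpr (show W ≤ Wm from inf_le_right)]))).mp h
  · refine subset_antisymm ?_ ?_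
    · rintro _ ⟨x, rfl⟩
      exact (slc_mem_iff G hWsat _ x).2 (pullback.fst ((u ⁻¹ᵁ W).ι ≫ u) G.t x).2
    · rintro x hx
      obtain ⟨w, rfl⟩ := hx.1
      obtain ⟨x', hx'⟩ := range_slcMap G (u ⁻¹ᵁ W).ι u rfl w (by
        rw [Scheme.Opens.range_ι]; exact (slc_mem_iff G hWsat u w).1 hx)
      exact ⟨x', by rw [← slcMap_comp G (u ⁻¹ᵁ W).ι u rfl, Scheme.Hom.comp_apply, hx']⟩

/-- A saturated dense open has a quasi-section. -/
theorem exists_dense_hasQS : ∃ W : G.U.Opens, Dense (W : Set G.U) ∧ HasQS G W := by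
  haveI := isNoetherian_U G
  haveI : IsIso G.i := ⟨G.i, L02.CMMor.i_i G, L02.CMMor.i_i G⟩
  haveI : LocallyOfFinitePresentation G.s :=
    LocallyOfFinitePresentation.iff_locallyOfFiniteType.mpr inferInstance
  haveI : Flat G.t := by rw [← G.i_s]; infer_instance
  haveI : LocallyOfFinitePresentation G.t := by rw [← G.i_s]; infer_instance
  rcases isEmpty_or_nonempty G.U with hU | ⟨⟨x₀⟩⟩
  · refine ⟨⊤, by simp, rfl, ∅, Scheme.emptyTo _, inferInstance, fun E _ => ⟨⊥, isAffineOpen_bot _, fun x => x.elim⟩,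
      fun x ⟨y, _⟩ => y.elim, ?_, ?_⟩
    · haveI : IsEmpty ((⊤ : G.U.Opens).toScheme) := ⟨fun x => hU.elim x.1⟩
      haveI : IsEmpty (slc G (Scheme.emptyTo G.U) ⁻¹ᵁ (⊤ : G.U.Opens)).toScheme :=
        ⟨fun x => hU.elim (slc G (Scheme.emptyTo G.U) x.1)⟩
      exact ⟨⟨inferInstance, inferInstance⟩, inferInstance⟩
    · exact Set.eq_of_subset_of_subset (fun x _ => trivial) (fun x _ => hU.elim x)
  · obtain ⟨W₀, -, -, hW₀⟩ := exists_hasQS G ⊤ rfl ⟨x₀, trivial⟩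
    obtain ⟨W, hW, hmax⟩ := WellFounded.has_min (wellFounded_gt (α := G.U.Opens)) {W | HasQS G W} ⟨W₀, hW₀⟩
    refine ⟨W, ?_, hW⟩
    by_contra hd
    let O : G.U.Opens := ⟨(closure (W : Set G.U))ᶜ, isClosed_closure.isOpen_compl⟩
    have hO : (O : Set G.U).Nonempty := by
      rwa [dense_iff_closure_eq, ← Ne, ← Set.nonempty_compl] at hd
    have hOsat : G.t ⁻¹ᵁ O = G.s ⁻¹ᵁ O := by
      refine TopologicalSpace.Opens.ext ?_
      show G.t ⁻¹' (closure (W : Set G.U))ᶜ = G.s ⁻¹' (closure (W : Set G.U))ᶜ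
      rw [Set.preimage_compl, Set.preimage_compl, G.t.isOpenMap.preimage_closure_eq_closure_preimage G.t.continuous,
        G.s.isOpenMap.preimage_closure_eq_closure_preimage G.s.continuous]
      exact congrArg (fun s => (closure s)ᶜ) (congrArg SetLike.coe hW.1)
    obtain ⟨W', hW'O, ⟨x, hx⟩, hW'⟩ := exists_hasQS G O hOsat hO
    have hd' : Disjoint W W' := by
      rw [disjoint_iff_inf_le]
      exact fun y hy => (hW'O hy.2 (subset_closure hy.1)).elim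
    refine hmax _ (hasQS_sup G hW hW' hd') (lt_of_le_of_ne le_sup_left fun e => ?_)
    have : x ∈ W := e.ge (TopologicalSpace.Opens.mem_sup.2 (.inr hx))
    exact (hd'.le_bot ⟨this, hx⟩).elim

end Groth.L24.GenQuot
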