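import Groth.Agent.L24.GenQuot.Cut
import Groth.Agent.L20.FlatStalk
import Groth.Agent.L19.GenericFinite
import Groth.Prelude.Def_Grpd
import Groth.Agent.L02.CMMor.Groupoid
import Groth.Agent.L19.FlatComp
import Mathlib.AlgebraicGeometry.Morphisms.Immersion
import Mathlib.AlgebraicGeometry.Noetherian

/-!
# A subscheme which is flat and quasi-finite over the objects at one arrow
-/

set_option autoImplicit false
set_option linter.style.haveILetI false
set_option backward.isDefEq.respectTransparency.types false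
set_option backward.isDefEq.respectTransparency false
universe u

open CategoryTheory CategoryTheory.Limits AlgebraicGeometry

namespace Groth.L24.GenQuot

/-- Flatness of the local ring map of a quotient, from flatness of the quotient of the localization. -/
theorem flat_localRingHom_quotient {A B : Type u} [CommRing A] [CommRing B] [Algebra A B]
    (I : Ideal B) (q : Ideal B) [q.IsPrime] (q' : Ideal (B ⧸ I)) [q'.IsPrime]
    (hq : q'.comap (Ideal.Quotient.mk I) = q)
    (hflat : Module.Flat A (Localization.AtPrime q ⧸ I.map (algebraMap B (Localization.AtPrime q)))) :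
    (Localization.localRingHom (q'.comap (algebraMap A (B ⧸ I))) q' (algebraMap A (B ⧸ I)) rfl).Flat := by
  rw [Groth.L20.flat_localRingHom_iff]
  let L := Localization.AtPrime q ⧸ I.map (algebraMap B (Localization.AtPrime q))
  haveI : IsLocalization q'.primeCompl L := by
    have h : Algebra.algebraMapSubmonoid (B ⧸ I) q.primeCompl = q'.primeCompl := by
      ext x
      obtain ⟨x, rfl⟩ := Ideal.Quotient.mk_surjective x
      refine ⟨?_, fun hx => ⟨x, fun h' => hx (hq.ge h'), rfl⟩⟩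
      rintro ⟨y, hy, hyx⟩ hx
      apply hy
      exact hq.le (show Ideal.Quotient.mk I y ∈ q' from hyx ▸ hx)
    exact h ▸ (inferInstance : IsLocalization (Algebra.algebraMapSubmonoid (B ⧸ I) q.primeCompl) L)
  haveI : IsScalarTower A (B ⧸ I) L := IsScalarTower.of_algebraMap_eq fun _ => rfl
  let e : L ≃ₐ[B ⧸ I] Localization.AtPrime q' := IsLocalization.algEquiv q'.primeCompl _ _
  exact Module.Flat.of_linearEquiv (e.symm.toLinearEquiv.restrictScalars A)

variable {S : Scheme.{u}} (G : Grpd.GroupoidScheme S)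

/-- The source map of the arrows with target on a subscheme. -/
noncomputable abbrev slc {U' : Scheme.{u}} (u : U' ⟶ G.U) : pullback u G.t ⟶ G.U :=
  pullback.snd u G.t ≫ G.s

variable [AlgebraicGeometry.IsNoetherian S] [LocallyOfFiniteType G.pU] [QuasiCompact G.pU]

theorem isNoetherian_U : AlgebraicGeometry.IsNoetherian G.U := by
  haveI : IsLocallyNoetherian G.U := LocallyOfFiniteType.isLocallyNoetherian G.pU
  haveI : CompactSpace G.U := QuasiCompact.compactSpace_of_compactSpace G.pU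
  exact {}

omit [AlgebraicGeometry.IsNoetherian S] [LocallyOfFiniteType G.pU] [QuasiCompact G.pU] in
theorem lqf_of_subsingleton {X Y : Scheme.{u}} (f : X ⟶ Y) [LocallyOfFiniteType f] [Subsingleton X] :
    LocallyQuasiFinite f := by
  rw [locallyQuasiFinite_iff_isDiscrete_preimage_singleton]
  intro y
  exact ⟨inferInstance⟩

/-- Finitely many arrows join a point closed in an open to a given point. -/
theorem finite_arrows [LocallyQuasiFinite G.j] [LocallyOfFiniteType G.s] [QuasiCompact G.s] (z : G.U)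
    [LocallyOfFiniteType (G.U.fromSpecResidueField z)] (x : G.U) :
    {r : G.R | G.s r = z ∧ G.t r = x}.Finite := by
  haveI := isNoetherian_U G
  have hte : QuasiCompact G.t := by
    rw [← G.i_s]
    haveI : IsIso G.i := ⟨G.i, L02.CMMor.i_i G, L02.CMMor.i_i G⟩
    infer_instance
  let k := G.U.fromSpecResidueField z
  haveI : Subsingleton (Spec (G.U.residueField z)) :=
    inferInstanceAs (Subsingleton (PrimeSpectrum (G.U.residueField z)))
  haveI : LocallyQuasiFinite k := lqf_of_subsingleton k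
  haveI : LocallyQuasiFinite (k ≫ G.pU) := lqf_of_subsingleton _
  let a : pullback G.s k ⟶ pullback G.pU (k ≫ G.pU) :=
    pullback.lift (pullback.fst _ _ ≫ G.t) (pullback.snd _ _) (by
      rw [Category.assoc, G.t_over, ← G.s_over, pullback.condition_assoc])
  let c : pullback G.pU (k ≫ G.pU) ⟶ pullback G.pU G.pU :=
    pullback.lift (pullback.fst _ _) (pullback.snd _ _ ≫ k) (by rw [Category.assoc, pullback.condition])
  have hac : a ≫ c = pullback.fst G.s k ≫ G.j := by
    apply pullback.hom_ext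
    · simp only [a, c, Grpd.GroupoidScheme.j, Category.assoc, pullback.lift_fst]
    · simp only [a, c, Grpd.GroupoidScheme.j, Category.assoc, pullback.lift_snd, pullback.lift_snd_assoc,
        pullback.condition]
  haveI : LocallyQuasiFinite (a ≫ c) := by rw [hac]; infer_instance
  haveI : LocallyQuasiFinite a := LocallyQuasiFinite.of_comp a c
  let m := pullback.fst G.s k ≫ G.t
  have hm : m = a ≫ pullback.fst _ _ := (pullback.lift_fst _ _ _).symm
  haveI : LocallyQuasiFinite m := by rw [hm]; infer_instance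
  haveI : QuasiCompact k := inferInstance
  haveI : QuasiCompact m := inferInstance
  refine ((m.finite_preimage_singleton x).image (pullback.fst G.s k)).subset ?_
  rintro r ⟨hr1, hr2⟩
  obtain ⟨w, hw, -⟩ := Scheme.Pullback.exists_preimage_pullback (f := G.s) (g := k) r
    (IsLocalRing.closedPoint (G.U.residueField z)) (by rw [hr1, Scheme.fromSpecResidueField_apply])
  exact ⟨w, by simp only [Set.mem_preimage, Set.mem_singleton_iff, m, Scheme.Hom.comp_apply, hw, hr2], hw⟩

variable [Flat G.s] [LocallyOfFiniteType G.s] [QuasiCompact G.s] [LocallyQuasiFinite G.j]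

/-- Over any nonempty open some subscheme is flat and quasi-finite over the objects at some arrow. -/
theorem exists_slice (O : G.U.Opens) (hO : (O : Set G.U).Nonempty) :
    ∃ (U' : Scheme.{u}) (_ : IsAffine U') (u : U' ⟶ G.U) (_ : IsImmersion u) (v : ↑(pullback u G.t)),
      Set.range u ⊆ O ∧ ((slc G u).stalkMap v).hom.Flat ∧ (slc G u).QuasiFiniteAt v := by
  haveI := isNoetherian_U G
  obtain ⟨z, hzO, C, hC, hCz⟩ : ∃ z ∈ O, ∃ C : Set G.U, IsClosed C ∧ C ∩ O = {z} := by
    haveI : CompactSpace (O : Set G.U) := isCompact_iff_compactSpace.1 (TopologicalSpace.NoetherianSpace.isCompact _)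
    haveI : Nonempty (O : Set G.U) := hO.to_subtype
    obtain ⟨⟨z, hz⟩, -, hcl⟩ := IsClosed.exists_closed_singleton (X := (O : Set G.U)) isClosed_univ Set.univ_nonempty
    obtain ⟨C, hC, hCz⟩ := isClosed_induced_iff.1 hcl
    refine ⟨z, hz, C, hC, ?_⟩
    ext w
    constructor
    · rintro ⟨hwC, hwO⟩
      have : (⟨w, hwO⟩ : (O : Set G.U)) ∈ Subtype.val ⁻¹' C := hwC
      rw [hCz] at this
      exact congrArg Subtype.val this
    · rintro rfl
      exact ⟨show (⟨w, hz⟩ : (O : Set G.U)) ∈ Subtype.val ⁻¹' C from hCz ▸ rfl, hz⟩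
  haveI : IsImmersion (G.U.fromSpecResidueField z) := by
    refine { toIsPreimmersion := inferInstance, isLocallyClosed_range := ?_ }
    rw [G.U.range_fromSpecResidueField, ← hCz]
    exact hC.isLocallyClosed.inter O.2.isLocallyClosed
  -- the affine pieces
  obtain ⟨_, ⟨V₀, hV₀, rfl⟩, hzV₀, -⟩ :=
    S.isBasis_affineOpens.exists_subset_of_mem_open (Set.mem_univ (G.pU z)) isOpen_univ
  change S.Opens at V₀
  obtain ⟨_, ⟨N, hN, rfl⟩, hzN, hNO⟩ :=
    G.U.isBasis_affineOpens.exists_subset_of_mem_open (show z ∈ O ⊓ G.pU ⁻¹ᵁ V₀ from ⟨hzO, hzV₀⟩) (O ⊓ G.pU ⁻¹ᵁ V₀).2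
  change G.U.Opens at N
  replace hN : IsAffineOpen N := hN
  have hez : G.t (G.e z) = z ∧ G.s (G.e z) = z :=
    ⟨congrArg (fun m : G.U ⟶ G.U => m z) G.e_t, congrArg (fun m : G.U ⟶ G.U => m z) G.e_s⟩
  obtain ⟨_, ⟨Y, hY, rfl⟩, hezY, hYN⟩ :=
    G.R.isBasis_affineOpens.exists_subset_of_mem_open
      (show G.e z ∈ G.t ⁻¹ᵁ N ⊓ G.s ⁻¹ᵁ N from ⟨show G.t (G.e z) ∈ N from hez.1.symm ▸ hzN,
        show G.s (G.e z) ∈ N from hez.2.symm ▸ hzN⟩) (G.t ⁻¹ᵁ N ⊓ G.s ⁻¹ᵁ N).2
  change G.R.Opens at Y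
  replace hY : IsAffineOpen Y := hY
  have hYt : Y ≤ G.t ⁻¹ᵁ N := fun y hy => (hYN hy).1
  have hYs : Y ≤ G.s ⁻¹ᵁ N := fun y hy => (hYN hy).2
  have hNV : N ≤ G.pU ⁻¹ᵁ V₀ := fun y hy => (hNO hy).2
  let φ := G.s.appLE N Y hYs
  let ψ := G.t.appLE N Y hYt
  let a := G.pU.appLE V₀ N hNV
  haveI : IsNoetherianRing Γ(G.U, N) := IsLocallyNoetherian.component_noetherian ⟨N, hN⟩
  haveI : IsLocallyNoetherian G.R := LocallyOfFiniteType.isLocallyNoetherian G.s
  haveI : IsNoetherianRing Γ(G.R, Y) := IsLocallyNoetherian.component_noetherian ⟨Y, hY⟩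
  letI : Algebra Γ(G.U, N) Γ(G.R, Y) := φ.hom.toAlgebra
  letI : Algebra Γ(S, V₀) Γ(G.U, N) := a.hom.toAlgebra
  letI : Algebra Γ(S, V₀) Γ(G.R, Y) := (a ≫ φ).hom.toAlgebra
  haveI : IsScalarTower Γ(S, V₀) Γ(G.U, N) Γ(G.R, Y) := IsScalarTower.of_algebraMap_eq fun _ => rfl
  haveI : Algebra.FiniteType Γ(S, V₀) Γ(G.U, N) := G.pU.finiteType_appLE hV₀ hN hNV
  haveI : Algebra.FiniteType Γ(G.U, N) Γ(G.R, Y) := G.s.finiteType_appLE hN hY hYs
  haveI : Module.Flat Γ(G.U, N) Γ(G.R, Y) := G.s.flat_appLE hN hY hYs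
  have hψa : a ≫ ψ = a ≫ φ := by
    simp only [a, φ, ψ, Scheme.Hom.appLE_comp_appLE, G.s_over, G.t_over]
  let ψ' : Γ(G.U, N) →ₐ[Γ(S, V₀)] Γ(G.R, Y) :=
    { toRingHom := ψ.hom, commutes' := fun r => congrArg (fun m => m r) hψa }
  -- the prime of `z`
  have hs : ∀ y, G.s (hY.fromSpec y) = hN.fromSpec (Spec.map φ y) := fun y => by
    rw [← Scheme.Hom.comp_apply, ← IsAffineOpen.SpecMap_appLE_fromSpec G.s hN hY hYs]; rfl
  have ht : ∀ y, G.t (hY.fromSpec y) = hN.fromSpec (Spec.map ψ y) := fun y => by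
    rw [← Scheme.Hom.comp_apply, ← IsAffineOpen.SpecMap_appLE_fromSpec G.t hN hY hYt]; rfl
  obtain ⟨pz, hpz⟩ : z ∈ Set.range hN.fromSpec := by rw [hN.range_fromSpec]; exact hzN
  have hmaxp : pz.asIdeal.IsMaximal := by
    rw [← PrimeSpectrum.isClosed_singleton_iff_isMaximal]
    have : ({pz} : Set _) = hN.fromSpec ⁻¹' C := by
      ext w
      constructor
      · rintro rfl
        show hN.fromSpec w ∈ C
        rw [hpz]
        exact (hCz.ge rfl).1
      · intro hw
        have h1 : hN.fromSpec w ∈ N := by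
          have : hN.fromSpec w ∈ Set.range hN.fromSpec := ⟨w, rfl⟩
          rwa [hN.range_fromSpec] at this
        exact hN.fromSpec.isOpenEmbedding.injective ((hCz.le ⟨hw, (hNO h1).1⟩ : hN.fromSpec w = z).trans hpz.symm)
    rw [this]
    exact hC.preimage hN.fromSpec.continuous
  let p := pz.asIdeal
  have hover : ∀ y : PrimeSpectrum Γ(G.R, Y),
      p.map (algebraMap Γ(G.U, N) Γ(G.R, Y)) ≤ y.asIdeal ↔ G.s (hY.fromSpec y) = z := fun y => by
    rw [hs, ← hpz, hN.fromSpec.isOpenEmbedding.injective.eq_iff, Ideal.map_le_iff_le_comap]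
    refine ⟨fun h => PrimeSpectrum.ext ((hmaxp.eq_of_le (Ideal.comap_ne_top _ y.2.ne_top) h).symm), fun h => ?_⟩
    exact (congrArg PrimeSpectrum.asIdeal h).ge
  obtain ⟨y₀, hy₀⟩ : G.e z ∈ Set.range hY.fromSpec := by rw [hY.range_fromSpec]; exact hezY
  have hy₀p := (hover y₀).2 (by rw [hy₀]; exact hez.2)
  -- cut
  obtain ⟨J, q, hq, hJq, hflat, hfin⟩ := exists_cut p ψ'.toRingHom
    (ne_top_of_le_ne_top y₀.2.ne_top hy₀p)
    (fun n q hn hq hnp hqp h => comap_eq_of_le p ψ' hnp hqp h)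
    (fun x => by
      by_cases hx : x.IsPrime
      · refine ((finite_arrows G z (hN.fromSpec ⟨x, hx⟩)).preimage
          (f := fun y : PrimeSpectrum Γ(G.R, Y) => hY.fromSpec y)
          hY.fromSpec.isOpenEmbedding.injective.injOn |>.image PrimeSpectrum.asIdeal).subset ?_
        rintro q ⟨hq, hqp, hqx⟩
        refine ⟨⟨q, hq⟩, ⟨(hover ⟨q, hq⟩).1 hqp, ?_⟩, rfl⟩
        rw [ht]
        exact congrArg _ (PrimeSpectrum.ext hqx)
      · refine Set.Finite.subset Set.finite_empty ?_
        rintro q ⟨hq, -, hqx⟩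
        exact hx (hqx ▸ Ideal.IsPrime.comap _))
  let I := J.map ψ'.toRingHom
  let B' := Γ(G.R, Y) ⧸ I
  let π : Γ(G.R, Y) ⟶ CommRingCat.of B' := CommRingCat.ofHom (Ideal.Quotient.mk I)
  let πA : Γ(G.U, N) ⟶ CommRingCat.of (Γ(G.U, N) ⧸ J) := CommRingCat.ofHom (Ideal.Quotient.mk J)
  let ψq : CommRingCat.of (Γ(G.U, N) ⧸ J) ⟶ CommRingCat.of B' :=
    CommRingCat.ofHom (Ideal.quotientMap I ψ'.toRingHom Ideal.le_comap_map)
  let u : Spec (CommRingCat.of (Γ(G.U, N) ⧸ J)) ⟶ G.U := Spec.map πA ≫ hN.fromSpec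
  haveI : IsClosedImmersion (Spec.map πA) := IsClosedImmersion.spec_of_surjective _ Ideal.Quotient.mk_surjective
  have hpush : IsPushout ψ πA π ψq := by
    refine IsPushout.of_isColimit' ⟨rfl⟩ (PushoutCocone.IsColimit.mk _
      (fun s => CommRingCat.ofHom (Ideal.Quotient.lift I s.inl.hom fun b hb => ?_)) ?_ ?_ ?_)
    · refine (Ideal.map_le_iff_le_comap.2 (fun c hc => ?_) : I ≤ RingHom.ker s.inl.hom) hb
      rw [Ideal.mem_comap, RingHom.mem_ker]
      refine (congrArg (fun m => m c) s.condition).trans ?_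
      show s.inr.hom (Ideal.Quotient.mk J c) = 0
      rw [Ideal.Quotient.eq_zero_iff_mem.2 hc, map_zero]
    · intro s; ext b; rfl
    · intro s; ext b
      exact congrArg (fun m => m b) s.condition
    · intro s m hm _
      ext b
      exact congrArg (fun m => m b) hm
  have hsq := isPullback_SpecMap_of_isPushout ψ πA π ψq hpush
  let c₁ := hsq.flip.isoPullback
  let c₂ : pullback (Spec.map πA) (Spec.map ψ) ⟶ pullback u G.t :=
    pullback.map _ _ _ _ (𝟙 _) hY.fromSpec hN.fromSpec (by simp [u])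
      (IsAffineOpen.SpecMap_appLE_fromSpec G.t hN hY hYt)
  let c := c₁.hom ≫ c₂
  have hc : c ≫ slc G u = Spec.map (φ ≫ π) ≫ hN.fromSpec := by
    simp only [c, c₁, c₂, slc, pullback.map, Category.assoc, pullback.lift_snd_assoc]
    rw [IsPullback.isoPullback_hom_snd_assoc, Spec.map_comp, Category.assoc,
      IsAffineOpen.SpecMap_appLE_fromSpec G.s hN hY hYs]
  have hqI : I ≤ q := le_sup_right.trans hJq
  haveI : (q.map (Ideal.Quotient.mk I)).IsPrime :=
    Ideal.map_isPrime_of_surjective Ideal.Quotient.mk_surjective (by rwa [Ideal.mk_ker])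
  let q' : PrimeSpectrum B' := ⟨q.map (Ideal.Quotient.mk I), inferInstance⟩
  have hq' : q'.asIdeal.comap (Ideal.Quotient.mk I) = q := by
    rw [Ideal.comap_map_of_surjective' _ Ideal.Quotient.mk_surjective, Ideal.mk_ker, sup_eq_left.2 hqI]
  refine ⟨_, inferInstance, u, inferInstance, c q', ?_, ?_, ?_⟩
  · rintro _ ⟨w, rfl⟩
    have : hN.fromSpec (Spec.map πA w) ∈ Set.range hN.fromSpec := ⟨_, rfl⟩
    rw [hN.range_fromSpec] at this
    exact (hNO this).1
  · have hR := (RingHom.toMorphismProperty_respectsIso_iff (P := fun f => RingHom.Flat f)).mp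
      RingHom.Flat.respectsIso
    have h0 : ((Spec.map (φ ≫ π)).stalkMap q').hom.Flat :=
      ((RingHom.toMorphismProperty fun f => RingHom.Flat f).arrow_mk_iso_iff
        (Scheme.arrowStalkMapSpecIso (φ ≫ π) q')).2
        (flat_localRingHom_quotient (A := Γ(G.U, N)) I q q'.asIdeal hq' hflat)
    have h1 : ((c ≫ slc G u).stalkMap q').hom.Flat := by
      rw [hc, Scheme.Hom.stalkMap_comp]
      exact RingHom.Flat.comp (RingHom.Flat.of_bijective (ConcreteCategory.bijective_of_isIso (hN.fromSpec.stalkMap _))) h0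
    exact Groth.L19.flat_stalkMap_of_comp c (slc G u) q'
      (RingHom.Flat.of_bijective (ConcreteCategory.bijective_of_isIso (c.stalkMap q'))) h1
  · haveI : LocallyOfFiniteType (Spec.map (φ ≫ π)) := by
      rw [HasRingHomProperty.Spec_iff (P := @LocallyOfFiniteType)]
      exact RingHom.FiniteType.comp (RingHom.FiniteType.of_surjective _ Ideal.Quotient.mk_surjective)
        (G.s.finiteType_appLE hN hY hYs)
    rw [← Scheme.Hom.quasiFiniteAt_comp_iff_of_isOpenImmersion (f := c), hc, Scheme.Hom.quasiFiniteAt_comp_iff]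
    refine Groth.L19.GenericFinite.quasiFiniteAt_of_finite_fibre _ _ ?_
    refine ((hfin.preimage (f := fun y : PrimeSpectrum B' => y.asIdeal.comap (Ideal.Quotient.mk I))
      ((Ideal.comap_injective_of_surjective _ Ideal.Quotient.mk_surjective).comp
        (fun _ _ => PrimeSpectrum.ext)).injOn)).subset fun y hy => ⟨Ideal.IsPrime.comap _, ?_⟩
    have hI : I ≤ y.asIdeal.comap (Ideal.Quotient.mk I) := fun b hb => by
      rw [Ideal.mem_comap, Ideal.Quotient.eq_zero_iff_mem.2 hb]; exact zero_mem _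
    refine sup_le (Ideal.map_le_iff_le_comap.2 fun x hx => ?_) hI
    have : (q'.asIdeal.comap (φ ≫ π).hom) = (y.asIdeal.comap (φ ≫ π).hom) :=
      (congrArg PrimeSpectrum.asIdeal hy).symm
    show x ∈ y.asIdeal.comap (φ ≫ π).hom
    rw [← this]
    show algebraMap _ _ x ∈ q'.asIdeal.comap (Ideal.Quotient.mk I)
    rw [hq']
    exact (le_sup_left.trans hJq) (Ideal.mem_map_of_mem _ hx)

end Groth.L24.GenQuot
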